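import Cfsg.Agent.H3.A7a
import Cfsg.Agent.H7.ZStar
import Cfsg.Agent.S0991

/-!
# Simple groups of order 2520: the subgroup of index seven
-/

set_option autoImplicit false

namespace Cfsg.Agent.H3

open Finset Subgroup Cfsg.Agent.L0 Cfsg.Agent.H6 Cfsg.Agent.H6.Sieve
open scoped ComplexConjugate

section general

variable {G : Type*} [Group G] [Finite G] {p : ℕ} [hp : Fact p.Prime]

theorem card_eq_mul_sylow (P : Sylow p G) {L : Subgroup G} (hP : (P : Subgroup G) ≤ L) :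
    ∃ n, n % p = 1 ∧ Nat.card L =
      n * Nat.card (normalizer ((P : Subgroup G) : Set G) ⊓ L : Subgroup G) := by
  have h1 := card_sylow_mul_card_normalizer (P.subtype hP)
  refine ⟨_, Eq.trans (card_sylow_modEq_one p L) (Nat.mod_eq_of_lt hp.out.one_lt), ?_⟩
  rw [← h1, Sylow.coe_subtype, ← subgroupOf_normalizer_eq hP, ← inf_subgroupOf_right]
  congr 1
  exact Nat.card_congr (subgroupOfEquivOfLe inf_le_right).toEquiv

theorem isSylowIn_zpowers {K : Subgroup G} (hK : ¬ p ^ 2 ∣ Nat.card K) {a : G} (ha : a ∈ K)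
    (h : orderOf a = p) : H8.IsSylowIn p (zpowers a) K := by
  refine ⟨zpowers_le.mpr ha, IsPGroup.of_card (n := 1) (by rw [Nat.card_zpowers, h, pow_one]),
    fun Q h1 h2 h3 => (eq_of_le_of_card_ge h3 ?_).symm⟩
  obtain ⟨n, hn⟩ := IsPGroup.iff_card.mp h2
  have h4 : n ≤ 1 := by
    by_contra h4
    exact hK ((pow_dvd_pow p (by omega)).trans (hn ▸ card_dvd_of_le h1))
  rw [hn, Nat.card_zpowers, h]
  exact (Nat.pow_le_pow_right hp.out.pos h4).trans_eq (pow_one p)

theorem exists_conj_mem_zpowers {K : Subgroup G} (hK : ¬ p ^ 2 ∣ Nat.card K) {a b : G} (ha : a ∈ K)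
    (hb : b ∈ K) (h1 : orderOf a = p) (h2 : orderOf b = p) : ∃ k ∈ K, k * a * k⁻¹ ∈ zpowers b := by
  obtain ⟨k, hk, h3⟩ := (isSylowIn_zpowers hK ha h1).exists_cj_eq (isSylowIn_zpowers hK hb h2)
  exact ⟨k, hk, h3 ▸ H8.conj_mem_cj k (mem_zpowers a)⟩

omit hp in
theorem free_of_card_24 [Fact (Nat.Prime 3)] (P : Sylow 3 G) (hP : Nat.card P = 9) {W : Subgroup G}
    (hW : Nat.card W = 4) (hN : (P : Subgroup G) ⊔ W = normalizer ((P : Subgroup G) : Set G))
    (h24 : ∀ s : G, orderOf s = 2 → Nat.card (centralizer ({s} : Set G)) = 24)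
    (hc : ∀ s t : G, orderOf s = 2 → orderOf t = 2 → IsConj s t) :
    ∀ w ∈ W, w ≠ 1 → ∀ y ∈ (P : Subgroup G), y * w = w * y → y = 1 := by
  classical
  have : Fact (Nat.Prime 2) := ⟨Nat.prime_two⟩
  have hWN : W ≤ normalizer ((P : Subgroup G) : Set G) := hN ▸ le_sup_right
  have cP : ∀ a ∈ (P : Subgroup G), ∀ b ∈ (P : Subgroup G), a * b = b * a := fun a ha b hb =>
    congrArg Subtype.val ((IsPGroup.isMulCommutative_of_card_eq_prime_sq (p := 3)
      (G := (P : Subgroup G)) hP).is_comm.comm ⟨a, ha⟩ ⟨b, hb⟩)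
  have cW : ∀ a ∈ W, ∀ b ∈ W, a * b = b * a := fun a ha b hb =>
    congrArg Subtype.val ((IsPGroup.isMulCommutative_of_card_eq_prime_sq (p := 2)
      (G := W) hW).is_comm.comm ⟨a, ha⟩ ⟨b, hb⟩)
  have h1 : ∀ w ∈ W, w ≠ 1 → ∀ y, y * w = w * y → ∃ s ∈ W, orderOf s = 2 ∧ y * s = s * y :=
    fun w hw hw1 y hy => by
      obtain ⟨s, hs, hs2⟩ := exists_mem_orderOf (H := zpowers w) Nat.prime_two (by
        obtain ⟨j, -, hj⟩ := (Nat.dvd_prime_pow Nat.prime_two (m := 2)).mp
          (hW ▸ W.orderOf_dvd_natCard hw : orderOf w ∣ 4)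
        rw [Nat.card_zpowers, hj]
        exact dvd_pow_self 2 fun h => hw1 (orderOf_eq_one_iff.mp (by rw [hj, h, pow_zero])))
      obtain ⟨i, rfl⟩ := mem_zpowers_iff.mp hs
      exact ⟨_, zpow_mem hw i, hs2, Commute.zpow_right hy i⟩
  have h2 : ∀ R : Subgroup G, R ≤ P → R ≠ P → ∀ y ∈ R, y ≠ 1 → R = zpowers y ∧ orderOf y = 3 :=
    fun R h2 h3 y hy hy1 => by
      obtain ⟨j, hj, h4⟩ := (Nat.dvd_prime_pow Nat.prime_three (m := 2)).mp
        (hP ▸ card_dvd_of_le h2 : Nat.card R ∣ 9)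
      interval_cases j
      · exact absurd (by simpa [card_eq_one.mp h4] using hy) hy1
      · exact ⟨eq_zpowers_of_card_prime h4 hy hy1, orderOf_eq_of_card_prime h4 hy hy1⟩
      · exact absurd (eq_of_le_of_card_ge h2 (by rw [h4, hP]; rfl)) h3
  have h3 : ∀ s, orderOf s = 2 → (P : Subgroup G) ⊓ centralizer ({s} : Set G) ≠ P :=
    fun s hs h3 => absurd (card_dvd_of_le (inf_eq_left.mp h3)) (by rw [hP, h24 s hs]; decide)
  intro w hw hw1 y hy hyw
  by_contra y1
  obtain ⟨s, hs, hs2, hys⟩ := h1 w hw hw1 y hyw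
  have hss := H9.mul_self_of_orderOf_two hs2
  obtain ⟨h4, oy⟩ := h2 _ inf_le_left (h3 s hs2) y ⟨hy, mem_centralizer_singleton_iff.mpr hys⟩ y1
  let R : Subgroup G :=
    { carrier := {g | g ∈ (P : Subgroup G) ∧ s * g * s⁻¹ = g⁻¹}
      mul_mem' := fun {a b} ha hb => ⟨mul_mem ha.1 hb.1, by
        rw [← conj_mul, ha.2, hb.2, cP _ ha.1 _ hb.1, mul_inv_rev]⟩
      one_mem' := ⟨one_mem _, by simp⟩
      inv_mem' := fun {a} ha => ⟨inv_mem ha.1, by rw [← conj_inv, ha.2]⟩ }
  have h5 : ∀ g ∈ zpowers y, g ∈ R → g = 1 := fun g h5 h6 => by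
    rw [← h4] at h5
    have h7 : g = g⁻¹ := by
      rw [← h6.2, ← mem_centralizer_singleton_iff.mp h5.2, mul_inv_cancel_right]
    refine orderOf_eq_one_iff.mp (Nat.eq_one_of_dvd_coprimes (show Nat.Coprime 2 9 by decide)
      (orderOf_dvd_of_pow_eq_one (by rw [sq, ← eq_inv_iff_mul_eq_one, ← h7]))
      (hP ▸ Subgroup.orderOf_dvd_natCard _ h6.1))
  obtain ⟨q, hq, hqs⟩ := SetLike.not_le_iff_exists.mp fun h => h3 s hs2 (inf_eq_left.mpr h)
  have h6 : q⁻¹ * (s * q * s⁻¹) ∈ R := ⟨mul_mem (inv_mem hq)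
    (H9.conj_mem_of_mem_normalizer (hWN hs) hq), by
      rw [← conj_mul, inv_eq_of_mul_eq_one_left hss]
      simp only [mul_inv_rev, inv_inv, inv_eq_of_mul_eq_one_left hss, mul_assoc, hss, mul_one]
      rw [← mul_assoc s s, hss, one_mul]⟩
  have h7 : q⁻¹ * (s * q * s⁻¹) ≠ 1 := fun h7 => hqs (mem_centralizer_singleton_iff.mpr
    (eq_mul_inv_iff_mul_eq.mp (inv_mul_eq_one.mp h7)))
  generalize q⁻¹ * (s * q * s⁻¹) = z at h6 h7
  obtain ⟨h8, oz⟩ := h2 R (fun g hg => hg.1) (fun h8 => y1 (h5 y (mem_zpowers y) (h8 ▸ hy))) z h6 h7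
  obtain ⟨v, hv, hv1, hzv⟩ : ∃ v ∈ W, v ≠ 1 ∧ z * v = v * z := by
    obtain ⟨v, hv, h9⟩ := SetLike.not_le_iff_exists.mp fun h : W ≤ zpowers s =>
      absurd (card_le_of_le h) (by rw [hW, Nat.card_zpowers, hs2]; decide)
    have h10 : v * z * v⁻¹ ∈ zpowers z := h8 ▸ (⟨H9.conj_mem_of_mem_normalizer (hWN hv) h6.1, by
      calc s * (v * z * v⁻¹) * s⁻¹ = (s * v) * z * (s * v)⁻¹ := by group
        _ = v * (s * z * s⁻¹) * v⁻¹ := by rw [cW s hs v hv]; group
        _ = _ := by rw [h6.2, conj_inv]⟩ : v * z * v⁻¹ ∈ R)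
    obtain ⟨i, hi, h11⟩ := mem_image.mp (mem_zpowers_iff_mem_range_orderOf.mp h10)
    rw [oz, mem_range] at hi
    interval_cases i
    · exact absurd (conj_eq_one_iff.mp (h11.symm.trans (pow_zero z))) h7
    · exact ⟨v, hv, fun h => h9 (h ▸ one_mem _), eq_mul_inv_iff_mul_eq.mp ((pow_one z).symm.trans h11)⟩
    · refine ⟨s * v, mul_mem hs hv, fun h => h9 (eq_inv_of_mul_eq_one_right h ▸
        inv_mem (mem_zpowers s)), eq_mul_inv_iff_mul_eq.mp ?_⟩
      have h12 : z ^ 2 = z⁻¹ := eq_inv_of_mul_eq_one_left (by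
        rw [← pow_succ, ← pow_orderOf_eq_one z, oz])
      calc z = s * (z ^ 2) * s⁻¹ := by rw [h12, ← conj_inv, h6.2, inv_inv]
        _ = _ := by rw [h11]; group
  obtain ⟨t, -, ht2, hzt⟩ := h1 v hv hv1 z hzv
  obtain ⟨g, rfl⟩ := isConj_iff.mp (hc s t hs2 ht2)
  obtain ⟨k, -, h9⟩ := exists_conj_mem_zpowers (p := 3) (K := centralizer {g * s * g⁻¹})
    (by rw [h24 _ ht2]; decide) (a := g * y * g⁻¹) (mem_centralizer_singleton_iff.mpr (by
      rw [conj_mul, conj_mul, hys])) (mem_centralizer_singleton_iff.mpr hzt)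
    ((H9.orderOf_conj g y).trans oy) oz
  rw [show k * (g * y * g⁻¹) * k⁻¹ = k * g * y * (k * g)⁻¹ by group, ← h8] at h9
  obtain ⟨n, hn, h10⟩ := burnside_fusion P (x := y) (g := k * g) (fun a ha => cP a ha y hy)
    fun a ha => cP a ha _ h9.1
  rw [← h10] at h9
  obtain ⟨a, ha, b, hb, rfl⟩ := (H9.mem_sup_of_le_normalizer' hWN).mp (hN ▸ hn)
  have h11 := H9.conj_mem_of_mem_normalizer (hWN hb) hy
  rw [show a * b * y * (a * b)⁻¹ = a * (b * y * b⁻¹) * a⁻¹ by group, cP a ha _ h11,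
    mul_inv_cancel_right] at h9
  refine y1 (conj_eq_one_iff.mp (h5 _ (h4 ▸ ⟨h11, mem_centralizer_singleton_iff.mpr ?_⟩) h9))
  calc b * y * b⁻¹ * s = b * (y * (b⁻¹ * s * b)) * b⁻¹ := by group
    _ = s * b * y * b⁻¹ := by
      rw [cW _ (inv_mem hb) s hs, inv_mul_cancel_right, hys, cW s hs b hb]; group
    _ = _ := by group

omit hp in
theorem exists_two_invol [IsSimpleGroup G] (hG : ¬ IsMulCommutative G) [Fact (Nat.Prime 2)]
    (T : Sylow 2 G) (h : 2 ∣ Nat.card T) :
    ∃ s ∈ (T : Subgroup G), ∃ t ∈ (T : Subgroup G), orderOf s = 2 ∧ orderOf t = 2 ∧ s ≠ t := by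
  by_contra h1
  obtain ⟨s, -, hs⟩ := exists_mem_orderOf (H := (T : Subgroup G)) Nat.prime_two h
  rcases (H7.isolated_of_unique_involution T (fun x hx y hy h2 h3 => by_contra fun h4 =>
    h1 ⟨x, hx, y, hy, h2, h3, h4⟩) hs).eq_one_or_comm with h2 | h2
  exacts [H9.ne_one_of_orderOf_two hs h2, hG h2]

end general

namespace A7

variable {G : Type*} [Group G] [Finite G] [IsSimpleGroup G] (h : Nat.card G = 2520)
include h

theorem exists_index : ∃ M : Subgroup G, M.index = 7 := by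
  classical
  have : Fact (Nat.Prime 2) := ⟨by norm_num⟩
  have : Fact (Nat.Prime 3) := ⟨by norm_num⟩
  have : Fact (Nat.Prime 5) := ⟨by norm_num⟩
  have : Fact (Nat.Prime 7) := ⟨by norm_num⟩
  obtain ⟨D⟩ := nonempty_setup (G := G) (p := 7) (by rw [h]; decide) (by rw [h]; decide)
  obtain ⟨E⟩ := nonempty_setup (G := G) (p := 5) (by rw [h]; decide) (by rw [h]; decide)
  obtain ⟨-, -, -, hK, c₁, c₂, χ, χ₂, ψ₁, ψ₂, ψ₃, hB, hC⟩ := blocks h D E
  obtain ⟨P⟩ := (inferInstance : Nonempty (Sylow 3 G))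
  have hP : Nat.card P = 9 := by
    rw [P.card_eq_multiplicity, h, show 2520 = 3 ^ 2 * 280 from rfl,
      Nat.factorization_mul (by norm_num) (by norm_num), Finsupp.add_apply,
      Nat.factorization_pow_self (by norm_num), Nat.factorization_eq_zero_of_not_dvd (by norm_num)]
    rfl
  have hT : ∀ T : Sylow 2 G, Nat.card T = 8 := fun T => by
    rw [T.card_eq_multiplicity, h, show 2520 = 2 ^ 3 * 315 from rfl,
      Nat.factorization_mul (by norm_num) (by norm_num), Finsupp.add_apply,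
      Nat.factorization_pow_self (by norm_num), Nat.factorization_eq_zero_of_not_dvd (by norm_num)]
    rfl
  have hN : Nat.card (normalizer ((P : Subgroup G) : Set G)) = 36 := by
    have h1 := card_sylow_mul_card_normalizer P
    have h2 := card_sylow_modEq_one 3 G
    have h3 := not_dvd_card_normalizer (p := 5) (H := P) (by rw [h]; decide)
      (fun E => (blocks h D E).2.2.2.1) (by rw [hP]; decide) (by rw [hP]; decide)
    have h4 := not_dvd_card_normalizer (p := 7) (H := P) (by rw [h]; decide)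
      (fun D => (blocks h D E).2.1) (by rw [hP]; decide) (by rw [hP]; decide)
    have h5 : Nat.card (normalizer ((P : Subgroup G) : Set G)) ≠ 9 := fun h5 =>
      relIndex_centralizer_ne_one (perfect_of_simple (ncomm h)) (by rw [h]; decide) P
        (relIndex_eq_one.mpr (by
          rw [← eq_of_le_of_card_ge le_normalizer (by rw [h5, hP])]
          have := IsPGroup.isMulCommutative_of_card_eq_prime_sq (p := 3) (G := (P : Subgroup G)) hP
          exact le_centralizer _))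
    obtain ⟨m, hm⟩ : 9 ∣ Nat.card (normalizer ((P : Subgroup G) : Set G)) :=
      hP ▸ card_dvd_of_le le_normalizer
    rw [h] at h1
    rw [hm] at h1 h3 h4 h5 ⊢
    generalize Nat.card (Sylow 3 G) = n at h1 h2
    have h6 : m ∣ 8 := by
      have h6 : m ∣ 5 * (7 * 8) := ⟨n, by linarith⟩
      exact Nat.Coprime.dvd_of_dvd_mul_left ((Nat.Prime.coprime_iff_not_dvd (by norm_num)).mpr
        fun h => h4 (h.mul_left 9)).symm (Nat.Coprime.dvd_of_dvd_mul_left
          ((Nat.Prime.coprime_iff_not_dvd (by norm_num)).mpr fun h => h3 (h.mul_left 9)).symm h6)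
    have h7 := Nat.le_of_dvd (by norm_num) h6
    unfold Nat.ModEq at h2
    interval_cases m <;> omega
  obtain ⟨W', hW'⟩ := Sylow.exists_subgroup_card_pow_prime
    (G := normalizer ((P : Subgroup G) : Set G)) 2 (n := 2) (by rw [hN]; decide)
  have hW : Nat.card (W'.map (normalizer ((P : Subgroup G) : Set G)).subtype) = 4 := by
    rw [Subgroup.card_subtype, hW']; rfl
  have hWN := map_subtype_le W'
  generalize W'.map (normalizer ((P : Subgroup G) : Set G)).subtype = W at hW hWN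
  have hPW : (P : Subgroup G) ⊔ W = normalizer ((P : Subgroup G) : Set G) :=
    eq_of_le_of_card_ge (sup_le le_normalizer hWN) (by
      rw [card_sup hWN (disjoint_of_coprime_natCard (by rw [hP, hW]; decide)).eq_bot, hP, hW, hN])
  have hf := free_of_card_24 P hP hW hPW (fun s hs => (invol h hB hC E hs).1) fun s t hs ht => by
    obtain ⟨-, -, -, s', h1, h2⟩ := invol h hB hC E hs
    obtain ⟨-, -, -, t', h3, h4⟩ := invol h hB hC E ht
    exact (h2.trans (isConj_of_inverts (by rw [E.hx]; decide) (mem_zpowers_of_K hK) h1 h3)).trans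
      h4.symm
  obtain ⟨T, hWT⟩ := (IsPGroup.of_card (p := 2) (n := 2) hW).exists_le_sylow
  obtain ⟨_, _, h0, h1, -⟩ := forall₂_two hB.sg
  obtain ⟨rfl, -⟩ : χ = _ ∧ χ₂ = _ := by simpa using h0
  have hχ := irr_isChar χ
  have e1 := fx_frob hχ hWN hf
  have e2 : 2 ≤ fx χ.1 T := by
    obtain ⟨s, hs, t, ht, hs2, ht2, hst⟩ := exists_two_invol (ncomm h) T (by rw [hT]; decide)
    let v : G → ℕ := fun g => if g = 1 then 6 else if orderOf g = 2 then 2 else 0
    have h2 := sum_els_eq hχ T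
    rw [sum_congr rfl (g := fun g => (v g : ℂ)) fun g hg => ?_, hT] at h2
    · have h3 : ∑ g ∈ els (T : Subgroup G), v g = 8 * fx χ.1 T := by exact_mod_cast h2
      have h4 := sum_le_sum_of_subset (f := v) (s := {1, s, t}) (t := els (T : Subgroup G))
        (by simp [insert_subset_iff, mem_els, hs, ht, one_mem])
      have h5 := H9.ne_one_of_orderOf_two hs2
      have h6 := H9.ne_one_of_orderOf_two ht2
      rw [sum_insert (by simp [h5.symm, h6.symm]), sum_pair hst, h3] at h4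
      simp only [v, if_true, if_neg h5, if_neg h6, hs2, ht2] at h4
      omega
    · rw [mem_els] at hg
      obtain ⟨j, hj, h3⟩ := (Nat.dvd_prime_pow Nat.prime_two (m := 3)).mp
        (hT T ▸ Subgroup.orderOf_dvd_natCard _ hg : orderOf g ∣ 8)
      interval_cases j
      · rw [orderOf_eq_one_iff.mp h3, h1.one]; simp [v]
      · simp [v, H9.ne_one_of_orderOf_two h3, h3, (val_invol h hB hC h3).1]
      · have h4 : g ≠ 1 := by rintro rfl; simp at h3
        simp [v, h4, h3, val_four h hB hC h3]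
      · exfalso
        have h4 : zpowers g = T := eq_of_le_of_card_ge (zpowers_le.mpr hg) (by
          rw [Nat.card_zpowers, h3, hT]; rfl)
        have h5 : ∀ s ∈ (T : Subgroup G), orderOf s = 2 → s = g ^ 4 := fun s hs hs2 => by
          obtain ⟨i, hi, rfl⟩ := mem_image.mp (mem_zpowers_iff_mem_range_orderOf.mp (h4 ▸ hs))
          rw [orderOf_pow, h3] at hs2
          rw [h3, mem_range] at hi
          interval_cases i <;> first | rfl | simp at hs2
        exact hst ((h5 s hs hs2).trans (h5 t ht ht2).symm)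
  rw [hW, h1.one] at e1
  have e3 : 4 * fx χ.1 ((P : Subgroup G) ⊔ W) + 6 = fx χ.1 P + 4 * fx χ.1 W := by exact_mod_cast e1
  have h2 := sup_ne_top (χ := χ) (fun h2 => by have := h1.dg; simp [h2, deg_irrOne] at this)
    (le_sup_right : W ≤ (P : Subgroup G) ⊔ W) hWT (by omega)
  set M := (P : Subgroup G) ⊔ W ⊔ T
  obtain ⟨n, h3, h4⟩ := card_eq_mul_sylow P (L := M) (le_sup_left.trans le_sup_left)
  rw [inf_eq_left.mpr (hPW ▸ le_sup_left), hN] at h4
  have h5 : 8 ∣ Nat.card M := hT T ▸ card_dvd_of_le le_sup_right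
  have h6 := M.index_mul_card
  have h7 : M.index ≠ 1 := fun h7 => h2 (index_eq_one.mp h7)
  refine ⟨M, ?_⟩
  rw [h4] at h5 h6
  rw [h] at h6
  have h8 : M.index * n = 70 := by linarith
  have h9 := Nat.le_of_dvd (by norm_num) (Dvd.intro_left _ h8)
  interval_cases n <;> omega

theorem nonempty_equiv : Nonempty (G ≃* alternatingGroup (Fin 7)) := by
  obtain ⟨M, hM⟩ := exists_index h
  have h1 := S0991.result (ncomm h) M (fun h1 => by simp [h1] at hM)
  rw [hM] at h1
  obtain ⟨f, hf⟩ := h1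
  refine ⟨MulEquiv.ofBijective f ((Nat.bijective_iff_injective_and_card f).mpr ⟨hf, ?_⟩)⟩
  rw [h, nat_card_alternatingGroup]
  simp [Nat.factorial]

end A7

end Cfsg.Agent.H3
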