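import Cfsg.Agent.H3.Fix

/-!
# Groups acting on twelve points with an eleven-cycle
-/

set_option autoImplicit false

namespace Cfsg.Agent.H3

open Subgroup Equiv MulAction Cfsg.Agent.H6

namespace P12

/-- The eleven-cycle. -/
def X : Perm (Fin 12) :=
  ⟨![1, 2, 3, 4, 5, 6, 7, 8, 9, 10, 0, 11], ![10, 0, 1, 2, 3, 4, 5, 6, 7, 8, 9, 11],
    by decide, by decide⟩

/-- Multiplication by two. -/
def T : Perm (Fin 12) :=
  ⟨![0, 2, 4, 6, 8, 10, 1, 3, 5, 7, 9, 11], ![0, 6, 1, 7, 2, 8, 3, 9, 4, 10, 5, 11],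
    by decide, by decide⟩

/-- Multiplication by three. -/
def F : Perm (Fin 12) :=
  ⟨![0, 3, 6, 9, 1, 4, 7, 10, 2, 5, 8, 11], ![0, 4, 8, 1, 5, 9, 2, 6, 10, 3, 7, 11],
    by decide, by decide⟩

/-- Affine maps on codes of points. -/
def af (a b c : ℕ) : ℕ := if c = 11 then 11 else (a * c + b) % 11

theorem af_ne {a b c : ℕ} (h : c ≠ 11) : af a b c ≠ 11 := by
  rw [af, if_neg h]; omega

theorem pow_val {g : Perm (Fin 12)} {a b : ℕ} {A B : ℕ → ℕ} (h : ∀ c, (g c).val = af a b c)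
    (h0 : A 0 = 1 ∧ B 0 = 0) (h1 : ∀ m, A (m + 1) = a * A m ∧ B (m + 1) = a * B m + b) (m : ℕ)
    (c : Fin 12) : ((g ^ m) c).val = af (A m) (B m) c := by
  induction m with
  | zero =>
    have := c.2
    rw [pow_zero, Perm.one_apply, h0.1, h0.2, af]
    split_ifs <;> omega
  | succ m ih =>
    rw [pow_succ', Perm.mul_apply, h, ih, (h1 m).1, (h1 m).2]
    by_cases hc : c.val = 11
    · simp [af, hc]
    · rw [af, if_neg (af_ne hc), af, af, if_neg hc, if_neg hc, Nat.add_mod, Nat.mul_mod,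
        Nat.mod_mod, ← Nat.mul_mod, ← Nat.add_mod]
      congr 1
      ring

theorem X_pow (m : ℕ) (c : Fin 12) : ((X ^ m) c).val = af 1 m c :=
  pow_val (a := 1) (b := 1) (A := fun _ => 1) (B := fun m => m) (by decide) ⟨rfl, rfl⟩
    (fun m => ⟨rfl, by simp⟩) m c

theorem T_pow (m : ℕ) (c : Fin 12) : ((T ^ m) c).val = af (2 ^ m) 0 c :=
  pow_val (a := 2) (b := 0) (A := fun m => 2 ^ m) (B := fun _ => 0) (by decide) ⟨rfl, rfl⟩
    (fun m => ⟨by ring, rfl⟩) m c

theorem F_pow (m : ℕ) (c : Fin 12) : ((F ^ m) c).val = af (3 ^ m) 0 c :=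
  pow_val (a := 3) (b := 0) (A := fun m => 3 ^ m) (B := fun _ => 0) (by decide) ⟨rfl, rfl⟩
    (fun m => ⟨by ring, rfl⟩) m c

/-- A permutation given by a function on codes. -/
def Rep (g : Perm (Fin 12)) (u : ℕ → ℕ) : Prop := ∀ i : Fin 12, (g i).val = u i

theorem Rep.ext {g h : Perm (Fin 12)} {u : ℕ → ℕ} (h1 : Rep g u) (h2 : Rep h u) : g = h :=
  Equiv.ext fun i => Fin.ext ((h1 i).trans (h2 i).symm)

/-- Discrete logarithms. -/
def lg (i : ℕ) : ℕ := 0x32421341000 / 16 ^ i % 16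

/-- Squares. -/
def sq (i : ℕ) : Bool := 570 / 2 ^ i % 2 == 1

/-- Candidates for a permutation normalising `F`. -/
def cf (r a b c d i : ℕ) : ℕ :=
  if i = 0 then a else if i = 11 then b else
    bif sq i then af (3 ^ (r * lg i)) 0 c else af (3 ^ (r * lg i)) 0 d

theorem conj_val {g : Perm (Fin 12)} {r : ℕ} (h : g * F * g⁻¹ = F ^ r) (m : ℕ) (c : Fin 12) :
    (g ((F ^ m) c)).val = af (3 ^ (r * m)) 0 (g c) := by
  rw [← F_pow, pow_mul, ← h, conj_pow]
  simp

theorem fix_val {g : Perm (Fin 12)} {r : ℕ} (h : g * F * g⁻¹ = F ^ r) {c : Fin 12}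
    (hc : F c = c) : (af (3 ^ r) 0 (g c) != g c) = false := by
  have := conj_val h 1 c
  rw [pow_one, hc, mul_one] at this
  simp [← this]

theorem rep_cf {g : Perm (Fin 12)} {r : ℕ} (h : g * F * g⁻¹ = F ^ r) :
    Rep g (cf r (g 0) (g 11) (g 1) (g 2)) := fun i => by
  have h1 := conj_val h
  have h2 : ∀ i : Fin 12, i = 0 ∨ i = 11 ∨ (i.val ≠ 0 ∧ i.val ≠ 11) ∧
      (sq i = true ∧ i.val = af (3 ^ lg i) 0 1 ∨ sq i = false ∧ i.val = af (3 ^ lg i) 0 2) := by
    decide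
  rcases h2 i with rfl | rfl | ⟨h3, h4 | h4⟩
  · rfl
  · rfl
  · rw [cf, if_neg h3.1, if_neg h3.2, h4.1, cond_true, ← h1]
    exact congrArg (fun j => (g j).val) (Fin.ext (h4.2.trans (F_pow _ 1).symm))
  · rw [cf, if_neg h3.1, if_neg h3.2, h4.1, cond_false, ← h1]
    exact congrArg (fun j => (g j).val) (Fin.ext (h4.2.trans (F_pow _ 2).symm))

/-- Words. -/
def wd {G : Type*} [Group G] (x u : G) : List ℕ → G
  | [] => 1
  | m :: w => x ^ m * u * wd x u w

/-- Evaluation of words. -/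
def ev (u : ℕ → ℕ) : List ℕ → ℕ → ℕ
  | [], i => i
  | m :: w, i => af 1 m (u (ev u w i))

theorem rep_wd {g : Perm (Fin 12)} {u : ℕ → ℕ} (h : Rep g u) : ∀ w, Rep (wd X g w) (ev u w)
  | [] => fun _ => rfl
  | m :: w => fun i => by
    rw [wd, Perm.mul_apply, Perm.mul_apply, X_pow, h, rep_wd h w, ev]

theorem map_wd {G H : Type*} [Group G] [Group H] (ψ : G →* H) (x u : G) :
    ∀ w, ψ (wd x u w) = wd (ψ x) (ψ u) w
  | [] => map_one ψ
  | m :: w => by rw [wd, wd, map_mul, map_mul, map_pow, map_wd ψ x u w]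

/-- Some word has a cycle of length seven. -/
def bad (u : ℕ → ℕ) : Bool :=
  [[1, 3, 8], [1, 7, 5], [1, 10, 4], [5, 6, 7], [5, 6, 9], [2, 3, 9], [2, 6, 3], [1, 10, 7],
    [5]].any fun w => (List.range 12).any fun i => ev u w i != i &&
      ev u w (ev u w (ev u w (ev u w (ev u w (ev u w (ev u w i)))))) == i

/-- Injectivity. -/
def inj (u : ℕ → ℕ) : Bool :=
  (List.range 12).all fun i => (List.range i).all fun j => u i != u j

theorem inj_of_rep {g : Perm (Fin 12)} {u : ℕ → ℕ} (h : Rep g u) : inj u = true := by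
  simp only [inj, List.all_eq_true, List.mem_range, bne_iff_ne]
  intro i hi j hj h1
  have := g.injective (Fin.ext ((h ⟨i, hi⟩).trans (h1.trans (h ⟨j, by omega⟩).symm)))
  simp at this
  omega

theorem dvd_orderOf_of_cycle {α : Type*} {g : Perm α} {i : α} {p : ℕ} (hp : p.Prime)
    (h1 : g i ≠ i) (h2 : (g ^ p) i = i) : p ∣ orderOf g := by
  by_contra h
  have h3 : orderOf g ≠ 0 := fun h3 => h (h3 ▸ dvd_zero p)
  have h4 : g ^ p ∈ stabilizer (Perm α) i := h2
  obtain ⟨k, hk⟩ := exists_pow_eq_self_of_coprime (x := g)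
    ((Nat.Prime.coprime_iff_not_dvd hp).mpr h)
  exact h1 (hk ▸ pow_mem h4 k :)

variable {G : Type*} [Group G] [Finite G]

omit [Finite G] in
theorem not_bad (h7 : ¬ 7 ∣ Nat.card G) {ψ : G →* Perm (Fin 12)} {x y : G} (hx : ψ x = X)
    {u : ℕ → ℕ} (h : Rep (ψ y) u) : bad u = false := by
  rw [Bool.eq_false_iff]
  intro h1
  simp only [bad, List.any_eq_true, List.mem_range, Bool.and_eq_true, bne_iff_ne,
    beq_iff_eq] at h1
  obtain ⟨w, -, i, hi, h1, h2⟩ := h1
  have h3 := rep_wd h w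
  rw [← hx, ← map_wd] at h3
  refine h7 ((dvd_orderOf_of_cycle (i := ⟨i, hi⟩) (by norm_num)
    (fun h => h1 ((h3 ⟨i, hi⟩).symm.trans (congrArg Fin.val h))) (Fin.ext ?_)).trans
    ((orderOf_map_dvd ψ (wd x y w)).trans (orderOf_dvd_natCard _)))
  simp only [pow_succ, pow_zero, one_mul, Perm.mul_apply, h3 _]
  exact h2

/-- The element of order four fixing four points. -/
def u0 : ℕ → ℕ := cf 2 0 11 1 6

/-- The element of order four fixing no point. -/
def u1 : ℕ → ℕ := cf 2 11 0 2 4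

/-- The involution. -/
def k0 : ℕ → ℕ := cf 1 11 0 8 3

/-- Equality of functions on codes. -/
def eqv (u v : ℕ → ℕ) : Bool := (List.range 12).all fun i => u i == v i

theorem eqv_iff {u v : ℕ → ℕ} : eqv u v = true ↔ ∀ i : Fin 12, u i = v i := by
  simp only [eqv, List.all_eq_true, List.mem_range, beq_iff_eq]
  exact ⟨fun h i => h i i.2, fun h i hi => h ⟨i, hi⟩⟩

theorem chk_u : ((List.range 12).all fun a => af (3 ^ 2) 0 a != a ||
    (List.range 12).all fun b => af (3 ^ 2) 0 b != b || (List.range 12).all fun c => (List.range 12).all fun d =>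
      !inj (cf 2 a b c d) || bad (cf 2 a b c d) || (List.range 10).any fun j =>
        eqv (fun i => af (2 ^ j) 0 (cf 2 a b c d i)) (fun i => u0 (af (2 ^ j) 0 i)) ||
        eqv (fun i => af (2 ^ j) 0 (cf 2 a b c d i)) (fun i => u1 (af (2 ^ j) 0 i))) = true := by
  decide +kernel

theorem chk_k : ((List.range 12).all fun a => af (3 ^ 1) 0 a != a ||
    (List.range 12).all fun b => af (3 ^ 1) 0 b != b || (List.range 12).all fun c => (List.range 12).all fun d =>
      !inj (cf 1 a b c d) || !eqv (fun i => u0 (cf 1 a b c d i)) (fun i => cf 1 a b c d (u0 i)) ||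
        bad (cf 1 a b c d) || eqv (cf 1 a b c d) id || eqv (cf 1 a b c d) k0) = true := by
  decide +kernel

theorem rep_conj {g : Perm (Fin 12)} {u v : ℕ → ℕ} (h : Rep g u) {j : ℕ}
    (h1 : eqv (fun i => af (2 ^ j) 0 (u i)) (fun i => v (af (2 ^ j) 0 i)) = true) :
    Rep (T ^ j * g * (T ^ j)⁻¹) v := fun i => by
  obtain ⟨i, rfl⟩ := (T ^ j).surjective i
  rw [Perm.mul_apply, Perm.mul_apply, Perm.inv_def, symm_apply_apply, T_pow, h, T_pow]
  exact eqv_iff.mp h1 i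

theorem T_mem : T ∈ normalizer (zpowers X : Set (Perm (Fin 12))) :=
  H9.mem_normalizer_of_conj_mem fun y hy => by
    obtain ⟨i, rfl⟩ := mem_zpowers_iff.mp hy
    rw [← conj_zpow, show T * X * T⁻¹ = X ^ 2 by decide]
    exact zpow_mem (npow_mem_zpowers X 2) i

/-- Normalisation of the element of order four. -/
theorem normalise (h7 : ¬ 7 ∣ Nat.card G) {ψ : G →* Perm (Fin 12)} (hψ : Function.Injective ψ)
    {x f u : G} (hx : ψ x = X) (hf : ψ f = F) (hu : u * f * u⁻¹ = f ^ 2) :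
    ∃ (ψ' : G →* Perm (Fin 12)) (x' : G), Function.Injective ψ' ∧ ψ' x' = X ∧ ψ' f = F ∧
      x ∈ zpowers x' ∧ (∀ g, ψ' g 11 = 11 ↔ ψ g 11 = 11) ∧
      (Rep (ψ' u) u0 ∨ Rep (ψ' u) u1) := by
  have h0 : ψ u * F * (ψ u)⁻¹ = F ^ 2 := by
    rw [← hf, ← map_pow, ← hu, map_mul, map_mul, map_inv]
  have h1 := rep_cf h0
  have h2 := List.all_eq_true.mp chk_u _ (List.mem_range.mpr (ψ u 0).2)
  rw [fix_val h0 rfl, Bool.false_or] at h2
  replace h2 := List.all_eq_true.mp h2 _ (List.mem_range.mpr (ψ u 11).2)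
  rw [fix_val h0 rfl, Bool.false_or] at h2
  simp only [List.all_eq_true, List.mem_range] at h2
  have h3 := h2 _ (ψ u 1).2 _ (ψ u 2).2
  clear h2
  rw [inj_of_rep h1, not_bad h7 hx h1] at h3
  simp only [Bool.not_true, Bool.false_or, List.any_eq_true, Bool.or_eq_true] at h3
  obtain ⟨j, -, h3⟩ := h3
  have h4 := pow_mem T_mem j
  obtain ⟨i, hi⟩ := mem_zpowers_iff.mp (H9.conj_mem_of_mem_normalizer' h4 (mem_zpowers X))
  obtain ⟨l, hl⟩ := mem_zpowers_iff.mp (H9.conj_mem_of_mem_normalizer h4 (mem_zpowers X))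
  have h5 : (T ^ j) 11 = 11 := Fin.ext (by rw [T_pow]; rfl)
  refine ⟨(MulAut.conj (T ^ j)).toMonoidHom.comp ψ, x ^ i, (MulAut.conj _).injective.comp hψ,
    ?_, ?_, mem_zpowers_iff.mpr ⟨l, hψ ?_⟩, fun g => ?_, h3.imp (rep_conj h1) (rep_conj h1)⟩
  · change T ^ j * ψ (x ^ i) * (T ^ j)⁻¹ = X
    rw [map_zpow, hx, hi]
    group
  · have : Commute (T ^ j) F := Commute.pow_left (show T * F = F * T by decide) j
    change T ^ j * ψ f * (T ^ j)⁻¹ = F
    rw [hf, this.eq, mul_inv_cancel_right]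
  · rw [map_zpow, map_zpow, hx, hi]
    have := conj_zpow (i := l) (a := (T ^ j)⁻¹) (b := X)
    rw [inv_inv] at this
    rw [this, hl]
    group
  · change (T ^ j * ψ g * (T ^ j)⁻¹) 11 = 11 ↔ _
    rw [Perm.mul_apply, Perm.mul_apply, Perm.inv_eq_iff_eq.mpr h5.symm]
    conv_lhs => rhs; rw [← h5]
    exact (T ^ j).injective.eq_iff

theorem rep_k (h7 : ¬ 7 ∣ Nat.card G) {ψ : G →* Perm (Fin 12)} (hψ : Function.Injective ψ)
    {x f u k : G} (hx : ψ x = X) (hf : ψ f = F) (hu : Rep (ψ u) u0) (hk : k ≠ 1)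
    (hkf : k * f = f * k) (hku : u * k = k * u) : Rep (ψ k) k0 := by
  have h0 : ψ k * F * (ψ k)⁻¹ = F ^ 1 := by
    rw [← hf, ← map_mul, hkf, map_mul, mul_inv_cancel_right, pow_one]
  have h1 := rep_cf h0
  have h2 := List.all_eq_true.mp chk_k _ (List.mem_range.mpr (ψ k 0).2)
  rw [fix_val h0 rfl, Bool.false_or] at h2
  replace h2 := List.all_eq_true.mp h2 _ (List.mem_range.mpr (ψ k 11).2)
  rw [fix_val h0 rfl, Bool.false_or] at h2
  simp only [List.all_eq_true, List.mem_range] at h2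
  have h3 := h2 _ (ψ k 1).2 _ (ψ k 2).2
  clear h2
  rw [inj_of_rep h1, not_bad h7 hx h1, eqv_iff.mpr fun i => by
    rw [← h1, ← hu, ← hu, ← h1, ← Perm.mul_apply, ← map_mul, hku, map_mul, Perm.mul_apply]] at h3
  simp only [Bool.not_true, Bool.false_or, Bool.or_eq_true, eqv_iff] at h3
  rcases h3 with h3 | h3
  · exact absurd (hψ ((Equiv.ext fun i => Fin.ext ((h1 i).trans (h3 i))).trans (map_one ψ).symm)) hk
  · exact fun i => (h1 i).trans (h3 i)

omit [Finite G] in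
theorem nonempty_equiv {H : Type*} [Group H] {ψ : G →* H} (hψ : Function.Injective ψ) {S : Set H}
    (h1 : ∀ s ∈ S, s ∈ ψ.range) (h2 : (closure S).comap ψ = ⊤) : Nonempty (G ≃* closure S) := by
  have h3 : ψ.range = closure S := le_antisymm (by
    rintro _ ⟨g, rfl⟩
    exact (h2 ▸ mem_top g : g ∈ (closure S).comap ψ)) ((closure_le _).mpr h1)
  exact ⟨(MonoidHom.ofInjective hψ).trans (MulEquiv.subgroupCongr h3)⟩

theorem exists_hom [IsSimpleGroup G] {M : Subgroup G} (hM : M.index = 12) {x f : G}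
    (hx : orderOf x = 11) (hf : orderOf f = 5) (h : f * x * f⁻¹ = x ^ 3) (hxM : x ∈ M)
    (hfM : f ∈ M) : ∃ ψ : G →* Perm (Fin 12), Function.Injective ψ ∧ ψ x = X ∧ ψ f = F ∧
      ∀ g, ψ g 11 = 11 ↔ g ∈ M := by
  have : Fact (Nat.Prime 5) := ⟨by norm_num⟩
  have : Fact (Nat.Prime 11) := ⟨by norm_num⟩
  have hc : Nat.card (G ⧸ M) = 12 := hM
  obtain ⟨g0, hg0⟩ := exists_smul_ne_quotient (H := M) (fun h => by simp [h] at hM)
  let o : G ⧸ M := ((1 : G) : G ⧸ M)
  have ho : ∀ g : G, g • o = o ↔ g ∈ M := fun g => by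
    rw [← mem_stabilizer_iff, stabilizer_quotient]
  have h1 : fixedBy (G ⧸ M) x = {o} := by
    have h2 := ncard_fixedBy_modEq (Ω := G ⧸ M) (p := 11) (n := 1) (x := x)
      (by rw [pow_one, ← hx, pow_orderOf_eq_one])
    have h3 := ncard_fixedBy_le (Ω := G ⧸ M) x
    have h4 : (fixedBy (G ⧸ M) x).ncard ≠ 12 := fun h4 => by
      have h5 := (Set.eq_univ_iff_ncard _).mpr (h4.trans hc.symm)
      have h6 := eq_one_of_forall_smul_eq hg0 (x := x) fun a =>
        (h5 ▸ Set.mem_univ a : a ∈ fixedBy (G ⧸ M) x)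
      simp [h6] at hx
    rw [hc] at h2 h3
    obtain ⟨a, ha⟩ := Set.ncard_eq_one.mp (show (fixedBy (G ⧸ M) x).ncard = 1 by
      unfold Nat.ModEq at h2; omega)
    rw [ha, Set.mem_singleton_iff.mp (ha ▸ (ho x).mpr hxM : o ∈ ({a} : Set _))]
  obtain ⟨w, hw, hwo⟩ : ∃ w ∈ fixedBy (G ⧸ M) f, w ≠ o := by
    have h2 := ncard_fixedBy_modEq (Ω := G ⧸ M) (p := 5) (n := 1) (x := f)
      (by rw [pow_one, ← hf, pow_orderOf_eq_one])
    rw [hc] at h2
    exact Set.exists_ne_of_one_lt_ncard (by unfold Nat.ModEq at h2; omega) o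
  have h2 : ∀ i : ℕ, ∀ a : G ⧸ M, x ^ i • a = a → a ≠ o → 11 ∣ i := fun i a h2 h3 => by
    by_contra h4
    obtain ⟨k, hk⟩ := exists_pow_eq_self_of_coprime (x := x) (n := i)
      (by rw [hx]; exact ((Nat.Prime.coprime_iff_not_dvd (by norm_num)).mpr h4).symm)
    have h5 : x ∈ stabilizer G a := hk ▸ pow_mem (show x ^ i ∈ stabilizer G a from h2) k
    exact h3 (h1 ▸ h5 : a ∈ ({o} : Set _))
  have h3 : ∀ i : ℕ, x ^ i • w ≠ o := fun i h3 =>
    hwo (smul_left_cancel (x ^ i) (h3.trans ((ho _).mpr (pow_mem hxM i)).symm))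
  let e : Fin 12 → G ⧸ M := fun i => if i.val = 11 then o else x ^ i.val • w
  have h4 : ∀ i j : Fin 12, i < j → e i ≠ e j := fun i j hij h4 => by
    have h5 : i.val ≠ 11 := by omega
    simp only [e, if_neg h5] at h4
    split_ifs at h4 with h6
    · exact h3 _ h4
    · have h7 := h2 (j - i) _ (by
        rw [← mul_smul, ← pow_add, Nat.sub_add_cancel (le_of_lt hij), h4]) (h3 i)
      omega
  have h5 : Function.Bijective e := (Nat.bijective_iff_injective_and_card e).mpr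
    ⟨fun i j h => by
      rcases lt_trichotomy i j with h5 | h5 | h5
      exacts [absurd h (h4 i j h5), h5, absurd h.symm (h4 j i h5)], by simp [hc]⟩
  let E := Equiv.ofBijective e h5
  let ψ : G →* Perm (Fin 12) := E.symm.permCongrHom.toMonoidHom.comp (toPermHom G (G ⧸ M))
  have h6 : ∀ g i j, ψ g i = j ↔ g • e i = e j := fun g i j => E.symm_apply_eq
  have h7 : ∀ i : ℕ, x ^ (i % 11) = x ^ i := fun i => by rw [← hx, pow_mod_orderOf]
  have h8 : ∀ {g : G} {Y : Perm (Fin 12)} {a b : ℕ}, g ∈ M → (∀ c, (Y c).val = af a b c) →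
      (∀ i : ℕ, g • x ^ i • w = x ^ (a * i + b) • w) → ψ g = Y := fun {g Y a b} hg hY h8 =>
    Equiv.ext fun i => (h6 _ _ _).mpr (by
      by_cases h9 : i.val = 11
      · simp only [e, hY, af, h9, if_true]
        exact (ho g).mpr hg
      · simp only [e, hY, if_neg h9, if_neg (af_ne h9)]
        rw [af, if_neg h9, h7, h8])
  refine ⟨ψ, E.symm.permCongrHom.injective.comp (toPermHom_injective hg0),
    h8 (a := 1) (b := 1) hxM (by decide) fun i => ?_,
    h8 (a := 3) (b := 0) hfM (by decide) fun i => ?_, fun g => (h6 _ _ _).trans (ho g)⟩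
  · rw [← mul_smul, one_mul, pow_succ']
  · rw [add_zero, pow_mul, ← h, conj_pow, mul_smul, mul_smul, inv_smul_eq_iff.mpr (Eq.symm hw)]

end P12

end Cfsg.Agent.H3
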