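import Cfsg.Agent.H3.Blk2
import Cfsg.Agent.H3.Perm12

/-!
# Simple groups of order 7920
-/

set_option autoImplicit false

namespace Cfsg.Agent.H3

open Finset Subgroup Cfsg.Agent.L0 Cfsg.Agent.H6 Cfsg.Agent.H6.Sieve
open scoped ComplexConjugate

theorem not_dvd_card_normalizer {G : Type*} [Group G] [Finite G] {p : ℕ} [hp : Fact p.Prime]
    (h2 : ¬ p ^ 2 ∣ Nat.card G) (hK : ∀ D : Setup p G, D.K = ⊥) {H : Subgroup G}
    (h3 : ¬ p ∣ Nat.card H) (h4 : ¬ p ∣ Nat.card H - 1) :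
    ¬ p ∣ Nat.card (normalizer (H : Set G)) := fun h => by
  obtain ⟨z, hz, h5⟩ := exists_mem_orderOf hp.out h
  obtain ⟨D, rfl⟩ := exists_setup h5 h2
  obtain ⟨w, hw, h6⟩ := H9.exists_conj_fixed_of_not_dvd (p := p) (P := zpowers D.x)
    (IsPGroup.of_card (n := 1) (by rw [Nat.card_zpowers, h5, pow_one])) ((H : Set G) \ {1})
    (fun g hg x hx => ⟨H9.conj_mem_of_mem_normalizer (zpowers_le.mpr hz hg) hx.1,
      fun h => hx.2 (by simpa using h)⟩)
    (by rwa [Nat.card_coe_set_eq, Set.ncard_sdiff_singleton_of_mem H.one_mem])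
  have h7 := mem_zpowers_of_K (hK D) w (h6 _ (mem_zpowers _)).symm
  exact h3 (orderOf_eq_of_card_prime (p := p) (by rw [Nat.card_zpowers, h5]) h7 hw.2 ▸
    H.orderOf_dvd_natCard hw.1)

namespace M11

variable {G : Type*} [Group G] [Finite G] [IsSimpleGroup G] (h : Nat.card G = 7920)
  [Fact (Nat.Prime 11)] [Fact (Nat.Prime 5)]
include h

omit [Fact (Nat.Prime 11)] [Fact (Nat.Prime 5)] in
theorem ncomm : ¬ IsMulCommutative G := not_isMulCommutative_of_card (by rw [h]; norm_num)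

omit [Fact (Nat.Prime 5)] in
theorem sieve11 {D : Setup 11 G} (B : Brauer D) : Nat.card D.A = 5 ∧ D.K = ⊥ ∧
    ((([-16, -10, -10, -10, 45] : List ℤ) : Multiset ℤ) = degs B ∨
      (([-5, -10, -10, 12, 12] : List ℤ) : Multiset ℤ) = degs B) := by
  obtain ⟨l, h3, h4⟩ := elimOne_sound B (ncomm h) (s := 90) (by rw [h]; norm_num)
    (facs 90 2 7920 []) (fun _ e k l => !(e == 5 && k == 1 &&
      (List.isPerm [-16, -10, -10, -10, 45] l || List.isPerm [-5, -10, -10, 12, 12] l)))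
    (by rw [h]; decide +kernel)
  simp only [Bool.not_eq_false', beq_iff_eq, Bool.and_eq_true, Bool.or_eq_true,
    List.isPerm_iff] at h4
  exact ⟨h4.1.1, card_eq_one.mp h4.1.2, h4.2.imp (fun h => (Multiset.coe_eq_coe.mpr h).trans h3)
    fun h => (Multiset.coe_eq_coe.mpr h).trans h3⟩

omit [Fact (Nat.Prime 11)] in
theorem sieve5 {D : Setup 5 G} (B : Brauer D) :
    (Nat.card D.A = 2 ∧ 2 ∣ Nat.card D.K ∧ (([-12, 11] : List ℤ) : Multiset ℤ) = degs B) ∨
    (Nat.card D.A = 4 ∧ D.K = ⊥ ∧ (∀ a ∈ degs B, a.natAbs ≠ 12) ∧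
      ((∀ a ∈ degs B, 11 ∣ a.natAbs ∨ a.natAbs ∈ [16, 10, 45]) →
        (([16, 16, 11, -44] : List ℤ) : Multiset ℤ) = degs B)) := by
  obtain ⟨l, h3, h4⟩ := elimOne_sound B (ncomm h) (s := 90) (by rw [h]; norm_num)
    (facs 90 2 7920 []) (fun _ e k l => !((e == 2 && k % 2 == 0 && List.isPerm [-12, 11] l) ||
      (e == 4 && k == 1 && (l.all fun a => a.natAbs != 12) &&
      (!(l.all fun a => a.natAbs % 11 == 0 || decide (a.natAbs ∈ [16, 10, 45])) ||
        List.isPerm [16, 16, 11, -44] l))))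
    (by rw [h]; decide +kernel)
  rw [Bool.not_eq_false'] at h4
  simp only [beq_iff_eq, Bool.and_eq_true, Bool.or_eq_true,
    List.isPerm_iff, List.all_eq_true, bne_iff_ne, Bool.not_eq_true', Bool.eq_false_iff, ne_eq,
    decide_eq_true_eq] at h4
  refine h4.imp (fun h4 => ⟨h4.1.1, Nat.dvd_of_mod_eq_zero h4.1.2,
    (Multiset.coe_eq_coe.mpr h4.2).trans h3⟩) fun h4 => ⟨h4.1.1.1, card_eq_one.mp h4.1.1.2,
      fun a ha => h4.1.2 a (Multiset.mem_coe.mp (h3 ▸ ha)), fun h5 => ?_⟩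
  refine (Multiset.coe_eq_coe.mpr (h4.2.resolve_left fun h6 => h6 fun a ha => ?_)).trans h3
  exact (h5 a (h3 ▸ Multiset.mem_coe.mpr ha)).imp_left Nat.mod_eq_zero_of_dvd

/-- The second candidate for the principal eleven-block does not occur. -/
theorem not_second {D : Setup 11 G} (hA : Nat.card D.A = 5) (hK : D.K = ⊥)
    {c₁ c₂ : IrrCharacter G} {L : List (IrrCharacter G)}
    (hB : Bk2 11 D.x 5 c₁ c₂ (-5) L [-10, -10, 12, 12]) : False := by
  obtain ⟨χ₁, χ₂, χ₃, χ₄, rfl, h1, h2, h3, h4⟩ := forall₂_four hB.sg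
  obtain ⟨E, ⟨B⟩⟩ := exists_brauer (p := 5) h (by norm_num) (by norm_num)
  rcases sieve5 h B with ⟨h5, h6, h7⟩ | ⟨-, h6, h7, -⟩
  · obtain ⟨d₁, d₂, L, hC⟩ := exists_bk2 B h5 rfl h7 (by decide)
    obtain ⟨θ, rfl, h8⟩ := forall₂_one hC.sg
    obtain ⟨k, hk, hk2⟩ := exists_mem_orderOf Nat.prime_two h6
    have hk3 := H9.mul_self_of_orderOf_two hk2
    obtain ⟨a, ha, ha1, ha2, ha3⟩ := invol_val (ncomm h) hB.ex.dg₁ (by decide) hk2
    obtain ⟨b₁, hb₁, hb₁1, hb₁2, hb₁3⟩ := invol_val (ncomm h) h1.dg (by decide) hk2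
    obtain ⟨b₂, hb₂, hb₂1, hb₂2, hb₂3⟩ := invol_val (ncomm h) h2.dg (by decide) hk2
    obtain ⟨e₁, he₁, he₁1, he₁2, he₁3⟩ := invol_val (ncomm h) h3.dg (by decide) hk2
    obtain ⟨e₂, he₂, he₂1, he₂2, he₂3⟩ := invol_val (ncomm h) h4.dg (by decide) hk2
    obtain ⟨m, hm, -⟩ := invol_val (ncomm h) h8.dg (by decide) hk2
    have q := hB.quad hK (by norm_num) (by rw [hA]; decide) hk3 hk3
    simp only [List.zipWith_cons_cons, List.zipWith_nil_right, List.sum_cons, List.sum_nil,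
      ha, hb₁, hb₂, he₁, he₂, deg_eq, hB.ex.dg₁, h1.dg, h2.dg, h3.dg, h4.dg] at q
    have q' : 60 - 12 * (a * a) - 6 * (b₁ * b₁) - 6 * (b₂ * b₂) + 5 * (e₁ * e₁) + 5 * (e₂ * e₂)
        = 0 := by
      have : (60 - 12 * (a * a) - 6 * (b₁ * b₁) - 6 * (b₂ * b₂) + 5 * (e₁ * e₁) + 5 * (e₂ * e₂) : ℂ)
        = 0 := by norm_num [Int.sign_neg, sg_lit] at q; linear_combination 60 * q
      exact_mod_cast this
    have h9 : e₁ = 0 ∧ e₂ = 0 := by
      norm_num at ha1 ha2 ha3 hb₁1 hb₁2 hb₁3 hb₂1 hb₂2 hb₂3 he₁1 he₁2 he₁3 he₂1 he₂2 he₂3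
      have i1 : a = 1 ∨ a = -3 := by omega
      have i2 : b₁ * b₁ = 4 ∨ b₁ * b₁ = 36 := by
        have : b₁ = 2 ∨ b₁ = -2 ∨ b₁ = 6 ∨ b₁ = -6 := by omega
        rcases this with rfl | rfl | rfl | rfl <;> simp
      have i3 : b₂ * b₂ = 4 ∨ b₂ * b₂ = 36 := by
        have : b₂ = 2 ∨ b₂ = -2 ∨ b₂ = 6 ∨ b₂ = -6 := by omega
        rcases this with rfl | rfl | rfl | rfl <;> simp
      have i4 : e₁ = 0 ∨ e₁ = 4 ∨ e₁ = -4 ∨ e₁ = 8 ∨ e₁ = -8 := by omega
      have i5 : e₂ = 0 ∨ e₂ = 4 ∨ e₂ = -4 ∨ e₂ = 8 ∨ e₂ = -8 := by omega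
      rcases i1 with rfl | rfl <;> rcases i4 with rfl | rfl | rfl | rfl | rfl <;>
        rcases i5 with rfl | rfl | rfl | rfl | rfl <;> omega
    have h10 : d₁.1 k = 0 := by
      have h10 := mem_of_not_dvd hB.mem hK (χ := d₁) (by rw [hC.ex.dg₁]; decide)
      have h11 := hC.ex.dg₁
      simp only [List.mem_cons, List.not_mem_nil, or_false] at h10
      rcases h10 with rfl | rfl | rfl | rfl | rfl | rfl | rfl
      · simp [deg_irrOne] at h11
      · simp [hB.ex.dg₁] at h11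
      · simp [hB.ex.dg₂] at h11
      · simp [h1.dg] at h11
      · simp [h2.dg] at h11
      · simp [he₁, h9.1]
      · simp [he₂, h9.2]
    have h11 := hC.lin (g := k) (by rw [hk2]; decide)
    simp only [List.zipWith_cons_cons, List.zipWith_nil_right, List.sum_cons, List.sum_nil,
      h10, hm] at h11
    have h12 : m = -1 := by
      have : (m : ℂ) = -1 := by norm_num [Int.sign_neg, sg_lit] at h11; linear_combination h11
      exact_mod_cast this
    have h13 := dvd_sub_of_comm (by norm_num) E.hx ((E.hK k).mp hk).1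
      (h8.val _ (dvd_orderOf_mul_K E hk)) hm
    rw [h12] at h13
    revert h13
    decide
  · have h8 : χ₃ ∈ prinBlk 5 G := by_contra fun h8 =>
      absurd (E.dvd_deg_of_K_eq_bot h6 h8) (by rw [h3.dg]; decide)
    obtain ⟨a, ha, h9⟩ := exists_mem_degs B h8 fun h9 => by
      have := h3.dg; simp [h9, deg_irrOne] at this
    exact h7 a ha (h9.trans h3.dg)

theorem blocks (D : Setup 11 G) (E : Setup 5 G) : Nat.card D.A = 5 ∧ D.K = ⊥ ∧
    Nat.card E.A = 4 ∧ E.K = ⊥ ∧ ∃ (c₁ c₂ : IrrCharacter G) (L M : List (IrrCharacter G)),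
      Bk2 11 D.x 5 c₁ c₂ (-16) L [-10, -10, -10, 45] ∧
      Bk1 5 M [16, 16, 11, -44] := by
  obtain ⟨B⟩ := D.nonempty_brauer
  obtain ⟨C⟩ := E.nonempty_brauer
  obtain ⟨hA, hK, h1⟩ := sieve11 h B
  rcases h1 with h1 | h1
  swap
  · obtain ⟨c₁, c₂, L, hB⟩ := exists_bk2 B hA rfl h1 (by decide)
    exact (not_second h hA hK hB).elim
  obtain ⟨c₁, c₂, L, hB⟩ := exists_bk2 B hA rfl h1 (by decide)
  have key : ∀ a ∈ degs C, 11 ∣ a.natAbs ∨ a.natAbs ∈ [16, 10, 45] := fun a ha => by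
    obtain ⟨χ, -, h2, h3⟩ := exists_of_mem_degs C ha
    refine (em _).imp_right fun h4 => ?_
    obtain ⟨b, hb, h5⟩ := exists_mem_degs B (χ := χ)
      (by_contra fun h5 => h4 (h3 ▸ D.dvd_deg_of_K_eq_bot hK h5)) h2
    rw [h3, ← h5]
    rw [← h1, Multiset.mem_coe] at hb
    clear h5
    revert b
    decide
  rcases sieve5 h C with ⟨-, -, h7⟩ | ⟨h5, h6, -, h7⟩
  · exact absurd (key (-12) (h7 ▸ by decide)) (by decide)
  · obtain ⟨M, hC⟩ := exists_bk1 C h5 (h7 key)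
    exact ⟨hA, hK, h5, h6, c₁, c₂, L, M, hB, hC⟩

theorem invol (D : Setup 11 G) (E : Setup 5 G) : ∃ χ : IrrCharacter G, Sg 5 χ 1 11 ∧
    ∀ t : G, orderOf t = 2 → Nat.card (centralizer ({t} : Set G)) = 48 ∧ χ.1 t = 3 ∧
      ∃ s, s * s = 1 ∧ s * E.x * s⁻¹ = E.x⁻¹ ∧ IsConj t s := by
  obtain ⟨hA, hK, hA', hK', c₁, c₂, L, M, hB, hC⟩ := blocks h D E
  obtain ⟨χ₁, χ₂, χ₃, χ₄, rfl, h1, h2, h3, h4⟩ := forall₂_four hB.sg
  obtain ⟨ψ₁, ψ₂, ψ₃, ψ₄, rfl, k1, k2, k3, k4⟩ := forall₂_four hC.sg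
  refine ⟨ψ₃, k3, fun t ht => ?_⟩
  have ht2 := H9.mul_self_of_orderOf_two ht
  obtain ⟨d, hd, hd1, hd2, hd3⟩ := invol_val (ncomm h) hB.ex.dg₁ (by decide) ht
  obtain ⟨a₁, ha₁, ha₁1, ha₁2, ha₁3⟩ := invol_val (ncomm h) h1.dg (by decide) ht
  obtain ⟨a₂, ha₂, ha₂1, ha₂2, ha₂3⟩ := invol_val (ncomm h) h2.dg (by decide) ht
  obtain ⟨a₃, ha₃, ha₃1, ha₃2, ha₃3⟩ := invol_val (ncomm h) h3.dg (by decide) ht
  obtain ⟨b, hb, -⟩ := invol_val (ncomm h) h4.dg (by decide) ht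
  obtain ⟨e, he, he1, he2, he3⟩ := invol_val (ncomm h) k3.dg (by decide) ht
  obtain ⟨f, hf, -⟩ := invol_val (ncomm h) k4.dg (by decide) ht
  have q := hB.quad hK (by norm_num) (by rw [hA]; decide) ht2 ht2
  have l := hB.lin (g := t) (by rw [ht]; decide)
  simp only [List.zipWith_cons_cons, List.zipWith_nil_right, List.sum_cons, List.sum_nil,
    hd, ha₁, ha₂, ha₃, hb, deg_eq, hB.ex.dg₁, h1.dg, h2.dg, h3.dg, h4.dg] at q l
  have q' : 720 - 45 * (d * d) - 72 * (a₁ * a₁) - 72 * (a₂ * a₂) - 72 * (a₃ * a₃) + 16 * (b * b)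
      = 0 := by
    have : (720 - 45 * (d * d) - 72 * (a₁ * a₁) - 72 * (a₂ * a₂) - 72 * (a₃ * a₃) + 16 * (b * b) : ℂ)
      = 0 := by norm_num [Int.sign_neg, sg_lit] at q; linear_combination 720 * q
    exact_mod_cast this
  have l' : b = d + a₁ + a₂ + a₃ - 1 := by
    have : (b : ℂ) = d + a₁ + a₂ + a₃ - 1 := by norm_num [Int.sign_neg, sg_lit] at l; linear_combination l
    exact_mod_cast this
  have h5 : d = 0 := by
    norm_num at hd1 hd2 hd3 ha₁1 ha₁2 ha₁3 ha₂1 ha₂2 ha₂3 ha₃1 ha₃2 ha₃3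
    have i1 : a₁ = 2 ∨ a₁ = -2 ∨ a₁ = 6 ∨ a₁ = -6 := by omega
    have i2 : a₂ = 2 ∨ a₂ = -2 ∨ a₂ = 6 ∨ a₂ = -6 := by omega
    have i3 : a₃ = 2 ∨ a₃ = -2 ∨ a₃ = 6 ∨ a₃ = -6 := by omega
    have i4 : d = 0 ∨ d = 4 ∨ d = -4 ∨ d = 8 ∨ d = -8 ∨ d = 12 ∨ d = -12 := by omega
    subst l'
    rcases i4 with rfl | rfl | rfl | rfl | rfl | rfl | rfl
    · rfl
    all_goals
      exfalso
      rcases i1 with rfl | rfl | rfl | rfl <;> rcases i2 with rfl | rfl | rfl | rfl <;>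
        rcases i3 with rfl | rfl | rfl | rfl <;> omega
  have h6 : ∀ ψ : IrrCharacter G, deg ψ = 16 → ψ.1 t = 0 := fun ψ h6 => by
    have h10 := mem_of_not_dvd hB.mem hK (χ := ψ) (by rw [h6]; decide)
    simp only [List.mem_cons, List.not_mem_nil, or_false] at h10
    rcases h10 with rfl | rfl | rfl | rfl | rfl | rfl | rfl
    · simp [deg_irrOne] at h6
    · simp [hd, h5]
    · simp [hB.ex.reg t (by rw [ht]; decide), hd, h5]
    · simp [h1.dg] at h6
    · simp [h2.dg] at h6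
    · simp [h3.dg] at h6
    · simp [h4.dg] at h6
  have r := cls_eq ht2 ht2 E.x
  have m := hC.lin E (g := t) (by rw [ht]; decide)
  rw [hC.quad hK', h] at r
  simp only [List.zipWith_cons_cons, List.zipWith_nil_right, List.sum_cons, List.sum_nil,
    h6 _ k1.dg, h6 _ k2.dg, he, hf, deg_eq, k3.dg, k4.dg] at r m
  have m' : f = 1 + e := by
    have : (f : ℂ) = 1 + e := by norm_num [Int.sign_neg, sg_lit] at m; linear_combination -m
    exact_mod_cast this
  have h7 := cls_cases (a := t) (b := t) (f := E.x) (by rw [E.hx]; decide) (mem_zpowers_of_K hK')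
  generalize Set.ncard _ = n at r h7
  generalize Nat.card (centralizer ({t} : Set G)) = c at r
  have r' : (n : ℤ) * (c * c) = 180 * (44 + 4 * (e * e) - f * f) := by
    have : (n : ℂ) * (c * c) = 180 * (44 + 4 * (e * e) - f * f) := by
      norm_num [Int.sign_neg, sg_lit] at r; linear_combination r
    exact_mod_cast this
  norm_num at he1 he2 he3
  have i1 : e = 3 ∨ e = -1 ∨ e = -5 ∨ e = -9 ∨ e = 7 := by omega
  subst m'
  rcases h7 with rfl | ⟨h7, h8⟩
  · rcases i1 with rfl | rfl | rfl | rfl | rfl <;> norm_num at r'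
  rw [h7, E.hx] at r'
  have h9 : c < 110 := by
    by_contra h9
    have : (110 : ℤ) * 110 ≤ c * c := by
      have : (110 : ℤ) ≤ c := by omega
      nlinarith
    rcases i1 with rfl | rfl | rfl | rfl | rfl <;> omega
  have h10 : c = 48 ∧ e = 3 := by
    rcases i1 with rfl | rfl | rfl | rfl | rfl <;> interval_cases c <;> omega
  exact ⟨h10.1, by rw [he, h10.2]; rfl, h8⟩

theorem eq_top {D : Setup 11 G} {E : Setup 5 G} {u : G} (h1 : Act 11 5 3 D.x E.x)
    (h2 : Act 5 4 2 E.x u) {L : Subgroup G} (hx : D.x ∈ L) (hf : E.x ∈ L) (hu : u ∈ L) : L = ⊤ := by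
  obtain ⟨hA, hK, hA', hK', -⟩ := blocks h D E
  obtain ⟨n, h3, h4⟩ := card_55 D hA hK h1 hx hf
  obtain ⟨h5, h6⟩ := card_ne_660 E h2 (by rw [E.card_N, hA', hK', card_bot]; decide) hf hu
  have h7 := L.card_subgroup_dvd_card
  rw [h, h4] at h7
  have h8 : n ∣ 144 := Nat.dvd_of_mul_dvd_mul_right (by norm_num : 0 < 55) h7
  have h9 := Nat.le_of_dvd (by norm_num) h8
  refine eq_top_of_le_card L ?_
  rw [h4] at h5 h6 ⊢
  rw [h]
  interval_cases n <;> omega

theorem exists_index {D : Setup 11 G} {E : Setup 5 G} (h1 : Act 11 5 3 D.x E.x) :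
    ∃ M : Subgroup G, M.index = 12 ∧ D.x ∈ M ∧ E.x ∈ M := by
  obtain ⟨hA, hK, hA', hK', -⟩ := blocks h D E
  obtain ⟨χ, h2, h3⟩ := invol h D E
  obtain ⟨t, -, ht⟩ := exists_mem_orderOf (H := (⊤ : Subgroup G)) Nat.prime_two
    (by rw [card_top, h]; decide)
  obtain ⟨-, -, s, hs1, hs2, hs3⟩ := h3 t ht
  have hs : orderOf s = 2 := (orderOf_eq_of_isConj hs3).symm.trans ht
  have h4 := act_of_inverts (by norm_num) (by norm_num) E.hx hs1 hs2
  have hχ := irr_isChar χ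
  have e1 := fx_prime hχ (by norm_num) D.hx (c := 0) fun g hg _ =>
    eq_zero_of_dvd_deg (p := 11) (by norm_num) D.not_sq_dvd (by rw [h2.dg]) hg.symm.dvd
  have e2 := fx_prime hχ (by norm_num) E.hx fun g hg _ => h2.val g hg.symm.dvd
  have e3 := fx_two hχ hs
  have e4 := h1.fx_eq hχ
  have e5 := h4.fx_eq hχ
  rw [(h3 s hs).2.1] at e3
  rw [h2.one] at e1 e2 e3 e4 e5
  have h5 := sup_ne_top (χ := χ) (fun h5 => by have := h2.dg; simp [h5, deg_irrOne] at this)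
    (le_sup_right : zpowers E.x ≤ zpowers D.x ⊔ zpowers E.x)
    (le_sup_left : zpowers E.x ≤ zpowers E.x ⊔ zpowers s) (by
      have : (fx χ.1 (zpowers D.x ⊔ zpowers E.x) + fx χ.1 (zpowers E.x ⊔ zpowers s) : ℂ) =
          fx χ.1 (zpowers E.x) + 1 := by
        push_cast at *
        linear_combination e4 / 5 + e1 / 55 + e5 / 2 + e3 / 2 + e2 / 10
      have : fx χ.1 (zpowers D.x ⊔ zpowers E.x) + fx χ.1 (zpowers E.x ⊔ zpowers s) =
          fx χ.1 (zpowers E.x) + 1 := by exact_mod_cast this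
      omega)
  set M := zpowers D.x ⊔ zpowers E.x ⊔ (zpowers E.x ⊔ zpowers s)
  have hx : D.x ∈ M := mem_sup_left (mem_sup_left (mem_zpowers _))
  have hf : E.x ∈ M := mem_sup_left (mem_sup_right (mem_zpowers _))
  have h6 : 2 ∣ Nat.card M := hs ▸ M.orderOf_dvd_natCard (mem_sup_right (mem_sup_right
    (mem_zpowers _)))
  obtain ⟨n, h7, h8⟩ := card_55 D hA hK h1 hx hf
  have h9 := M.index_mul_card
  have h10 : M.index ≠ 1 := fun h10 => h5 (index_eq_one.mp h10)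
  refine ⟨M, ?_, hx, hf⟩
  rw [h8] at h6 h9
  rw [h] at h9
  have h11 : M.index * n = 144 := by linarith
  have h12 := Nat.le_of_dvd (by norm_num) (Dvd.intro_left _ h11)
  interval_cases n <;> omega

omit [Fact (Nat.Prime 11)] [Fact (Nat.Prime 5)] in
theorem exists_rep : ∃ (φ : G →* Equiv.Perm (Fin 12)) (y f u : G), Function.Injective φ ∧
    φ y = P12.X ∧ φ f = P12.F ∧ P12.Rep (φ u) P12.u1 ∧
      ∀ L : Subgroup G, y ∈ L → f ∈ L → u ∈ L → L = ⊤ := by
  have : Fact (Nat.Prime 5) := ⟨by norm_num⟩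
  have : Fact (Nat.Prime 11) := ⟨by norm_num⟩
  obtain ⟨D⟩ := nonempty_setup (G := G) (p := 11) (by rw [h]; decide) (by rw [h]; decide)
  obtain ⟨E⟩ := nonempty_setup (G := G) (p := 5) (by rw [h]; decide) (by rw [h]; decide)
  obtain ⟨hA, hK, -⟩ := blocks h D E
  obtain ⟨f, h1⟩ := exists_act_eleven D hA hK
  obtain ⟨E, rfl⟩ := exists_setup (p := 5) h1.orderOf_u (by rw [h]; decide)
  obtain ⟨-, -, hA', hK', -⟩ := blocks h D E
  obtain ⟨u, h2⟩ := exists_act_five E (by have := E.card_A_mul_index; rw [hA'] at this; omega) hK'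
  obtain ⟨M, hM, hx, hf⟩ := exists_index h h1
  obtain ⟨ψ, h3, h4, h5, h6⟩ := P12.exists_hom hM D.hx E.hx h1.cj hx hf
  obtain ⟨φ, y, h7, h8, h9, h10, h11, h12⟩ := P12.normalise (by rw [h]; decide) h3 h4 h5 h2.cj
  refine ⟨φ, y, E.x, u, h7, h8, h9, h12.resolve_left fun h13 => ?_, fun L h14 h15 h16 =>
    eq_top h h1 h2 (zpowers_le.mpr h14 h10) h15 h16⟩
  have h14 := (h6 u).mp ((h11 u).mp (Fin.ext (h13 11)))
  simp [eq_top h h1 h2 hx hf h14] at hM

omit [Fact (Nat.Prime 11)] [Fact (Nat.Prime 5)] in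
theorem nonempty_equiv : Nonempty (G ≃* closure ({P12.X, P12.F} ∪ {g | P12.Rep g P12.u1})) := by
  obtain ⟨φ, y, f, u, h1, h2, h3, h4, h5⟩ := exists_rep h
  refine P12.nonempty_equiv h1 ?_ (h5 _ ?_ ?_ ?_)
  · rintro s ((rfl | rfl) | hs)
    exacts [⟨y, h2⟩, ⟨_, h3⟩, ⟨u, h4.ext hs⟩]
  · exact subset_closure (Or.inl (Or.inl h2))
  · exact subset_closure (Or.inl (Or.inr h3))
  · exact subset_closure (Or.inr h4)

omit [Fact (Nat.Prime 11)] [Fact (Nat.Prime 5)] in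
theorem card_centralizer {t : G} (ht : orderOf t = 2) :
    Nat.card (centralizer ({t} : Set G)) = 48 := by
  have : Fact (Nat.Prime 5) := ⟨by norm_num⟩
  have : Fact (Nat.Prime 11) := ⟨by norm_num⟩
  obtain ⟨D⟩ := nonempty_setup (G := G) (p := 11) (by rw [h]; decide) (by rw [h]; decide)
  obtain ⟨E⟩ := nonempty_setup (G := G) (p := 5) (by rw [h]; decide) (by rw [h]; decide)
  obtain ⟨χ, -, h1⟩ := invol h D E
  exact (h1 t ht).1

omit [Fact (Nat.Prime 11)] [Fact (Nat.Prime 5)] in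
theorem card_normalizer (P : Sylow 3 G) :
    Nat.card (normalizer ((P : Subgroup G) : Set G)) = 144 := by
  have : Fact (Nat.Prime 5) := ⟨by norm_num⟩
  have : Fact (Nat.Prime 11) := ⟨by norm_num⟩
  have : Fact (Nat.Prime 3) := ⟨by norm_num⟩
  obtain ⟨φ, y, f, u, h1, h2, -, h4, -⟩ := exists_rep h
  have he : ∀ w v, P12.eqv (P12.ev P12.u1 w) (P12.ev P12.u1 v) = true ↔
      P12.wd y u w = P12.wd y u v := fun w v => by
    rw [← h1.eq_iff, P12.map_wd, P12.map_wd, h2, P12.eqv_iff]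
    exact ⟨fun h => (P12.rep_wd h4 w).ext fun i => (P12.rep_wd h4 v i).trans (h i).symm,
      fun h i => (P12.rep_wd h4 w i).symm.trans (h ▸ P12.rep_wd h4 v i)⟩
  have ha : ∀ w v, P12.wd y u (w ++ v) = P12.wd y u w * P12.wd y u v := fun w v => by
    induction w with
    | nil => exact (one_mul _).symm
    | cons m w ih => rw [List.cons_append, P12.wd, P12.wd, ih, mul_assoc _ (P12.wd y u w)]
  have e1 := (he ([3, 0] ++ [3, 0] ++ [3, 0]) []).mp (by decide +kernel)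
  have e2 := (he [3, 0] []).not.mp (by decide +kernel)
  have e3 := (he ([6] ++ [3, 0]) ([3, 8, 0, 6] ++ [6])).mp (by decide +kernel)
  have e4 := (he ([6] ++ [3, 8, 0, 6]) ([3, 0] ++ [3, 8, 0, 6] ++ [6])).mp (by decide +kernel)
  have e5 := (he ([3, 0] ++ [3, 8, 0, 6]) ([3, 8, 0, 6] ++ [3, 0])).mp (by decide +kernel)
  have e6 := (he [3, 8, 0, 6] [3, 0]).not.mp (by decide +kernel)
  have e7 := (he [3, 8, 0, 6] ([3, 0] ++ [3, 0])).not.mp (by decide +kernel)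
  have e8 := (he ([6] ++ [6] ++ [6] ++ [6]) []).not.mp (by decide +kernel)
  have e9 := (he ([6] ++ [6] ++ [6] ++ [6] ++ ([6] ++ [6] ++ [6] ++ [6])) []).mp
    (by decide +kernel)
  simp only [ha, show P12.wd y u [] = 1 from rfl] at e1 e2 e3 e4 e5 e6 e7 e8 e9
  generalize P12.wd y u [3, 0] = a at *
  generalize P12.wd y u [3, 8, 0, 6] = b at *
  generalize P12.wd y u [6] = r at *
  have oa : orderOf a = 3 := orderOf_eq_prime (by simpa [pow_succ] using e1) e2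
  have ob : orderOf b = 3 := by rw [← oa, ← H9.orderOf_conj r a, e3, mul_inv_cancel_right]
  have or : orderOf r = 8 := orderOf_eq_prime_pow (p := 2) (n := 2)
    (fun h => e8 (by simpa [pow_succ] using h)) (by simpa [pow_succ, mul_assoc] using e9)
  have ca : Nat.card (zpowers a) = 3 := by rw [Nat.card_zpowers, oa]
  have cb : Nat.card (zpowers b) = 3 := by rw [Nat.card_zpowers, ob]
  have h5 : Nat.card (zpowers a ⊔ zpowers b : Subgroup G) = 9 := by
    rw [card_sup ((zpowers_le.mpr (mem_centralizer_iff.mpr fun g hg => ?_)).trans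
      (centralizer_le_normalizer _)) ((eq_bot_iff_forall _).mpr fun g hg => by_contra fun h5 => ?_),
      ca, cb]
    · obtain ⟨i, rfl⟩ := mem_zpowers_iff.mp hg
      exact (Commute.zpow_left e5 i).eq
    · classical
      have h6 : b ∈ zpowers a := by
        rw [eq_zpowers_of_card_prime ca hg.1 h5, ← eq_zpowers_of_card_prime cb hg.2 h5]
        exact mem_zpowers b
      obtain ⟨i, hi, rfl⟩ := mem_image.mp (mem_zpowers_iff_mem_range_orderOf.mp h6)
      rw [oa, mem_range] at hi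
      interval_cases i
      · simp at ob
      · exact e6 (pow_one a)
      · exact e7 (sq a)
  have h6 : r ∈ normalizer ((zpowers a ⊔ zpowers b : Subgroup G) : Set G) := by
    refine H9.mem_normalizer_of_conj_mem (H9.map_conj_le_iff.mp ?_)
    rw [Subgroup.map_sup, MonoidHom.map_zpowers, MonoidHom.map_zpowers, sup_le_iff, zpowers_le,
      zpowers_le]
    change r * a * r⁻¹ ∈ _ ∧ r * b * r⁻¹ ∈ _
    rw [e3, e4, mul_inv_cancel_right, mul_inv_cancel_right]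
    exact ⟨mem_sup_right (mem_zpowers b), mul_mem_sup (mem_zpowers a) (mem_zpowers b)⟩
  let Q : Sylow 3 G := Sylow.ofCard (zpowers a ⊔ zpowers b) (by
    rw [h5, h, show 7920 = 3 ^ 2 * 880 from rfl, Nat.factorization_mul (by norm_num) (by norm_num),
      Finsupp.add_apply, Nat.factorization_pow_self (by norm_num),
      Nat.factorization_eq_zero_of_not_dvd (by norm_num)]
    rfl)
  have h7 := card_sylow_mul_card_normalizer P
  have h8 := card_sylow_mul_card_normalizer Q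
  have h9 := card_sylow_modEq_one 3 G
  have h10 := Nat.eq_of_mul_eq_mul_left Nat.card_pos (h7.trans h8.symm)
  have h11 : 8 ∣ Nat.card (normalizer ((Q : Subgroup G) : Set G)) :=
    or ▸ Subgroup.orderOf_dvd_natCard _ h6
  have h12 : 9 ∣ Nat.card (normalizer ((Q : Subgroup G) : Set G)) :=
    h5 ▸ card_dvd_of_le le_normalizer
  obtain ⟨D⟩ := nonempty_setup (G := G) (p := 11) (by rw [h]; decide) (by rw [h]; decide)
  obtain ⟨E⟩ := nonempty_setup (G := G) (p := 5) (by rw [h]; decide) (by rw [h]; decide)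
  have h13 := not_dvd_card_normalizer (p := 5) (H := Q) (by rw [h]; decide)
    (fun E => (blocks h D E).2.2.2.1) (h5.symm ▸ by decide) (h5.symm ▸ by decide)
  have h14 := not_dvd_card_normalizer (p := 11) (H := Q) (by rw [h]; decide)
    (fun D => (blocks h D E).2.1) (h5.symm ▸ by decide) (h5.symm ▸ by decide)
  rw [h10]
  rw [h] at h8
  obtain ⟨m, hm⟩ := Nat.Coprime.mul_dvd_of_dvd_of_dvd (by norm_num) h11 h12
  rw [hm] at h8 h13 h14 ⊢
  generalize Nat.card (Sylow 3 G) = n at h8 h9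
  have h15 : n * m = 110 := by linarith
  have h16 := Nat.le_of_dvd (by norm_num) (Dvd.intro_left _ h15)
  unfold Nat.ModEq at h9
  interval_cases m <;> omega

end M11

theorem equiv_of_card_7920 {G H : Type*} [Group G] [Finite G] [IsSimpleGroup G] [Group H]
    [Finite H] [IsSimpleGroup H] (h1 : Nat.card G = 7920) (h2 : Nat.card H = 7920) :
    Nonempty (G ≃* H) := by
  obtain ⟨e⟩ := M11.nonempty_equiv h1
  obtain ⟨e'⟩ := M11.nonempty_equiv h2
  exact ⟨e.trans e'.symm⟩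

end Cfsg.Agent.H3
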