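import Cfsg.Agent.H3.M12a

/-!
# Simple groups of order 95040: involutions
-/

set_option autoImplicit false

namespace Cfsg.Agent.H3

open Finset Subgroup Cfsg.Agent.L0 Cfsg.Agent.H6 Cfsg.Agent.H6.Sieve
open scoped ComplexConjugate

section general

variable {G : Type*} [Group G] [Finite G]

theorem ncard_two {f k t : G} (hk : k * k = 1) (hkf : k ∉ zpowers f) (hc : k * f = f * k)
    (hC : ∀ g, g * f = f * g → g ∈ zpowers f ∨ k * g ∈ zpowers f) (ht : t * t = 1)
    (htf : t * f * t⁻¹ = f⁻¹) (htk : t * k = k * t) {R : G → Prop} {P Q : Prop} [Decidable P]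
    [Decidable Q] (hP : ∀ y ∈ zpowers f, R (t * y) ↔ P) (hQ : ∀ y ∈ zpowers f, R (t * k * y) ↔ Q) :
    {s | s * s = 1 ∧ s * f * s⁻¹ = f⁻¹ ∧ R s}.ncard =
      (if P then orderOf f else 0) + if Q then orderOf f else 0 := by
  have h1 : t * k * (t * k) = 1 := by
    rw [mul_assoc, ← mul_assoc k, ← htk, mul_assoc, hk, mul_one, ht]
  have h2 : t * k * f * (t * k)⁻¹ = f⁻¹ := by rw [← htf, mul_assoc t, hc]; group
  have h3 : {s | s * s = 1 ∧ s * f * s⁻¹ = f⁻¹ ∧ R s} =
      {s | t⁻¹ * s ∈ zpowers f ∧ P} ∪ {s | (t * k)⁻¹ * s ∈ zpowers f ∧ Q} := by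
    ext s
    simp only [Set.mem_union, Set.mem_ofPred_eq]
    constructor
    · rintro ⟨-, h3, h4⟩
      refine (hC _ (comm_of_inverts htf h3)).imp (fun h5 => ⟨h5, (hP _ h5).mp ?_⟩) fun h5 => ?_
      · rwa [mul_inv_cancel_left]
      · rw [← mul_assoc, ← inv_eq_of_mul_eq_one_left hk, ← mul_inv_rev] at h5
        exact ⟨h5, (hQ _ h5).mp (by rwa [mul_inv_cancel_left])⟩
    · rintro (⟨h3, h4⟩ | ⟨h3, h4⟩)
      · simpa only [mul_inv_cancel_left, and_assoc] using
          And.intro (inverts_mul ht htf h3) ((hP _ h3).mpr h4)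
      · simpa only [mul_inv_cancel_left, and_assoc] using
          And.intro (inverts_mul h1 h2 h3) ((hQ _ h3).mpr h4)
  have h4 : ∀ (a : G) (P : Prop) [Decidable P],
      {s | a⁻¹ * s ∈ zpowers f ∧ P}.ncard = if P then orderOf f else 0 := fun a P _ => by
    split_ifs with h
    · simp only [h, and_true, ncard_coset, Nat.card_zpowers]
    · simp [h]
  rw [h3, Set.ncard_union_eq (Set.disjoint_left.mpr fun s h5 h6 => hkf ?_), h4, h4]
  have := mul_mem h5.1 (inv_mem h6.1)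
  simpa [mul_assoc] using this

theorem exists_two_of_sq {ι : Type*} (s : Finset ι) (v : ι → ℤ) (h : ∑ i ∈ s, v i * v i = 2) :
    ∃ a ∈ s, ∃ b ∈ s, a ≠ b ∧ v a * v a = 1 ∧ v b * v b = 1 ∧
      ∀ i ∈ s, i ≠ a → i ≠ b → v i = 0 := by
  classical
  have h1 : ∀ i ∈ s.filter (v · ≠ 0), v i * v i = 1 := fun i hi => by
    rw [mem_filter] at hi
    have h1 := h ▸ single_le_sum (f := fun i => v i * v i) (fun i _ => mul_self_nonneg _) hi.1
    have h2 : v i = 1 ∨ v i = -1 := by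
      have h3 : v i ≤ 1 := by nlinarith
      have h4 : -1 ≤ v i := by nlinarith
      have := hi.2
      omega
    rcases h2 with h2 | h2 <;> simp [h2]
  rw [← sum_filter_of_ne (p := (v · ≠ 0)) fun i _ h => left_ne_zero_of_mul h, sum_congr rfl h1,
    sum_const, nsmul_eq_mul, mul_one] at h
  obtain ⟨a, b, hab, h2⟩ := card_eq_two.mp (by exact_mod_cast h : (s.filter (v · ≠ 0)).card = 2)
  have ha : a ∈ s.filter (v · ≠ 0) := h2 ▸ by simp
  have hb : b ∈ s.filter (v · ≠ 0) := h2 ▸ by simp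
  refine ⟨a, (mem_filter.mp ha).1, b, (mem_filter.mp hb).1, hab, h1 a ha, h1 b hb,
    fun i hi h3 h4 => by_contra fun h5 => ?_⟩
  have : i ∈ ({a, b} : Finset ι) := h2 ▸ mem_filter.mpr ⟨hi, h5⟩
  simp [h3, h4] at this

theorem not_dvd_card_centralizer {p : ℕ} [hp : Fact p.Prime] (h2 : ¬ p ^ 2 ∣ Nat.card G) {m : ℕ}
    (hK : ∀ D : Setup p G, Nat.card D.K = m) {g : G} (h3 : ¬ orderOf g ∣ p * m) :
    ¬ p ∣ Nat.card (centralizer ({g} : Set G)) := fun h => by
  obtain ⟨z, hz, h5⟩ := exists_mem_orderOf hp.out h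
  obtain ⟨D, rfl⟩ := exists_setup h5 h2
  rw [← hK D, ← D.card_C] at h3
  exact h3 (Subgroup.orderOf_dvd_natCard _ (mem_centralizer_singleton_iff.mpr
    (mem_centralizer_singleton_iff.mp hz).symm))

end general

namespace M12

/-- Possible values at an involution. -/
def ok (d n : ℕ) (a : ℤ) : Bool :=
  (d - a) % 4 == 0 && decide (a * a ≤ n) && ((95040 / n : ℕ) * a) % d == 0

/-- The list of possible values at an involution. -/
def rg (d n : ℕ) : List ℤ := ((List.range (2 * d)).map fun i : ℕ => (i : ℤ) - d).filter (ok d n)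

theorem mem_rg {d n : ℕ} {a : ℤ} (h1 : -(d : ℤ) < a) (h2 : a < d) (h3 : ok d n a = true) :
    a ∈ rg d n := by
  simp only [rg, List.mem_filter, List.mem_map, List.mem_range]
  exact ⟨⟨(a + d).toNat, by omega, by omega⟩, h3⟩

theorem chk_inv : ((List.range 8641).all fun n => 8640 % n != 0 ||
    (rg 16 n).all fun d => (rg 45 n).all fun a => (rg 54 n).all fun b => (rg 120 n).all fun c =>
      !ok 144 n (d + b + c - a - 1) ||
      2160 - 135 * (d * d) + 48 * (a * a) - 40 * (b * b) - 18 * (c * c) +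
        15 * ((d + b + c - a - 1) * (d + b + c - a - 1)) != 0 ||
      decide ((n : ℤ) < 1 + d * d + d * d + a * a + b * b + c * c +
        (d + b + c - a - 1) * (d + b + c - a - 1)) ||
      (d == -8 && n == 1440 || (d == -4 || d == 4) && b == 6 && d + b + c - a - 1 == d &&
        (n == 120 || n == 240) || d == 0 && b == 6 && n == 192)) = true := by
  decide +kernel

variable {G : Type*} [Group G] [Finite G] [IsSimpleGroup G] (h : Nat.card G = 95040)
  [Fact (Nat.Prime 11)] [Fact (Nat.Prime 5)]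
include h

omit [Fact (Nat.Prime 11)] [Fact (Nat.Prime 5)] in
theorem exists_ok {χ : IrrCharacter G} {d : ℕ} (hd : deg χ = d) (h1 : d ≠ 1) {s : G}
    (hs : orderOf s = 2) : ∃ a : ℤ, χ.1 s = a ∧ -(d : ℤ) < a ∧ a < d ∧
      ok d (Nat.card (centralizer ({s} : Set G))) a = true := by
  obtain ⟨a, ha, h2, h3, h4⟩ := invol_val (ncomm h) hd h1 hs
  refine ⟨a, ha, h3, h4, ?_⟩
  have h5 := sq_le_of_mem (List.nodup_singleton χ) s (.cons ha .nil)
  have h6 := deg_dvd_index_mul ha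
  have h7 : (centralizer ({s} : Set G)).index = 95040 / Nat.card (centralizer ({s} : Set G)) := by
    rw [← h, ← (centralizer ({s} : Set G)).index_mul_card, Nat.mul_div_cancel _ Nat.card_pos]
  rw [hd, h7] at h6
  simp only [ok, Bool.and_eq_true, beq_iff_eq, decide_eq_true_eq]
  exact ⟨⟨Int.emod_eq_zero_of_dvd h2, by simpa using h5⟩, Int.emod_eq_zero_of_dvd h6⟩

theorem inv11 {D : Setup 11 G} {c₁ c₂ χ₁ χ₂ χ₃ χ₄ : IrrCharacter G}
    (hB : Bk2 11 D.x 5 c₁ c₂ (-16) [χ₁, χ₂, χ₃, χ₄] [45, -54, -120, 144]) {s : G}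
    (hs : orderOf s = 2) : ∃ (d b e : ℤ) (n : ℕ), c₁.1 s = d ∧ χ₂.1 s = b ∧ χ₄.1 s = e ∧
      Nat.card (centralizer ({s} : Set G)) = n ∧ (d = -8 ∧ n = 1440 ∨
        (d = -4 ∨ d = 4) ∧ b = 6 ∧ e = d ∧ (n = 120 ∨ n = 240) ∨ d = 0 ∧ b = 6 ∧ n = 192) := by
  obtain ⟨E⟩ := nonempty_setup (G := G) (p := 5) (by rw [h]; decide) (by rw [h]; decide)
  obtain ⟨hA, hK, -⟩ := blocks h D E
  obtain ⟨_, _, _, _, h0, h1, h2, h3, h4⟩ := forall₂_four hB.sg
  obtain ⟨rfl, rfl, rfl, rfl⟩ : χ₁ = _ ∧ χ₂ = _ ∧ χ₃ = _ ∧ χ₄ = _ := by simpa using h0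
  have hs2 := H9.mul_self_of_orderOf_two hs
  obtain ⟨d, hd, hd1, hd2, hd3⟩ := exists_ok h hB.ex.dg₁ (by decide) hs
  obtain ⟨a, ha, ha1, ha2, ha3⟩ := exists_ok h h1.dg (by decide) hs
  obtain ⟨b, hb, hb1, hb2, hb3⟩ := exists_ok h h2.dg (by decide) hs
  obtain ⟨c, hc, hc1, hc2, hc3⟩ := exists_ok h h3.dg (by decide) hs
  obtain ⟨e, he, -, -, he3⟩ := exists_ok h h4.dg (by decide) hs
  have q := hB.quad hK (by norm_num) (by rw [hA]; decide) hs2 hs2
  have l := hB.lin (g := s) (by rw [hs]; decide)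
  simp only [List.zipWith_cons_cons, List.zipWith_nil_right, List.sum_cons, List.sum_nil,
    hd, ha, hb, hc, he, deg_eq, hB.ex.dg₁, h1.dg, h2.dg, h3.dg, h4.dg] at q l
  have q' : 2160 - 135 * (d * d) + 48 * (a * a) - 40 * (b * b) - 18 * (c * c) + 15 * (e * e)
      = 0 := by
    have : (2160 - 135 * (d * d) + 48 * (a * a) - 40 * (b * b) - 18 * (c * c) + 15 * (e * e) : ℂ)
      = 0 := by norm_num [Int.sign_neg, sg_lit] at q; linear_combination 2160 * q
    exact_mod_cast this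
  have l' : e = d + b + c - a - 1 := by
    have : (e : ℂ) = d + b + c - a - 1 := by
      norm_num [Int.sign_neg, sg_lit] at l; linear_combination l
    exact_mod_cast this
  have h5 := sq_le_of_mem hB.nd s (l := [1, d, d, a, b, c, e]) (.cons (by simp)
    (.cons hd (.cons ((hB.ex.reg s (by rw [hs]; decide)).trans hd)
      (.cons ha (.cons hb (.cons hc (.cons he .nil)))))))
  have h6 := not_dvd_card_centralizer (p := 11) (m := 1) (by rw [h]; decide)
    (fun D => by rw [(blocks h D E).2.1, card_bot]) (g := s) (by rw [hs]; decide)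
  have h7 : Nat.card (centralizer ({s} : Set G)) ∣ 8640 :=
    Nat.Coprime.dvd_of_dvd_mul_left ((Nat.Prime.coprime_iff_not_dvd (by norm_num)).mpr h6).symm
      (by have := (centralizer ({s} : Set G)).card_subgroup_dvd_card; rwa [h] at this)
  refine ⟨d, b, e, _, hd, hb, he, rfl, ?_⟩
  generalize Nat.card (centralizer ({s} : Set G)) = n at *
  have h8 := List.all_eq_true.mp chk_inv n
    (List.mem_range.mpr (Nat.lt_succ_of_le (Nat.le_of_dvd (by norm_num) h7)))
  rw [Nat.mod_eq_zero_of_dvd h7, bne_self_eq_false, Bool.false_or] at h8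
  simp only [List.all_eq_true] at h8
  have h9 := h8 d (mem_rg hd1 hd2 hd3) a (mem_rg ha1 ha2 ha3) b (mem_rg hb1 hb2 hb3) c
    (mem_rg hc1 hc2 hc3)
  change ok 144 n e = true at he3
  rw [← l', he3, q', decide_eq_false (by simp at h5; omega)] at h9
  simpa [and_assoc, or_assoc] using h9

/-- The data attached to the centraliser of an element of order five. -/
structure Cen (E : Setup 5 G) (k : G) : Prop where
  hA : Nat.card E.A = 4
  mem : k ∈ E.K
  ord : orderOf k = 2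
  all : ∀ g ∈ E.K, g = 1 ∨ g = k

theorem exists_cen (E : Setup 5 G) : ∃ k, Cen E k := by
  obtain ⟨D⟩ := nonempty_setup (G := G) (p := 11) (by rw [h]; decide) (by rw [h]; decide)
  obtain ⟨-, -, hA, hK, -⟩ := blocks h D E
  obtain ⟨k, hk, hk2⟩ := exists_mem_orderOf (H := E.K) Nat.prime_two (by rw [hK])
  exact ⟨k, hA, hk, hk2, fun g hg =>
    H9.eq_one_or_eq_of_card_le_two hK.le hk (H9.ne_one_of_orderOf_two hk2) hg⟩

namespace Cen

omit h [IsSimpleGroup G] [Fact (Nat.Prime 11)]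

variable {E : Setup 5 G} {k : G} (c : Cen E k)
include c

omit [Finite G] [Fact (Nat.Prime 5)] in
theorem sq : k * k = 1 := H9.mul_self_of_orderOf_two c.ord

omit [Finite G] [Fact (Nat.Prime 5)] in
theorem comm : k * E.x = E.x * k := ((E.hK k).mp c.mem).1

omit [Finite G] [Fact (Nat.Prime 5)] in
theorem not_mem : k ∉ zpowers E.x := fun h => by
  have := orderOf_dvd_of_mem_zpowers h
  rw [c.ord, E.hx] at this
  omega

theorem cent (g : G) (h : g * E.x = E.x * g) : g ∈ zpowers E.x ∨ k * g ∈ zpowers E.x := by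
  obtain ⟨i, l, hl, rfl⟩ := E.exists_of_comm h
  rcases c.all l hl with rfl | rfl
  · exact Or.inl (by rw [mul_one]; exact E.xp_mem i)
  · right
    rw [← (E.K_comm hl i).eq, ← mul_assoc, c.sq, one_mul]
    exact E.xp_mem i

theorem norm {g : G} (h : g ∈ normalizer (zpowers E.x : Set G)) : g * k = k * g := by
  rcases c.all _ (H9.conj_mem_of_mem_normalizer (E.mem_normalizer_K h) c.mem) with h1 | h1
  · exact absurd (by simpa using h1) (H9.ne_one_of_orderOf_two c.ord)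
  · exact mul_inv_eq_iff_eq_mul.mp h1

theorem norm' {g : G} (h : g * E.x * g⁻¹ = E.x⁻¹) : g * k = k * g :=
  c.norm (E.mem_normalizer_iff_conj.mpr (h ▸ inv_mem (mem_zpowers _)))

theorem val_in {χ : IrrCharacter G} (h : χ ∈ prinBlk 5 G) : χ.1 (E.x * k) = χ.1 E.x := by
  rw [← c.comm, ← E.xp_one, E.apply_mul h c.mem one_ne_zero]

theorem val_out {χ : IrrCharacter G} (h : χ ∉ prinBlk 5 G) : χ.1 (E.x * k) = -χ.1 E.x := by
  classical
  have h1 := sum_K_eq_zero E h
  rw [show els E.K = {1, k} from Finset.ext fun g => by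
      rw [mem_els, mem_insert, mem_singleton]
      exact ⟨c.all g, by rintro (rfl | rfl); exacts [E.K.one_mem, c.mem]⟩,
    sum_pair (H9.ne_one_of_orderOf_two c.ord).symm, one_mul, c.comm] at h1
  linear_combination h1

theorem isConj {s : G} (hs : orderOf s = 2) (h : 5 ∣ Nat.card (centralizer ({s} : Set G))) :
    IsConj k s := by
  obtain ⟨z, hz, h5⟩ := exists_mem_orderOf (by norm_num) h
  obtain ⟨g, rfl⟩ := isConj_iff.mp (isConj_of_orderOf E c.hA h5)
  have h1 : g⁻¹ * s * g⁻¹⁻¹ ∈ E.K := (E.hK _).mpr ⟨by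
    calc g⁻¹ * s * g⁻¹⁻¹ * E.x = g⁻¹ * (s * (g * E.x * g⁻¹)) * g := by group
      _ = _ := by rw [← mem_centralizer_singleton_iff.mp hz]; group,
    by rw [H9.orderOf_conj, hs]; decide⟩
  rcases c.all _ h1 with h2 | h2
  · exact absurd (conj_eq_one_iff.mp h2) (H9.ne_one_of_orderOf_two hs)
  · exact (isConj_iff.mpr ⟨_, h2⟩).symm

/-- The number of ways of writing `y` as a product of two conjugates of `a`. -/
noncomputable def cn (a y : G) : ℕ :=
  {s | s * s = 1 ∧ s * y * s⁻¹ = y⁻¹ ∧ IsConj a s ∧ IsConj a (s * y)}.ncard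

theorem inverts_iff {s : G} :
    s * (E.x * k) * s⁻¹ = (E.x * k)⁻¹ ↔ s * E.x * s⁻¹ = E.x⁻¹ := by
  refine ⟨fun h => ?_, fun h => ?_⟩
  · have h1 : (E.x * k) ^ 6 = E.x := by
      rw [(show Commute E.x k from c.comm.symm).mul_pow, pow_succ, E.x_pow, one_mul,
        show 6 = 2 * 3 from rfl, pow_mul, _root_.sq, c.sq, one_pow, mul_one]
    rw [← h1, ← conj_pow, h, inv_pow]
  · rw [← conj_mul, h, c.norm' h, mul_inv_cancel_right, ← c.comm, mul_inv_rev,
      inv_eq_of_mul_eq_one_left c.sq]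

open Classical in
theorem cn_eq {t : G} (ht : t * t = 1) (htf : t * E.x * t⁻¹ = E.x⁻¹) (a : G) :
    cn a E.x = (if IsConj a t then 5 else 0) + (if IsConj a (t * k) then 5 else 0) ∧
    cn a (E.x * k) = if IsConj a t ∧ IsConj a (t * k) then 10 else 0 := by
  have ho : Odd (orderOf E.x) := by rw [E.hx]; decide
  have h2 : t * k * E.x * (t * k)⁻¹ = E.x⁻¹ := by rw [← htf, mul_assoc t, c.comm]; group
  have h3 : ∀ {s y : G}, s * E.x * s⁻¹ = E.x⁻¹ → y ∈ zpowers E.x →
      (IsConj a (s * y) ↔ IsConj a s) := fun {s y} h1 h2 =>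
    ⟨fun h => h.trans (isConj_mul_of_inverts ho h1 h2).symm,
      fun h => h.trans (isConj_mul_of_inverts ho h1 h2)⟩
  have h4 : ∀ y ∈ zpowers E.x, y * (E.x * k) = k * (y * E.x) := fun y hy => by
    rw [← mul_assoc, c.norm (le_normalizer (mul_mem hy (mem_zpowers _)))]
  constructor
  · rw [cn, ncard_two c.sq c.not_mem c.comm c.cent ht htf (c.norm' htf) (P := IsConj a t)
      (Q := IsConj a (t * k)) (fun y hy => ?_) fun y hy => ?_, E.hx]
    · rw [mul_assoc, h3 htf hy, h3 htf (mul_mem hy (mem_zpowers _)), and_self]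
    · rw [mul_assoc (t * k), h3 h2 hy, h3 h2 (mul_mem hy (mem_zpowers _)), and_self]
  · simp only [cn, c.inverts_iff]
    rw [ncard_two c.sq c.not_mem c.comm c.cent ht htf (c.norm' htf)
      (P := IsConj a t ∧ IsConj a (t * k)) (Q := IsConj a t ∧ IsConj a (t * k))
      (fun y hy => ?_) fun y hy => ?_, E.hx]
    · split_ifs <;> rfl
    · rw [mul_assoc, h4 y hy, ← mul_assoc, h3 htf hy, h3 h2 (mul_mem hy (mem_zpowers _))]
    · rw [mul_assoc (t * k), h4 y hy, mul_assoc t k (k * _), ← mul_assoc k k, c.sq, one_mul,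
        h3 h2 hy, h3 htf (mul_mem hy (mem_zpowers _)), and_comm]

theorem cn_cases : cn k E.x + cn k (E.x * k) = 0 ∨ cn k E.x + cn k (E.x * k) = 20 ∨
    cn k E.x + cn k (E.x * k) = 5 ∧ ∃ t, t * t = 1 ∧ t * E.x * t⁻¹ = E.x⁻¹ ∧ ¬ IsConj k t ∧
      IsConj k (t * k) := by
  classical
  by_cases h : ∃ t, t * t = 1 ∧ t * E.x * t⁻¹ = E.x⁻¹
  · obtain ⟨t, ht, htf⟩ := h
    obtain ⟨h1, h2⟩ := c.cn_eq ht htf k
    rw [h1, h2]
    by_cases h3 : IsConj k t <;> by_cases h4 : IsConj k (t * k)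
    · exact Or.inr (Or.inl (by simp only [h3, h4, if_true, and_self]))
    · refine Or.inr (Or.inr ⟨by simp only [h3, h4, if_true, if_false, and_false], t * k, ?_, ?_, h4, ?_⟩)
      · rw [mul_assoc, ← mul_assoc k, ← c.norm' htf, mul_assoc, c.sq, mul_one, ht]
      · rw [← htf, mul_assoc t, c.comm]; group
      · rwa [mul_assoc, c.sq, mul_one]
    · exact Or.inr (Or.inr ⟨by simp only [h3, h4, if_true, if_false, false_and], t, ht, htf, h3, h4⟩)
    · exact Or.inl (by simp only [h3, h4, if_false, false_and])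
  · left
    rw [cn, cn, (Set.ncard_eq_zero).mpr, (Set.ncard_eq_zero).mpr]
    · exact Set.eq_empty_of_forall_notMem fun s hs => h ⟨s, hs.1, c.inverts_iff.mp hs.2.1⟩
    · exact Set.eq_empty_of_forall_notMem fun s hs => h ⟨s, hs.1, hs.2.1⟩

theorem cls_add {L : List (IrrCharacter G)} {l : List ℤ} (hC : Bk1 5 L l) {a : G}
    (ha : a * a = 1) : ((cn a E.x + cn a (E.x * k) : ℕ) : ℂ) *
      (Nat.card (centralizer ({a} : Set G)) * Nat.card (centralizer ({a} : Set G))) =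
      Nat.card G * 2 * (1 + (List.zipWith
        (fun χ (e : ℤ) => (e.sign : ℂ) * (χ.1 a * χ.1 a / χ.1 1)) L l).sum) := by
  have h1 := hC.sum_eq E.hx.symm.dvd fun χ => χ.1 a * χ.1 a / χ.1 1
  rw [← sum_blk_list hC.nd hC.mem] at h1
  simp only [irrOne_val, Pi.one_apply, mul_one, div_one] at h1
  rw [Nat.cast_add, add_mul, cn, cn, cls_eq ha ha, cls_eq ha ha, ← mul_add, ← sum_add_distrib,
    ← h1, mul_assoc, ← sum_subset (subset_univ (prinBlk 5 G)) fun χ _ hχ => by
      rw [c.val_out hχ, map_neg]; ring, mul_sum _ _ 2]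
  congr 1
  exact sum_congr rfl fun χ hχ => by rw [c.val_in hχ]; ring

theorem cls_sub {L : List (IrrCharacter G)} (hL : L.Nodup) (h1 : ∀ χ ∈ L, χ ∉ prinBlk 5 G)
    (h2 : ∀ χ, χ ∉ L → χ ∉ prinBlk 5 G → χ.1 E.x = 0) {a : G} (ha : a * a = 1) :
    (cn a E.x - cn a (E.x * k) : ℂ) *
      (Nat.card (centralizer ({a} : Set G)) * Nat.card (centralizer ({a} : Set G))) =
      Nat.card G * 2 * (L.map fun χ => χ.1 a * χ.1 a / χ.1 1 * conj (χ.1 E.x)).sum := by
  rw [sub_mul, cn, cn, cls_eq ha ha, cls_eq ha ha, ← mul_sub, ← sum_sub_distrib, mul_assoc,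
    ← List.sum_map_mul_left, sum_list_eq hL fun χ hχ => ?_]
  · exact congrArg _ (congrArg _ (List.map_congr_left fun χ hχ => by
      rw [c.val_out (h1 χ hχ), map_neg]; ring))
  · by_cases h3 : χ ∈ prinBlk 5 G
    · rw [c.val_in h3, sub_self]
    · rw [c.val_out h3, h2 χ hχ h3]; simp

omit c in
theorem lin_out {L : List (IrrCharacter G)} (hL : L.Nodup) (h1 : ∀ χ ∈ L, χ ∉ prinBlk 5 G)
    (h2 : ∀ χ, χ ∉ L → χ ∉ prinBlk 5 G → χ.1 E.x = 0) {g : G} (hg : ¬ 5 ∣ orderOf g) :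
    (L.map fun χ => χ.1 g * conj (χ.1 E.x)).sum = 0 := by
  classical
  have h3 := sum_irr_mul_conj_of_not_isConj (g := g) (h := E.x) fun h3 =>
    hg (by rw [orderOf_eq_of_isConj h3, E.hx])
  have h4 := E.sum_mul_reg one_ne_zero hg
  rw [E.xp_one] at h4
  rw [← sum_sdiff (subset_univ (prinBlk 5 G)), h4, add_zero] at h3
  rw [← List.sum_toFinset _ hL, ← h3]
  exact sum_subset (fun χ hχ => by simpa using h1 χ (by simpa using hχ)) fun χ h5 h6 => by
    rw [h2 χ (by simpa using h6) (by simpa using h5)]; simp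

end Cen

end M12

end Cfsg.Agent.H3
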