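import Cfsg.Agent.H3.M11
import Cfsg.Agent.H3.M12b

/-!
# Simple groups of order 2520: a character of degree six
-/

set_option autoImplicit false

namespace Cfsg.Agent.H3

open Finset Subgroup Cfsg.Agent.L0 Cfsg.Agent.H6 Cfsg.Agent.H6.Sieve
open scoped ComplexConjugate

namespace A7

theorem chk : ∀ n ∈ List.range 73, ∀ d ∈ [(-6 : ℤ), -2, 2, 6], ∀ e ∈ [(-6 : ℤ), -2, 2, 6],
    ∀ v ∈ [((-2 : ℤ), (2 : ℤ), (-1 : ℤ)), (2, -2, -1), (6, 2, 7)], ∀ m ∈ [0, 5],
    1 + v.1 * v.1 + v.1 * v.1 + 4 + v.2.2 * v.2.2 + d * d + e * e +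
      (d + e - 1 - v.2.1) * (d + e - 1 - v.2.1) ≤ (n : ℕ) →
    (m : ℕ) * ((n : ℤ) * n) = 4200 - 180 * (d * d + e * e) +
      120 * ((d + e - 1 - v.2.1) * (d + e - 1 - v.2.1)) → m = 5 ∧ n = 24 ∧ v.2.2 = -1 := by
  decide +kernel

variable {G : Type*} [Group G] [Finite G] [IsSimpleGroup G] (h : Nat.card G = 2520)
  [Fact (Nat.Prime 7)] [Fact (Nat.Prime 5)]
include h

omit [Fact (Nat.Prime 7)] [Fact (Nat.Prime 5)] in
theorem ncomm : ¬ IsMulCommutative G := not_isMulCommutative_of_card (by rw [h]; norm_num)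

omit [Fact (Nat.Prime 5)] in
theorem sieve7 {D : Setup 7 G} (B : Brauer D) : ∃ l : List ℤ, (l : Multiset ℤ) = degs B ∧
    Nat.card D.A = 3 ∧ D.K = ⊥ ∧ ([-10, -6, 15].Perm l ∨ [4, -20, 15].Perm l ∨ 8 ∈ l) := by
  obtain ⟨l, h3, h4⟩ := elimOne_sound B (ncomm h) (s := 51) (by rw [h]; norm_num)
    (facs 51 2 2520 []) (fun _ e k l => !(e == 3 && k == 1 &&
      (List.isPerm [-10, -6, 15] l || (List.isPerm [4, -20, 15] l || decide (8 ∈ l)))))
    (by rw [h]; decide +kernel)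
  simp only [Bool.not_eq_false', beq_iff_eq, Bool.and_eq_true, Bool.or_eq_true,
    List.isPerm_iff, decide_eq_true_eq] at h4
  exact ⟨l, h3, h4.1.1, card_eq_one.mp h4.1.2, h4.2⟩

omit [Fact (Nat.Prime 7)] in
theorem sieve5 {D : Setup 5 G} (B : Brauer D) : ∃ l : List ℤ, (l : Multiset ℤ) = degs B ∧
    Nat.card D.A = 4 ∧ D.K = ⊥ ∧ (∀ a ∈ l, a.natAbs ≠ 8) ∧
      ((¬ ∀ a ∈ l, a.natAbs % 7 = 0 ∨ a.natAbs ∈ [10, 6, 15]) ∨ [6, -14, -14, 21].Perm l) := by
  obtain ⟨l, h3, h4⟩ := elimOne_sound B (ncomm h) (s := 51) (by rw [h]; norm_num)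
    (facs 51 2 2520 []) (fun _ e k l => !(e == 4 && k == 1 && (l.all fun a => a.natAbs != 8) &&
      (!(l.all fun a => a.natAbs % 7 == 0 || decide (a.natAbs ∈ [10, 6, 15])) ||
        List.isPerm [6, -14, -14, 21] l)))
    (by rw [h]; decide +kernel)
  rw [Bool.not_eq_false'] at h4
  simp only [beq_iff_eq, Bool.and_eq_true, Bool.or_eq_true,
    List.isPerm_iff, List.all_eq_true, bne_iff_ne, Bool.not_eq_true', Bool.eq_false_iff, ne_eq,
    decide_eq_true_eq] at h4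
  exact ⟨l, h3, h4.1.1.1, card_eq_one.mp h4.1.1.2, h4.1.2, h4.2⟩

omit [Fact (Nat.Prime 5)] in
theorem not_four {D : Setup 7 G} (hA : Nat.card D.A = 3) (hK : D.K = ⊥)
    {c₁ c₂ : IrrCharacter G} {L : List (IrrCharacter G)}
    (hB : Bk2 7 D.x 3 c₁ c₂ 4 L [-20, 15]) : False := by
  obtain ⟨χ₁, χ₂, rfl, h1, h2⟩ := forall₂_two hB.sg
  obtain ⟨t, -, ht⟩ := exists_mem_orderOf (H := (⊤ : Subgroup G)) Nat.prime_two
    (by rw [card_top, h]; decide)
  have ht2 := H9.mul_self_of_orderOf_two ht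
  obtain ⟨c, hc, hc1, hc2, hc3⟩ := invol_val (ncomm h) hB.ex.dg₁ (by decide) ht
  obtain ⟨a, ha⟩ := exists_int_invol χ₁ ht2
  obtain ⟨b, hb⟩ := exists_int_invol χ₂ ht2
  obtain rfl : c = 0 := by norm_num at hc1 hc2 hc3; omega
  have q := hB.quad hK (by norm_num) (by rw [hA]; decide) ht2 ht2
  have l := hB.lin (g := t) (by rw [ht]; decide)
  simp only [List.zipWith_cons_cons, List.zipWith_nil_right, List.sum_cons, List.sum_nil,
    hc, ha, hb, deg_eq, hB.ex.dg₁, h1.dg, h2.dg] at q l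
  have q' : 60 - 3 * (a * a) + 4 * (b * b) = 0 := by
    apply Int.cast_injective (α := ℂ)
    norm_num [Int.sign_neg, sg_lit] at q
    push_cast
    linear_combination 60 * q
  have l' : a = b + 1 := by
    apply Int.cast_injective (α := ℂ)
    norm_num [Int.sign_neg, sg_lit] at l
    push_cast
    linear_combination -l
  subst l'
  nlinarith [sq_nonneg (b - 3)]

theorem blocks (D : Setup 7 G) (E : Setup 5 G) : Nat.card D.A = 3 ∧ D.K = ⊥ ∧
    Nat.card E.A = 4 ∧ E.K = ⊥ ∧ ∃ c₁ c₂ χ₁ χ₂ ψ₁ ψ₂ ψ₃ : IrrCharacter G,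
      Bk2 7 D.x 3 c₁ c₂ (-10) [χ₁, χ₂] [-6, 15] ∧ Bk1 5 [χ₁, ψ₁, ψ₂, ψ₃] [6, -14, -14, 21] := by
  obtain ⟨B⟩ := D.nonempty_brauer
  obtain ⟨C⟩ := E.nonempty_brauer
  obtain ⟨l, hl, hA, hK, h1⟩ := sieve7 h B
  obtain ⟨m, hm, hA', hK', h2, h3⟩ := sieve5 h C
  rcases h1 with h1 | h1 | h1
  · obtain ⟨c₁, c₂, L, hB⟩ := exists_bk2 B hA rfl ((Multiset.coe_eq_coe.mpr h1).trans hl)
      (by decide)
    have key : ∀ a ∈ m, a.natAbs % 7 = 0 ∨ a.natAbs ∈ [10, 6, 15] := fun a ha => by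
      obtain ⟨χ, -, h4, h5⟩ := exists_of_mem_degs C (hm ▸ Multiset.mem_coe.mpr ha)
      refine (em _).imp_right fun h6 => ?_
      obtain ⟨b, hb, h7⟩ := exists_mem_degs B (χ := χ) (by_contra fun h7 =>
        h6 (Nat.mod_eq_zero_of_dvd (h5 ▸ D.dvd_deg_of_K_eq_bot hK h7))) h4
      rw [h5, ← h7]
      rw [← hl, Multiset.mem_coe, ← h1.mem_iff] at hb
      clear h7
      revert b
      decide
    obtain ⟨M, hC⟩ := exists_bk1 C hA' ((Multiset.coe_eq_coe.mpr (h3.resolve_left fun h3 =>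
      h3 key)).trans hm)
    obtain ⟨χ₁, χ₂, rfl, k1, k2⟩ := forall₂_two hB.sg
    obtain ⟨ψ₀, ψ₁, ψ₂, ψ₃, rfl, k3, -⟩ := forall₂_four hC.sg
    have h4 := mem_of_not_dvd hB.mem hK (χ := ψ₀) (by rw [k3.dg]; decide)
    have h5 := k3.dg
    simp only [List.mem_cons, List.not_mem_nil, or_false] at h4
    rcases h4 with rfl | rfl | rfl | rfl | rfl
    · simp [deg_irrOne] at h5
    · simp [hB.ex.dg₁] at h5
    · simp [hB.ex.dg₂] at h5
    · exact ⟨hA, hK, hA', hK', _, _, _, _, _, _, _, hB, hC⟩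
    · simp [k2.dg] at h5
  · obtain ⟨c₁, c₂, L, hB⟩ := exists_bk2 B hA rfl ((Multiset.coe_eq_coe.mpr h1).trans hl)
      (by decide)
    exact (not_four h hA hK hB).elim
  · obtain ⟨χ, -, h4, h5⟩ := exists_of_mem_degs B (hl ▸ Multiset.mem_coe.mpr h1)
    obtain ⟨b, hb, h7⟩ := exists_mem_degs C (χ := χ) (by_contra fun h7 =>
      absurd (E.dvd_deg_of_K_eq_bot hK' h7) (by rw [← h5]; decide)) h4
    exact absurd (h7.trans h5.symm) (h2 b (Multiset.mem_coe.mp (hm ▸ hb)))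

theorem not_dvd {g : G} (h5 : ¬ orderOf g ∣ 5) (h7 : ¬ orderOf g ∣ 7) :
    Nat.card (centralizer ({g} : Set G)) ∣ 72 := by
  obtain ⟨D⟩ := nonempty_setup (G := G) (p := 7) (by rw [h]; decide) (by rw [h]; decide)
  obtain ⟨E⟩ := nonempty_setup (G := G) (p := 5) (by rw [h]; decide) (by rw [h]; decide)
  have h1 := not_dvd_card_centralizer (p := 5) (m := 1) (by rw [h]; decide)
    (fun E => by rw [(blocks h D E).2.2.2.1, card_bot]) h5
  have h2 := not_dvd_card_centralizer (p := 7) (m := 1) (by rw [h]; decide)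
    (fun D => by rw [(blocks h D E).2.1, card_bot]) h7
  have h3 := (centralizer ({g} : Set G)).card_subgroup_dvd_card
  rw [h, show 2520 = 5 * (7 * 72) from rfl] at h3
  exact Nat.Coprime.dvd_of_dvd_mul_left ((Nat.Prime.coprime_iff_not_dvd (by norm_num)).mpr h2).symm
    (Nat.Coprime.dvd_of_dvd_mul_left ((Nat.Prime.coprime_iff_not_dvd (by norm_num)).mpr h1).symm h3)

variable {D : Setup 7 G} {E : Setup 5 G} {c₁ c₂ χ₁ χ₂ ψ₁ ψ₂ ψ₃ : IrrCharacter G}
  (hB : Bk2 7 D.x 3 c₁ c₂ (-10) [χ₁, χ₂] [-6, 15]) (hC : Bk1 5 [χ₁, ψ₁, ψ₂, ψ₃] [6, -14, -14, 21])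
include hB hC

theorem invol (E : Setup 5 G) {s : G} (hs : orderOf s = 2) :
    Nat.card (centralizer ({s} : Set G)) = 24 ∧ χ₂.1 s = -1 ∧
      (χ₁.1 s = 2 ∧ c₁.1 s = -2 ∨ χ₁.1 s = -2) ∧
      ∃ t, t * E.x * t⁻¹ = E.x⁻¹ ∧ IsConj s t := by
  obtain ⟨hA, hK, hA', hK', -⟩ := blocks h D E
  obtain ⟨_, _, h0, h1, h2⟩ := forall₂_two hB.sg
  obtain ⟨rfl, rfl⟩ : χ₁ = _ ∧ χ₂ = _ := by simpa using h0
  obtain ⟨_, _, _, _, h0, -, k1, k2, k3⟩ := forall₂_four hC.sg
  obtain ⟨rfl, rfl, rfl, rfl⟩ : χ₁ = _ ∧ ψ₁ = _ ∧ ψ₂ = _ ∧ ψ₃ = _ := by simpa using h0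
  have hs2 := H9.mul_self_of_orderOf_two hs
  obtain ⟨c, hc, hc1, hc2, hc3⟩ := invol_val (ncomm h) hB.ex.dg₁ (by decide) hs
  obtain ⟨a, ha, ha1, ha2, ha3⟩ := invol_val (ncomm h) h1.dg (by decide) hs
  obtain ⟨b, hb⟩ := exists_int_invol χ₂ hs2
  obtain ⟨d, hd, hd1, -⟩ := invol_val (ncomm h) k1.dg (by decide) hs
  obtain ⟨e, he, he1, -⟩ := invol_val (ncomm h) k2.dg (by decide) hs
  obtain ⟨g, hg⟩ := exists_int_invol ψ₃ hs2
  have q := hB.quad hK (by norm_num) (by rw [hA]; decide) hs2 hs2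
  have l := hB.lin (g := s) (by rw [hs]; decide)
  have r := cls_eq hs2 hs2 E.x
  have m := hC.lin E (g := s) (by rw [hs]; decide)
  rw [hC.quad hK', h] at r
  have n1 : c₁ ≠ c₂ := by
    have := hB.nd
    simp only [List.nodup_cons, List.mem_cons, not_or] at this
    exact this.2.1.1
  have n2 : ψ₁ ≠ ψ₂ := by
    have := hC.nd
    simp only [List.nodup_cons, List.mem_cons, not_or] at this
    exact this.2.2.1.1
  have nd : [irrOne G, c₁, c₂, χ₁, χ₂, ψ₁, ψ₂, ψ₃].Pairwise fun a b => deg a ≠ deg b ∨ a ≠ b := by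
    simp [deg_irrOne, hB.ex.dg₁, hB.ex.dg₂, h1.dg, h2.dg, k1.dg, k2.dg, k3.dg, n1, n2]
  have h5 := sq_le_of_mem (nd.imp fun h3 h4 => h3.elim (fun h3 => h3 (congrArg deg h4))
    fun h3 => h3 h4) s (l := [1, c, c, a, b, d, e, g]) (.cons (by simp)
    (.cons hc (.cons ((hB.ex.reg s (by rw [hs]; decide)).trans hc)
      (.cons ha (.cons hb (.cons hd (.cons he (.cons hg .nil))))))))
  have h6 := Nat.le_of_dvd (by norm_num) (not_dvd h (g := s) (by rw [hs]; decide)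
    (by rw [hs]; decide))
  have h7 := cls_cases (a := s) (b := s) (f := E.x) (by rw [E.hx]; decide) (mem_zpowers_of_K hK')
  generalize Set.ncard _ = k at r h7
  generalize Nat.card (centralizer ({s} : Set G)) = n at r h5 h6
  simp only [List.zipWith_cons_cons, List.zipWith_nil_right, List.sum_cons, List.sum_nil,
    List.map_cons, List.map_nil, hc, ha, hb, hd, he, hg, deg_eq, hB.ex.dg₁, h1.dg, h2.dg, k1.dg,
    k2.dg, k3.dg] at q l r m h5
  have q' : 30 - 3 * (c * c) - 5 * (a * a) + 2 * (b * b) = 0 := by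
    apply Int.cast_injective (α := ℂ)
    norm_num [Int.sign_neg, sg_lit] at q
    push_cast
    linear_combination 30 * q
  have l' : b = a + c - 1 := by
    apply Int.cast_injective (α := ℂ)
    norm_num [Int.sign_neg, sg_lit] at l
    push_cast
    linear_combination l
  have m' : g = d + e - 1 - a := by
    apply Int.cast_injective (α := ℂ)
    norm_num [Int.sign_neg, sg_lit] at m
    push_cast
    linear_combination m
  have r' : (k : ℤ) * (n * n) = 2520 + 420 * (a * a) - 180 * (d * d + e * e) + 120 * (g * g) := by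
    apply Int.cast_injective (α := ℂ)
    norm_num [Int.sign_neg, sg_lit] at r
    push_cast
    linear_combination r
  norm_num at hc1 hc2 hc3 ha1 ha2 ha3 hd1 he1
  have i1 : (c, a, b) ∈ [((-2 : ℤ), (2 : ℤ), (-1 : ℤ)), (2, -2, -1), (6, 2, 7)] := by
    subst l'
    rcases (show a = 2 ∨ a = -2 by omega) with rfl | rfl <;>
      rcases (show c = 2 ∨ c = -2 ∨ c = 6 ∨ c = -6 by omega) with rfl | rfl | rfl | rfl <;>
      first | decide | omega
  have i2 : ∀ d : ℤ, d * d ≤ 72 → 4 ∣ 14 - d → d ∈ [(-6 : ℤ), -2, 2, 6] := fun d h1 h2 => by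
    have : d < 9 := by nlinarith
    have : -9 < d := by nlinarith
    simp only [List.mem_cons, List.not_mem_nil, or_false]
    omega
  have i3 : a * a = 4 := by rcases (show a = 2 ∨ a = -2 by omega) with rfl | rfl <;> rfl
  have := mul_self_nonneg c
  have := mul_self_nonneg b
  have := mul_self_nonneg d
  have := mul_self_nonneg e
  have := mul_self_nonneg g
  obtain ⟨h8, h9, h10⟩ := chk n (List.mem_range.mpr (by omega)) d (i2 d (by omega) hd1)
    e (i2 e (by omega) he1) _ i1 k (by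
      rcases h7 with h7 | ⟨h7, -⟩
      · simp [h7]
      · simp [h7, E.hx]) (by rw [← m']; simp only; omega) (by rw [← m', r', i3]; ring)
  obtain ⟨-, t, -, h11⟩ := h7.resolve_left (by omega)
  simp only [List.mem_cons, List.not_mem_nil, or_false, Prod.mk.injEq] at i1 h10
  refine ⟨h9, by simp [hb, h10], ?_, t, h11⟩
  rcases i1 with ⟨rfl, rfl, -⟩ | ⟨rfl, rfl, -⟩ | ⟨-, -, rfl⟩
  · exact Or.inl ⟨by simp [ha], by simp [hc]⟩
  · exact Or.inr (by simp [ha])
  · omega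

omit h hC [IsSimpleGroup G] [Fact (Nat.Prime 7)] [Fact (Nat.Prime 5)] in
theorem exists_int {χ : IrrCharacter G} (hχ : χ ∈ [c₁, χ₁, χ₂]) {g : G} (hg : ¬ 7 ∣ orderOf g) :
    ∃ a : ℤ, χ.1 g = a := by
  obtain ⟨_, _, h0, h1, h2⟩ := forall₂_two hB.sg
  obtain ⟨rfl, rfl⟩ : χ₁ = _ ∧ χ₂ = _ := by simpa using h0
  refine exists_int_of_blk ((hB.mem χ).mpr (List.Sublist.subset (by simp) hχ)) fun ψ h3 h4 => ?_
  replace h3 := (hB.mem ψ).mp h3
  simp only [List.mem_cons, List.not_mem_nil, or_false] at h3 hχ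
  rcases hχ with rfl | rfl | rfl <;> rcases h3 with rfl | rfl | rfl | rfl | rfl <;>
    first
    | rfl
    | exact hB.ex.reg g hg
    | simp [deg_irrOne, hB.ex.dg₁, hB.ex.dg₂, h1.dg, h2.dg] at h4

theorem val_invol {s : G} (hs : orderOf s = 2) : χ₁.1 s = 2 ∧ c₁.1 s = -2 := by
  obtain ⟨E⟩ := nonempty_setup (G := G) (p := 5) (by rw [h]; decide) (by rw [h]; decide)
  obtain ⟨-, -, hA', hK', -⟩ := blocks h D E
  obtain ⟨_, _, _, _, h0, k0, -⟩ := forall₂_four hC.sg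
  obtain ⟨rfl, -⟩ : χ₁ = _ ∧ ψ₁ = _ ∧ ψ₂ = _ ∧ ψ₃ = _ := by simpa using h0
  obtain ⟨-, -, h1, t, h2, h3⟩ := invol h hB hC E hs
  refine h1.resolve_right fun h1 => ?_
  obtain ⟨u, hu⟩ := exists_act_five E (by have := E.card_A_mul_index; rw [hA'] at this; omega) hK'
  have h4 := h3.trans (isConj_of_inverts (by rw [E.hx]; decide) (mem_zpowers_of_K hK') h2
    hu.sq_inverts)
  have h5 : orderOf (u ^ 2) = 2 := (orderOf_eq_of_isConj h4).symm.trans hs
  rw [IsClassFunction.eq_of_isConj (irr_isClass χ₁) h4] at h1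
  have h6 := act_of_inverts (by norm_num) (by norm_num) E.hx (H9.mul_self_of_orderOf_two h5)
    hu.sq_inverts
  obtain ⟨a, ha⟩ := exists_int hB (χ := χ₁) (by simp) (g := u) (by rw [hu.orderOf_u]; decide)
  have hχ := irr_isChar χ₁
  have e1 := fx_prime hχ (by norm_num) E.hx fun g hg _ => k0.val g hg.symm.dvd
  have e2 := fx_two hχ h5
  have e3 := fx_four hχ hu.orderOf_u ha
  have e4 := hu.fx_eq hχ
  have e5 := h6.fx_eq hχ
  have e6 := fx_mono hχ (sup_le_sup_left (zpowers_le.mpr (npow_mem_zpowers u 2)) (zpowers E.x))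
  have e7 := eight_dvd_of_four (perfect_of_simple (ncomm h)) hχ hu.hu (one_eq k0.dg) ha (b := -2)
    (by rw [h1]; simp)
  rw [k0.one] at e1 e2 e3 e4 e5
  rw [h1] at e2 e3
  norm_num [sg_lit] at e1 e2 e3 e4 e5 e7
  have e8 : fx χ₁.1 (zpowers E.x ⊔ zpowers (u ^ 2)) = 0 := by
    apply Nat.cast_injective (R := ℂ)
    push_cast
    linear_combination e5 / 2 + e1 / 10 + e2 / 2
  have e9 : (2 * fx χ₁.1 (zpowers E.x ⊔ zpowers u) : ℤ) = a := by
    apply Int.cast_injective (α := ℂ)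
    push_cast
    linear_combination e4 / 2 + e1 / 10 + e3 / 2
  omega

theorem val_four {w : G} (hw : orderOf w = 4) : χ₁.1 w = 0 := by
  obtain ⟨E⟩ := nonempty_setup (G := G) (p := 5) (by rw [h]; decide) (by rw [h]; decide)
  obtain ⟨_, _, h0, h1, h2⟩ := forall₂_two hB.sg
  obtain ⟨rfl, rfl⟩ : χ₁ = _ ∧ χ₂ = _ := by simpa using h0
  have h3 : orderOf (w ^ 2) = 2 := by rw [orderOf_pow' w (by norm_num), hw]; rfl
  have h4 : w ^ 4 = 1 := by rw [← hw, pow_orderOf_eq_one]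
  have h5 : ¬ 7 ∣ orderOf w := by rw [hw]; decide
  have hG := perfect_of_simple (ncomm h)
  obtain ⟨n1, n2, -⟩ := invol h hB hC E h3
  obtain ⟨n3, n4⟩ := val_invol h hB hC h3
  obtain ⟨c, hc⟩ := exists_int hB (χ := c₁) (by simp) h5
  obtain ⟨a, ha⟩ := exists_int hB (χ := χ₁) (by simp) h5
  obtain ⟨b, hb⟩ := exists_int hB (χ := χ₂) (by simp) h5
  have e1 := eight_dvd_of_four hG (irr_isChar c₁) h4 (one_eq hB.ex.dg₁) hc (b := -2)
    (by rw [n4]; simp)
  have e2 := eight_dvd_of_four hG (irr_isChar χ₁) h4 (one_eq h1.dg) ha (b := 2)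
    (by rw [n3]; simp)
  have l := hB.lin h5
  have h6 := sq_le_of_mem hB.nd w (l := [1, c, c, a, b]) (.cons (by simp)
    (.cons hc (.cons ((hB.ex.reg w h5).trans hc) (.cons ha (.cons hb .nil)))))
  have h7 : Nat.card (centralizer ({w} : Set G)) ≤ 24 := n1 ▸ card_le_of_le fun g hg =>
    mem_centralizer_singleton_iff.mpr (Commute.pow_right (mem_centralizer_singleton_iff.mp hg) 2)
  simp only [List.zipWith_cons_cons, List.zipWith_nil_right, List.sum_cons, List.sum_nil,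
    List.map_cons, List.map_nil, hc, ha, hb] at l h6
  have l' : b = a + c - 1 := by
    apply Int.cast_injective (α := ℂ)
    norm_num [Int.sign_neg, sg_lit] at l
    push_cast
    linear_combination l
  have := mul_self_nonneg c
  have := mul_self_nonneg a
  have := mul_self_nonneg b
  have i1 : c < 4 := by nlinarith
  have i2 : -4 < c := by nlinarith
  have i3 : a < 5 := by nlinarith
  have i4 : -5 < a := by nlinarith
  norm_num at e1 e2
  obtain rfl : c = 0 := by omega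
  rcases (show a = 0 ∨ a = 4 ∨ a = -4 by omega) with rfl | rfl | rfl
  · simp [ha]
  · subst l'; omega
  · subst l'; omega

end A7

end Cfsg.Agent.H3
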