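import Cfsg.Agent.H3.Fix

/-!
# Explicit lists of the characters of a principal block of defect one; products of involutions
-/

set_option autoImplicit false

namespace Cfsg.Agent.H3

open Finset Subgroup Cfsg.Agent.L0 Cfsg.Agent.H6 Cfsg.Agent.H6.Sieve
open scoped ComplexConjugate

theorem exists_list_of_map {α β : Type*} (f : α → β) : ∀ (l : List β) (s : Multiset α),
    s.map f = l → ∃ L : List α, (L : Multiset α) = s ∧ List.Forall₂ (fun a b => f a = b) L l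
  | [], s, h => ⟨[], (Multiset.map_eq_zero.mp h).symm, List.Forall₂.nil⟩
  | b :: l, s, h => by
    classical
    obtain ⟨a, ha, h1, h2⟩ := (Multiset.map_eq_cons f s l b).mpr h
    obtain ⟨L, h3, h4⟩ := exists_list_of_map f l _ h2
    exact ⟨a :: L, by rw [← Multiset.cons_coe, h3, Multiset.cons_erase ha], h4.cons h1⟩

theorem forall₂_imp_mem {α β : Type*} {R S : α → β → Prop} : ∀ {L : List α} {l : List β},
    List.Forall₂ R L l → (∀ a ∈ L, ∀ b, R a b → S a b) → List.Forall₂ S L l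
  | _, _, .nil, _ => .nil
  | _, _, .cons h1 h2, h => .cons (h _ List.mem_cons_self _ h1)
      (forall₂_imp_mem h2 fun a ha => h a (List.mem_cons_of_mem _ ha))

variable {G : Type*} [Group G] [Finite G]

/-- A character of degree `d` with the constant value `δ` on the `p`-singular elements. -/
structure Sg (p : ℕ) (χ : IrrCharacter G) (δ : ℤ) (d : ℕ) : Prop where
  dg : deg χ = d
  val : ∀ g, p ∣ orderOf g → χ.1 g = δ

omit [Finite G] in
theorem Sg.one {p : ℕ} {χ : IrrCharacter G} {δ : ℤ} {d : ℕ} (h : Sg p χ δ d) : χ.1 1 = d := by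
  rw [deg_eq, h.dg]

omit [Finite G] in
theorem one_eq {χ : IrrCharacter G} {d : ℕ} (h : deg χ = d) : χ.1 1 = (d : ℤ) := by
  rw [deg_eq, h, Int.cast_natCast]

theorem sum_blk_list {p : ℕ} {L : List (IrrCharacter G)} (hL : L.Nodup)
    (h : ∀ χ, χ ∈ prinBlk p G ↔ χ ∈ L) {M : Type*} [AddCommMonoid M] (F : IrrCharacter G → M) :
    ∑ χ ∈ prinBlk p G, F χ = (L.map F).sum := by
  classical
  rw [← List.sum_toFinset _ hL]
  exact sum_congr (Finset.ext fun χ => by rw [h, List.mem_toFinset]) fun _ _ => rfl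

theorem exists_int_of_blk {p : ℕ} {χ : IrrCharacter G} (h : χ ∈ prinBlk p G) {g : G}
    (hu : ∀ ψ ∈ prinBlk p G, deg ψ = deg χ → ψ.1 g = χ.1 g) : ∃ n : ℤ, χ.1 g = n := by
  refine exists_int_of_forall_ringHom (IsCharacter.isIntegral (irr_isChar χ) g) fun σ => ?_
  rw [← Setup.gal_apply, hu _ (Setup.gal_mem.mpr h)]
  have := Setup.gal_apply σ χ 1
  rw [deg_eq, deg_eq, map_natCast] at this
  exact_mod_cast this

theorem sign_mul_deg {δ : ℤ} (h : δ = 1 ∨ δ = -1) {d : ℕ} (hd : 0 < d) :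
    (δ * d).sign = δ ∧ (δ * d).natAbs = d := by
  rcases h with rfl | rfl
  · simp [Int.sign_eq_one_of_pos (Int.natCast_pos.mpr hd)]
  · simp [Int.sign_eq_one_of_pos (Int.natCast_pos.mpr hd)]

variable {p : ℕ} [hp : Fact p.Prime] {D : Setup p G} (B : Brauer D)

theorem lin_rel {L : List (IrrCharacter G)} (hL : L.Nodup) (h : ∀ χ, χ ∈ prinBlk p G ↔ χ ∈ L)
    (D : Setup p G) {g : G} (hg : ¬ p ∣ orderOf g) :
    (L.map fun χ => χ.1 g * conj (χ.1 D.x)).sum = 0 := by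
  rw [← sum_blk_list hL h, ← D.xp_one]
  exact D.sum_mul_reg one_ne_zero hg

theorem vanish {L : List (IrrCharacter G)} (h : ∀ χ, χ ∈ prinBlk p G ↔ χ ∈ L)
    {D : Setup p G} (hK : D.K = ⊥) {χ : IrrCharacter G} (hχ : χ ∉ L) {g : G}
    (hg : p ∣ orderOf g) : χ.1 g = 0 :=
  eq_zero_of_dvd_deg hp.out D.not_sq_dvd (D.dvd_deg_of_K_eq_bot hK fun h1 => hχ ((h χ).mp h1)) hg

theorem mem_of_not_dvd {L : List (IrrCharacter G)} (h : ∀ χ, χ ∈ prinBlk p G ↔ χ ∈ L)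
    {D : Setup p G} (hK : D.K = ⊥) {χ : IrrCharacter G} (hχ : ¬ p ∣ deg χ) : χ ∈ L :=
  by_contra fun h1 => hχ (D.dvd_deg_of_K_eq_bot hK fun h2 => h1 ((h χ).mp h2))

theorem sg_S {χ : IrrCharacter G} (h : χ ∈ B.S) {a : ℤ} (ha : B.δ χ * deg χ = a) :
    Sg p χ a.sign a.natAbs := by
  obtain ⟨h1, h2⟩ := sign_mul_deg (B.hδ χ h) (deg_pos χ)
  rw [← ha, h1, h2]
  exact ⟨rfl, fun g hg => B.val_S_of_dvd h hg⟩

open Classical in
theorem sum_c_val {g : G} (hg : p ∣ orderOf g) : ∑ q, (B.c q).1 g = B.δ0 := by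
  obtain ⟨i, hi, k, hk, h⟩ := D.exists_conj_of_dvd hg
  rw [← B.sum_val_c hi]
  exact sum_congr rfl fun q _ => by
    rw [IsClassFunction.eq_of_isConj (irr_isClass _) h, D.apply_mul (B.c_mem q) hk hi]

theorem blk_one (hA : D.A.index = 1) {l : List ℤ} (h : (l : Multiset ℤ) = degs B) :
    ∃ L : List (IrrCharacter G), (irrOne G :: L).Nodup ∧
      (∀ χ, χ ∈ prinBlk p G ↔ χ ∈ irrOne G :: L) ∧
      List.Forall₂ (fun χ a => Sg p χ a.sign a.natAbs) L l := by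
  classical
  have hs : Subsingleton ((ZMod p)ˣ ⧸ D.A) := (Nat.card_eq_one_iff_unique.mp hA).1
  have h1 : B.c 1 ∉ B.S.erase (irrOne G) := fun h => B.not_mem 1 (mem_of_mem_erase h)
  let f : IrrCharacter G → ℤ := fun χ => if χ ∈ B.S then B.δ χ * deg χ else B.δ0 * B.f0
  obtain ⟨L, h2, h3⟩ := exists_list_of_map f l (cons _ _ h1).val (by
    rw [h, cons_val, Multiset.map_cons, degs]
    congr 1
    · exact if_neg (B.not_mem 1)
    · exact Multiset.map_congr rfl fun χ hχ => if_pos (mem_of_mem_erase hχ))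
  have h4 : ∀ χ, χ ∈ L ↔ χ = B.c 1 ∨ χ ≠ irrOne G ∧ χ ∈ B.S := fun χ => by
    rw [← Multiset.mem_coe, h2, mem_val, mem_cons, mem_erase]
  refine ⟨L, List.nodup_cons.mpr ⟨fun h5 => ?_, Multiset.coe_nodup.mp (h2 ▸ (cons _ _ h1).nodup)⟩,
    fun χ => ?_, forall₂_imp_mem h3 fun χ hχ a ha => ?_⟩
  · rcases (h4 _).mp h5 with h5 | h5
    exacts [B.c_ne_one 1 h5.symm, h5.1 rfl]
  · rw [B.mem_iff, List.mem_cons, h4]
    constructor
    · rintro (h5 | ⟨q, rfl⟩)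
      · by_cases h6 : χ = irrOne G
        exacts [Or.inl h6, Or.inr (Or.inr ⟨h6, h5⟩)]
      · exact Or.inr (Or.inl (congrArg _ (Subsingleton.elim _ _)))
    · rintro (rfl | rfl | h5)
      exacts [Or.inl B.one_mem, Or.inr ⟨1, rfl⟩, Or.inl h5.2]
  · rcases (h4 _).mp hχ with rfl | h5
    · have h6 : B.δ0 * B.f0 = a := (if_neg (B.not_mem 1)).symm.trans ha
      obtain ⟨h7, h8⟩ := sign_mul_deg B.hδ0 (deg_pos (B.c 1))
      rw [← h6, Brauer.f0, h7, h8]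
      refine ⟨rfl, fun g hg => ?_⟩
      rw [← sum_c_val B hg, Fintype.sum_subsingleton _ 1]
    · exact sg_S B h5.2 ((if_pos h5.2).symm.trans ha)

/-- A pair of exceptional characters. -/
structure Ex (p : ℕ) (x : G) (c₁ c₂ : IrrCharacter G) (δ : ℤ) (d e : ℕ) : Prop where
  dg₁ : deg c₁ = d
  dg₂ : deg c₂ = d
  reg : ∀ g, ¬ p ∣ orderOf g → c₂.1 g = c₁.1 g
  val : ∀ g, p ∣ orderOf g → c₁.1 g + c₂.1 g = δ
  sum₁ : ∑ i ∈ range p, c₁.1 (x ^ i) = d + e * δ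
  sum₂ : ∑ i ∈ range p, c₂.1 (x ^ i) = d + e * δ

theorem sum_c_pow (q : (ZMod p)ˣ ⧸ D.A) :
    ∑ i ∈ range p, (B.c q).1 (D.x ^ i) = B.f0 + Nat.card D.A * B.δ0 := by
  rw [range_eq_Ico, sum_eq_sum_Ico_succ_bot hp.out.pos, pow_zero, deg_eq, B.deg_c, zero_add,
    D.sum_Ico, D.sum_apply_xp, sum_erase _ (by rw [D.d_zero, Int.cast_zero]), ← Int.cast_sum,
    B.sum_d_c]
  push_cast
  ring

theorem blk_two (hA : D.A.index = 2) {f : ℤ} {l : List ℤ}
    (h : ((f :: l : List ℤ) : Multiset ℤ) = degs B)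
    (hl : ∀ a ∈ l, ¬ (p : ℤ) ∣ a + Nat.card D.A) :
    ∃ (c₁ c₂ : IrrCharacter G) (L : List (IrrCharacter G)), (irrOne G :: c₁ :: c₂ :: L).Nodup ∧
      (∀ χ, χ ∈ prinBlk p G ↔ χ ∈ irrOne G :: c₁ :: c₂ :: L) ∧
      Ex p D.x c₁ c₂ f.sign f.natAbs (Nat.card D.A) ∧
      List.Forall₂ (fun χ a => Sg p χ a.sign a.natAbs) L l := by
  classical
  obtain ⟨q, r, hqr, hu⟩ := Nat.card_eq_two_iff.mp hA
  have hu' : ∀ s, s = q ∨ s = r := fun s => by
    have : s ∈ ({q, r} : Set _) := hu ▸ Set.mem_univ s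
    simpa using this
  have h1 : B.δ0 * B.f0 = f := by
    have : B.δ0 * B.f0 ∈ f :: l := Multiset.mem_coe.mp (h ▸ Multiset.mem_cons_self _ _)
    exact (List.mem_cons.mp this).resolve_right fun h2 => hl _ h2 B.dvd_f0_add
  rw [degs, h1, ← Multiset.cons_coe, Multiset.cons_inj_right] at h
  obtain ⟨L, h2, h3⟩ := exists_list_of_map _ l _ h.symm
  have h4 : ∀ χ, χ ∈ L ↔ χ ≠ irrOne G ∧ χ ∈ B.S := fun χ => by
    rw [← Multiset.mem_coe, h2, mem_val, mem_erase]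
  obtain ⟨h7, h8⟩ := sign_mul_deg B.hδ0 (deg_pos (B.c 1))
  change (B.δ0 * B.f0).sign = _ at h7
  change (B.δ0 * B.f0).natAbs = B.f0 at h8
  rw [h1] at h7 h8
  refine ⟨B.c q, B.c r, L, ?_, fun χ => ?_, ?_,
    forall₂_imp_mem h3 fun χ hχ a ha => sg_S B ((h4 _).mp hχ).2 ha⟩
  · simp only [List.nodup_cons, List.mem_cons, not_or, h4, not_and]
    exact ⟨⟨(B.c_ne_one q).symm, (B.c_ne_one r).symm, fun h => absurd rfl h⟩,
      ⟨fun h => hqr (B.inj h), fun _ => B.not_mem q⟩, fun _ => B.not_mem r,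
      Multiset.coe_nodup.mp (h2 ▸ (B.S.erase _).nodup)⟩
  · simp only [B.mem_iff, List.mem_cons, h4]
    constructor
    · rintro (h5 | ⟨s, rfl⟩)
      · by_cases h6 : χ = irrOne G
        exacts [Or.inl h6, Or.inr (Or.inr (Or.inr ⟨h6, h5⟩))]
      · rcases hu' s with rfl | rfl
        exacts [Or.inr (Or.inl rfl), Or.inr (Or.inr (Or.inl rfl))]
    · rintro (rfl | rfl | rfl | h5)
      exacts [Or.inl B.one_mem, Or.inr ⟨_, rfl⟩, Or.inr ⟨_, rfl⟩, Or.inl h5.2]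
  · rw [h7, h8]
    refine ⟨B.deg_c q, B.deg_c r, fun g hg => B.reg _ _ hg, fun g hg => ?_, sum_c_pow B q,
      sum_c_pow B r⟩
    rw [← sum_c_val B hg, ← sum_pair (f := fun s => (B.c s).1 g) hqr]
    exact sum_congr (eq_univ_of_forall fun s => by simpa using hu' s) fun _ _ => rfl

omit [Finite G] in
theorem Sg.sum_pow {χ : IrrCharacter G} {δ : ℤ} {d : ℕ} (h : Sg p χ δ d) {x : G}
    (hx : orderOf x = p) : ∑ i ∈ range p, χ.1 (x ^ i) = d + (p - 1) * δ := by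
  rw [range_eq_Ico, sum_eq_sum_Ico_succ_bot hp.out.pos, pow_zero, h.one,
    sum_congr rfl fun i hi => h.val _ (by
      rw [mem_Ico] at hi
      rw [Nat.Coprime.orderOf_pow (by
        rw [hx]; exact (Nat.coprime_of_lt_prime (by omega) hi.2 hp.out)), hx]),
    sum_const, Nat.card_Ico, nsmul_eq_mul, Nat.cast_sub hp.out.one_le]
  simp

/-! ### Products of two involutions -/

omit hp in
theorem cls_eq {a b : G} (ha : a * a = 1) (hb : b * b = 1) (c : G) :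
    ({s | s * s = 1 ∧ s * c * s⁻¹ = c⁻¹ ∧ IsConj a s ∧ IsConj b (s * c)}.ncard : ℂ) *
      (Nat.card (centralizer ({a} : Set G)) * Nat.card (centralizer ({b} : Set G))) =
      Nat.card G * ∑ χ : IrrCharacter G, χ.1 a * χ.1 b * conj (χ.1 c) / χ.1 1 := by
  have key : ∀ {a s : G}, a * a = 1 → IsConj a s → s * s = 1 := fun {a s} ha h => by
    obtain ⟨g, rfl⟩ := isConj_iff.mp h
    rw [conj_mul, ha, mul_one, mul_inv_cancel]
  have h1 : Nat.card {p : G × G // IsConj a p.1 ∧ IsConj b p.2 ∧ p.1 * p.2 = c} =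
      {s | s * s = 1 ∧ s * c * s⁻¹ = c⁻¹ ∧ IsConj a s ∧ IsConj b (s * c)}.ncard := by
    have h0 : ∀ {u v : G}, u * u = 1 → u * v = c → u * c = v := fun {u v} h1 h2 => by
      rw [← h2, ← mul_assoc, h1, one_mul]
    refine Nat.card_congr ⟨fun p => ⟨p.1.1, key ha p.2.1, ?_, p.2.1, ?_⟩,
      fun s => ⟨(s.1, s.1 * c), s.2.2.2.1, s.2.2.2.2, ?_⟩, fun p => ?_, fun s => rfl⟩
    · rw [h0 (key ha p.2.1) p.2.2.2, eq_inv_iff_mul_eq_one, mul_assoc, inv_mul_eq_iff_eq_mul.mpr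
        p.2.2.2.symm, key hb p.2.2.1]
    · rw [h0 (key ha p.2.1) p.2.2.2]
      exact p.2.2.1
    · rw [← mul_assoc, s.2.1, one_mul]
    · exact Subtype.ext (Prod.ext rfl (h0 (key ha p.2.1) p.2.2.2))
  rw [← h1, card_class_mul_eq]
  have h2 : ∀ g : G, ((centralizer ({g} : Set G)).index : ℂ) *
      Nat.card (centralizer ({g} : Set G)) = Nat.card G := fun g => by
    exact_mod_cast (centralizer ({g} : Set G)).index_mul_card
  have h3 := natCard_ne_zero G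
  field_simp
  linear_combination (∑ χ : IrrCharacter G, χ.1 a * χ.1 b * conj (χ.1 c) / χ.1 1) *
    (((centralizer ({b} : Set G)).index : ℂ) * Nat.card (centralizer ({b} : Set G)) * h2 a +
      Nat.card G * h2 b)

omit hp [Finite G] in
theorem isConj_mul_of_inverts {s f y : G} (hf : Odd (orderOf f)) (h : s * f * s⁻¹ = f⁻¹)
    (hy : y ∈ zpowers f) : IsConj s (s * y) := by
  obtain ⟨i, rfl⟩ := mem_zpowers_iff.mp hy
  obtain ⟨m, hm⟩ := hf
  have h1 : s * f ^ (i * (m + 1)) * s⁻¹ = (f ^ (i * (m + 1)))⁻¹ := by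
    rw [← conj_zpow, h, inv_zpow]
  have h2 : f ^ (i * (m + 1)) * f ^ (i * (m + 1)) = f ^ i := by
    rw [← zpow_add, show i * (m + 1) + i * (m + 1) = (2 * m + 1 : ℕ) * i + i by push_cast; ring,
      zpow_add, zpow_mul, ← hm, zpow_natCast, pow_orderOf_eq_one, one_zpow, one_mul]
  refine isConj_iff.mpr ⟨(f ^ (i * (m + 1)))⁻¹, ?_⟩
  rw [← h2, ← h1]
  generalize f ^ (i * (m + 1)) = z at *
  rw [h1, inv_inv, ← h1]
  group

omit hp [Finite G] in
theorem ncard_coset (s : G) (H : Subgroup G) : {y | s⁻¹ * y ∈ H}.ncard = Nat.card H :=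
  Nat.card_congr ⟨fun y => ⟨s⁻¹ * y, y.2⟩, fun h => ⟨s * h, by simp⟩, fun y => by simp,
    fun h => by simp⟩

omit hp [Finite G] in
theorem inverts_mul {s f y : G} (hs : s * s = 1) (h : s * f * s⁻¹ = f⁻¹) (hy : y ∈ zpowers f) :
    s * y * (s * y) = 1 ∧ s * y * f * (s * y)⁻¹ = f⁻¹ := by
  obtain ⟨i, rfl⟩ := mem_zpowers_iff.mp hy
  have h1 : s * f ^ i * s⁻¹ = (f ^ i)⁻¹ := by rw [← conj_zpow, h, inv_zpow]
  refine ⟨?_, by rw [← h]; group⟩
  rw [← mul_assoc]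
  nth_rewrite 2 [← inv_eq_of_mul_eq_one_left hs]
  rw [h1, inv_mul_cancel]

omit hp [Finite G] in
theorem comm_of_inverts {s s' f : G} (h : s * f * s⁻¹ = f⁻¹) (h' : s' * f * s'⁻¹ = f⁻¹) :
    s⁻¹ * s' * f = f * (s⁻¹ * s') := by
  calc s⁻¹ * s' * f = s⁻¹ * (s' * f * s'⁻¹) * s' := by group
    _ = f * (s⁻¹ * s') := by rw [h', ← h]; group

omit hp in
/-- Products of two involutions equal to a self-centralising element of odd order. -/
theorem cls_cases {a b f : G} (hf : Odd (orderOf f))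
    (hC : ∀ g, g * f = f * g → g ∈ zpowers f) :
    {s | s * s = 1 ∧ s * f * s⁻¹ = f⁻¹ ∧ IsConj a s ∧ IsConj b (s * f)}.ncard = 0 ∨
    ({s | s * s = 1 ∧ s * f * s⁻¹ = f⁻¹ ∧ IsConj a s ∧ IsConj b (s * f)}.ncard = orderOf f ∧
      ∃ s, s * s = 1 ∧ s * f * s⁻¹ = f⁻¹ ∧ IsConj a s) := by
  rcases Set.eq_empty_or_nonempty
    {s | s * s = 1 ∧ s * f * s⁻¹ = f⁻¹ ∧ IsConj a s ∧ IsConj b (s * f)} with h | ⟨s, hs⟩
  · exact Or.inl (by rw [h, Set.ncard_empty])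
  refine Or.inr ⟨?_, s, hs.1, hs.2.1, hs.2.2.1⟩
  rw [← Nat.card_zpowers, ← ncard_coset s]
  congr 1
  ext y
  refine ⟨fun hy => hC _ (comm_of_inverts hs.2.1 hy.2.1), fun hy => ?_⟩
  have h1 := inverts_mul hs.1 hs.2.1 hy
  have h2 := isConj_mul_of_inverts hf hs.2.1 hy
  have h3 := isConj_mul_of_inverts hf hs.2.1 (mul_mem hy (mem_zpowers f))
  rw [← mul_assoc, mul_inv_cancel_left] at h3
  rw [mul_inv_cancel_left] at h1 h2
  exact ⟨h1.1, h1.2, hs.2.2.1.trans h2, (hs.2.2.2.trans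
    (isConj_mul_of_inverts hf hs.2.1 (mem_zpowers f)).symm).trans h3⟩

omit hp [Finite G] in
theorem isConj_of_inverts {s s' f : G} (hf : Odd (orderOf f))
    (hC : ∀ g, g * f = f * g → g ∈ zpowers f) (h : s * f * s⁻¹ = f⁻¹) (h' : s' * f * s'⁻¹ = f⁻¹) :
    IsConj s s' := by
  have := isConj_mul_of_inverts hf h (hC _ (comm_of_inverts h h'))
  rwa [mul_inv_cancel_left] at this

omit [Finite G] in
theorem not_isConj_inv (D : Setup p G) (hp2 : p ≠ 2) (hA : Odd (Nat.card D.A)) :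
    ¬ IsConj D.x D.x⁻¹ := fun h => by
  have h1 : (-1 : (ZMod p)ˣ) ∈ D.A := by
    rw [D.hA]
    change IsConj D.x (D.xp _)
    rwa [Units.val_neg, Units.val_one, D.xp_neg, D.xp_one]
  have : Fact (2 < p) := ⟨lt_of_le_of_ne hp.out.two_le hp2.symm⟩
  have h2 : orderOf (-1 : (ZMod p)ˣ) = 2 := H9.orderOf_two_of (fun h => ZMod.neg_one_ne_one
    (n := p) (by simpa using congrArg Units.val h)) (by simp)
  exact (Nat.not_even_iff_odd.mpr hA) (even_iff_two_dvd.mpr (h2 ▸ D.A.orderOf_dvd_natCard h1))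

omit hp in
theorem cls_zero {a b c : G} (ha : a * a = 1) (hb : b * b = 1) (h : ¬ IsConj c c⁻¹) :
    ∑ χ : IrrCharacter G, χ.1 a * χ.1 b * conj (χ.1 c) / χ.1 1 = 0 := by
  have h1 := cls_eq ha hb c
  have h2 : {s | s * s = 1 ∧ s * c * s⁻¹ = c⁻¹ ∧ IsConj a s ∧ IsConj b (s * c)} = ∅ :=
    Set.eq_empty_of_forall_notMem fun s hs => h (isConj_iff.mpr ⟨s, hs.2.1⟩)
  rw [h2, Set.ncard_empty, Nat.cast_zero, zero_mul, eq_comm, mul_eq_zero] at h1
  exact h1.resolve_left (natCard_ne_zero G)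

theorem mem_zpowers_of_K {D : Setup p G} (hK : D.K = ⊥) (g : G) (h : g * D.x = D.x * g) :
    g ∈ zpowers D.x := by
  rw [← D.centralizer_eq_iff.mpr hK]
  exact mem_centralizer_singleton_iff.mpr h

end Cfsg.Agent.H3
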