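import Cfsg.Agent.H3.Loc

/-!
# Relations in blocks given by explicit lists
-/

set_option autoImplicit false

namespace Cfsg.Agent.H3

open Finset Subgroup Cfsg.Agent.L0 Cfsg.Agent.H6 Cfsg.Agent.H6.Sieve
open scoped ComplexConjugate

variable {G : Type*} [Group G] {p : ℕ}

theorem sg_lit (n : ℕ) [n.AtLeastTwo] : (ofNat(n) : ℤ).sign = 1 :=
  Int.sign_eq_one_of_pos (Nat.ofNat_pos (n := n))

theorem zip_sum {x : G} (hx : p ∣ orderOf x) (Φ : IrrCharacter G → ℂ) :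
    ∀ {L : List (IrrCharacter G)} {l : List ℤ},
      List.Forall₂ (fun χ a => Sg p χ a.sign a.natAbs) L l →
      (L.map fun χ => Φ χ * conj (χ.1 x)).sum =
        (List.zipWith (fun χ (a : ℤ) => (a.sign : ℂ) * Φ χ) L l).sum
  | _, _, .nil => rfl
  | _, _, .cons h1 h2 => by
    rw [List.map_cons, List.sum_cons, List.zipWith_cons_cons, List.sum_cons, zip_sum hx Φ h2,
      h1.val x hx, map_intCast, mul_comm]

variable [Finite G]

/-- A block with exactly `p` characters. -/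
structure Bk1 (p : ℕ) (L : List (IrrCharacter G)) (l : List ℤ) : Prop where
  nd : (irrOne G :: L).Nodup
  mem : ∀ χ, χ ∈ prinBlk p G ↔ χ ∈ irrOne G :: L
  sg : List.Forall₂ (fun χ a => Sg p χ a.sign a.natAbs) L l

/-- A block with two exceptional characters. -/
structure Bk2 (p : ℕ) (x : G) (e : ℕ) (c₁ c₂ : IrrCharacter G) (f : ℤ) (L : List (IrrCharacter G))
    (l : List ℤ) : Prop where
  nd : (irrOne G :: c₁ :: c₂ :: L).Nodup
  mem : ∀ χ, χ ∈ prinBlk p G ↔ χ ∈ irrOne G :: c₁ :: c₂ :: L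
  ex : Ex p x c₁ c₂ f.sign f.natAbs e
  sg : List.Forall₂ (fun χ a => Sg p χ a.sign a.natAbs) L l

theorem Bk1.sum_eq {L : List (IrrCharacter G)} {l : List ℤ} (h : Bk1 p L l) {x : G}
    (hx : p ∣ orderOf x) (Φ : IrrCharacter G → ℂ) :
    ((irrOne G :: L).map fun χ => Φ χ * conj (χ.1 x)).sum =
      Φ (irrOne G) + (List.zipWith (fun χ (a : ℤ) => (a.sign : ℂ) * Φ χ) L l).sum := by
  rw [List.map_cons, List.sum_cons, zip_sum hx Φ h.sg, irrOne_val, Pi.one_apply, map_one, mul_one]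

theorem Bk2.sum_eq {x : G} {e : ℕ} {c₁ c₂ : IrrCharacter G} {f : ℤ} {L : List (IrrCharacter G)}
    {l : List ℤ} (h : Bk2 p x e c₁ c₂ f L l) {y : G} (hy : p ∣ orderOf y) (Φ : IrrCharacter G → ℂ)
    (hΦ : Φ c₂ = Φ c₁) : ((irrOne G :: c₁ :: c₂ :: L).map fun χ => Φ χ * conj (χ.1 y)).sum =
      Φ (irrOne G) + f.sign * Φ c₁ +
        (List.zipWith (fun χ (a : ℤ) => (a.sign : ℂ) * Φ χ) L l).sum := by
  have h1 := congrArg conj (h.ex.val y hy)
  rw [map_add, map_intCast] at h1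
  simp only [List.map_cons, List.sum_cons, zip_sum hy Φ h.sg, irrOne_val, Pi.one_apply, map_one,
    hΦ, ← h1]
  ring

variable [hp : Fact p.Prime]

theorem Bk1.lin {L : List (IrrCharacter G)} {l : List ℤ} (h : Bk1 p L l) (D : Setup p G) {g : G}
    (hg : ¬ p ∣ orderOf g) :
    1 + (List.zipWith (fun χ (a : ℤ) => (a.sign : ℂ) * χ.1 g) L l).sum = 0 :=
  (h.sum_eq D.hx.symm.dvd fun χ => χ.1 g).symm.trans (lin_rel h.nd h.mem D hg)

theorem Bk2.lin {D : Setup p G} {e : ℕ} {c₁ c₂ : IrrCharacter G} {f : ℤ}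
    {L : List (IrrCharacter G)} {l : List ℤ} (h : Bk2 p D.x e c₁ c₂ f L l) {g : G}
    (hg : ¬ p ∣ orderOf g) :
    1 + f.sign * c₁.1 g + (List.zipWith (fun χ (a : ℤ) => (a.sign : ℂ) * χ.1 g) L l).sum = 0 :=
  (h.sum_eq D.hx.symm.dvd (fun χ => χ.1 g) (h.ex.reg g hg)).symm.trans (lin_rel h.nd h.mem D hg)

omit hp in
theorem not_dvd_of_invol (hp : p.Prime) (h2 : p ≠ 2) {t : G} (ht : t * t = 1) :
    ¬ p ∣ orderOf t := fun h => h2 ((Nat.prime_dvd_prime_iff_eq hp Nat.prime_two).mp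
      (h.trans (orderOf_dvd_of_pow_eq_one (by rw [sq, ht]))))

theorem Bk1.quad {L : List (IrrCharacter G)} {l : List ℤ} (h : Bk1 p L l) {D : Setup p G}
    (hK : D.K = ⊥) (s t : G) : ∑ χ : IrrCharacter G, χ.1 s * χ.1 t * conj (χ.1 D.x) / χ.1 1 =
    1 + (List.zipWith (fun χ (a : ℤ) => (a.sign : ℂ) * (χ.1 s * χ.1 t / χ.1 1)) L l).sum := by
  rw [sum_list_eq h.nd fun χ hχ => by rw [vanish h.mem hK hχ D.hx.symm.dvd]; simp]
  simp only [mul_div_right_comm _ (conj _)]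
  rw [h.sum_eq D.hx.symm.dvd]
  simp [irrOne_val]

theorem Bk2.quad {D : Setup p G} {e : ℕ} {c₁ c₂ : IrrCharacter G} {f : ℤ}
    {L : List (IrrCharacter G)} {l : List ℤ} (h : Bk2 p D.x e c₁ c₂ f L l) (hK : D.K = ⊥)
    (h2 : p ≠ 2) (hA : Odd (Nat.card D.A)) {s t : G} (hs : s * s = 1) (ht : t * t = 1) :
    1 + f.sign * (c₁.1 s * c₁.1 t / c₁.1 1) +
      (List.zipWith (fun χ (a : ℤ) => (a.sign : ℂ) * (χ.1 s * χ.1 t / χ.1 1)) L l).sum = 0 := by
  have h1 := cls_zero hs ht (not_isConj_inv D h2 hA)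
  rw [sum_list_eq h.nd fun χ hχ => by rw [vanish h.mem hK hχ D.hx.symm.dvd]; simp] at h1
  simp only [mul_div_right_comm _ (conj _)] at h1
  rw [h.sum_eq D.hx.symm.dvd _ (by
    rw [h.ex.reg s (not_dvd_of_invol hp.out h2 hs), h.ex.reg t (not_dvd_of_invol hp.out h2 ht),
      h.ex.reg 1 Setup.one_not_dvd])] at h1
  simpa [irrOne_val] using h1

theorem exists_bk1 {D : Setup p G} (B : Brauer D) (hA : Nat.card D.A = p - 1) {l : List ℤ}
    (h : (l : Multiset ℤ) = degs B) : ∃ L : List (IrrCharacter G), Bk1 p L l := by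
  have h1 := D.card_A_mul_index
  rw [hA] at h1
  obtain ⟨L, h2, h3, h4⟩ := blk_one B
    (Nat.eq_of_mul_eq_mul_left (Nat.sub_pos_of_lt hp.out.one_lt) (h1.trans (mul_one _).symm)) h
  exact ⟨L, h2, h3, h4⟩

theorem exists_bk2 {D : Setup p G} (B : Brauer D) {e : ℕ} (hA : Nat.card D.A = e)
    (he : e * 2 = p - 1) {f : ℤ} {l : List ℤ} (h : ((f :: l : List ℤ) : Multiset ℤ) = degs B)
    (hl : ∀ a ∈ l, ¬ (p : ℤ) ∣ a + e) : ∃ c₁ c₂ L, Bk2 p D.x e c₁ c₂ f L l := by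
  subst hA
  obtain ⟨c₁, c₂, L, h2, h3, h4, h5⟩ := blk_two B
    (Nat.eq_of_mul_eq_mul_left Nat.card_pos (D.card_A_mul_index.trans he.symm)) h hl
  exact ⟨c₁, c₂, L, h2, h3, h4, h5⟩

omit hp [Finite G] in
theorem forall₂_one {α β : Type*} {R : α → β → Prop} {L : List α} {a : β}
    (h : List.Forall₂ R L [a]) : ∃ x, L = [x] ∧ R x a := by
  obtain _ | ⟨h1, _ | _⟩ := h
  exact ⟨_, rfl, h1⟩

omit hp [Finite G] in
theorem forall₂_two {α β : Type*} {R : α → β → Prop} {L : List α} {a b : β}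
    (h : List.Forall₂ R L [a, b]) : ∃ x y, L = [x, y] ∧ R x a ∧ R y b := by
  obtain _ | ⟨h1, _ | ⟨h2, _ | _⟩⟩ := h
  exact ⟨_, _, rfl, h1, h2⟩

omit hp [Finite G] in
theorem forall₂_four {α β : Type*} {R : α → β → Prop} {L : List α} {a b c d : β}
    (h : List.Forall₂ R L [a, b, c, d]) :
    ∃ x y z w, L = [x, y, z, w] ∧ R x a ∧ R y b ∧ R z c ∧ R w d := by
  obtain _ | ⟨h1, _ | ⟨h2, _ | ⟨h3, _ | ⟨h4, _ | _⟩⟩⟩⟩ := h
  exact ⟨_, _, _, _, rfl, h1, h2, h3, h4⟩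

omit hp in
/-- The value of a character at an involution. -/
theorem invol_val [IsSimpleGroup G] (hG : ¬ IsMulCommutative G) {χ : IrrCharacter G} {d : ℕ}
    (hd : deg χ = d) (h1 : d ≠ 1) {t : G} (ht : orderOf t = 2) :
    ∃ a : ℤ, χ.1 t = a ∧ 4 ∣ d - a ∧ -(d : ℤ) < a ∧ a < d := by
  have h2 := H9.mul_self_of_orderOf_two ht
  obtain ⟨a, ha⟩ := exists_int_invol χ h2
  have h3 := abs_lt_deg hG (χ := χ) (fun h => h1 (by rw [← hd, h, deg_irrOne]))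
    (H9.ne_one_of_orderOf_two ht) ha
  rw [hd, abs_lt] at h3
  exact ⟨a, ha, four_dvd_of_invol (perfect_of_simple hG) (irr_isChar χ) h2 (one_eq hd) ha, h3⟩

omit hp in
theorem dvd_sub_of_comm (hp : p.Prime) {χ : IrrCharacter G} {x k : G} (hx : orderOf x = p)
    (h : k * x = x * k) {a b : ℤ} (ha : χ.1 (x * k) = a) (hb : χ.1 k = b) : (p : ℤ) ∣ a - b :=
  IsGeneralizedCharacter.dvd_sub hp (irr_isGen χ) (k := 1)
    (by rw [pow_one, ← hx, pow_orderOf_eq_one]) h.symm ha hb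

theorem dvd_orderOf_mul_K (D : Setup p G) {k : G} (hk : k ∈ D.K) : p ∣ orderOf (D.x * k) := by
  obtain ⟨h1, h2⟩ := (D.hK k).mp hk
  rw [(show Commute D.x k from h1.symm).orderOf_mul_eq_mul_orderOf_of_coprime
    (by rw [D.hx]; exact (Nat.Prime.coprime_iff_not_dvd hp.out).mpr h2), D.hx]
  exact dvd_mul_right _ _

omit hp in
theorem exists_mem_orderOf {H : Subgroup G} {q : ℕ} (hq : q.Prime) (h : q ∣ Nat.card H) :
    ∃ k ∈ H, orderOf k = q := by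
  have := Fact.mk hq
  obtain ⟨k, hk⟩ := exists_prime_orderOf_dvd_card' (G := H) q h
  exact ⟨k, k.2, by rw [orderOf_coe, hk]⟩

end Cfsg.Agent.H3
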