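import Cfsg.Agent.H6.Sieve2
import Cfsg.Agent.H6.DefZero
import Cfsg.Agent.H9.Invol

/-!
# Dimensions of fixed spaces, and congruences for character values
-/

set_option autoImplicit false

namespace Cfsg.Agent.H3

open Finset Subgroup Cfsg.Agent.L0 Cfsg.Agent.H6
open scoped ComplexConjugate

variable {G : Type*} [Group G] [Finite G]

/-- The elements of a subgroup, as a finite set. -/
noncomputable def els (H : Subgroup G) : Finset G := (H : Set G).toFinite.toFinset

theorem mem_els {H : Subgroup G} {g : G} : g ∈ els H ↔ g ∈ H := Set.Finite.mem_toFinset _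

theorem card_els (H : Subgroup G) : (els H).card = Nat.card H :=
  (Set.ncard_eq_toFinset_card _ _).symm

theorem sum_els (H : Subgroup G) [Fintype H] (χ : G → ℂ) : ∑ g ∈ els H, χ g = ∑ h : H, χ h :=
  sum_subtype _ (fun _ => mem_els) _

/-- The dimension of the space fixed by a subgroup. -/
noncomputable def fx (χ : G → ℂ) (H : Subgroup G) : ℕ :=
  ⌊((Nat.card H : ℂ)⁻¹ * ∑ g ∈ els H, χ g).re⌋₊

section rep

variable {V : Type*} [AddCommGroup V] [Module ℂ V] [FiniteDimensional ℂ V]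
  (ρ : Representation ℂ G V)

/-- The space fixed by a subgroup. -/
noncomputable def fsp (H : Subgroup G) : Submodule ℂ V := Representation.invariants (ρ.comp H.subtype)

omit [Finite G] [FiniteDimensional ℂ V] in
theorem mem_fsp {H : Subgroup G} {v : V} : v ∈ fsp ρ H ↔ ∀ g ∈ H, ρ g v = v :=
  ⟨fun h g hg => h ⟨g, hg⟩, fun h g => h g g.2⟩

theorem avg_eq (H : Subgroup G) :
    (Nat.card H : ℂ)⁻¹ * ∑ g ∈ els H, ρ.character g = Module.finrank ℂ (fsp ρ H) := by
  have := Fintype.ofFinite H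
  have := invertibleOfNonzero (natCard_ne_zero H)
  rw [sum_els]
  exact Representation.card_inv_mul_sum_char_eq_finrank (ρ.comp H.subtype)

theorem fx_eq (H : Subgroup G) : fx ρ.character H = Module.finrank ℂ (fsp ρ H) := by
  rw [fx, avg_eq, Complex.natCast_re, Nat.floor_natCast]

omit [Finite G] [FiniteDimensional ℂ V] in
theorem fsp_sup (H K : Subgroup G) : fsp ρ (H ⊔ K) = fsp ρ H ⊓ fsp ρ K := by
  ext v
  simp only [Submodule.mem_inf, mem_fsp]
  refine ⟨fun h => ⟨fun g hg => h g (mem_sup_left hg), fun g hg => h g (mem_sup_right hg)⟩,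
    fun h => ?_⟩
  let S : Subgroup G :=
    { carrier := {g | ρ g v = v}
      mul_mem' := fun {a b} ha hb => by
        simp only [Set.mem_ofPred_eq] at *
        rw [map_mul, Module.End.mul_apply, hb, ha]
      one_mem' := by simp
      inv_mem' := fun {a} ha => by
        simp only [Set.mem_ofPred_eq] at *
        conv_lhs => rw [← ha]
        rw [← Module.End.mul_apply, ← map_mul, inv_mul_cancel, map_one, Module.End.one_apply] }
  exact fun g hg => (sup_le (show H ≤ S from h.1) (show K ≤ S from h.2)) hg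

end rep

variable {χ : G → ℂ}

theorem sum_els_eq (hχ : IsCharacter G χ) (H : Subgroup G) :
    ∑ g ∈ els H, χ g = Nat.card H * fx χ H := by
  obtain ⟨n, ρ, rfl⟩ := hχ
  rw [fx_eq, ← avg_eq, mul_inv_cancel_left₀ (natCard_ne_zero H)]

theorem fx_mono (hχ : IsCharacter G χ) {H K : Subgroup G} (h : H ≤ K) : fx χ K ≤ fx χ H := by
  obtain ⟨n, ρ, rfl⟩ := hχ
  rw [fx_eq, fx_eq]
  exact Submodule.finrank_mono fun v hv => (mem_fsp ρ).mpr fun g hg => (mem_fsp ρ).mp hv g (h hg)

theorem fx_sup (hχ : IsCharacter G χ) {H K L : Subgroup G} (h1 : L ≤ H) (h2 : L ≤ K) :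
    fx χ H + fx χ K ≤ fx χ L + fx χ (H ⊔ K) := by
  obtain ⟨n, ρ, rfl⟩ := hχ
  simp only [fx_eq]
  rw [fsp_sup, ← Submodule.finrank_sup_add_finrank_inf_eq]
  refine Nat.add_le_add_right (Submodule.finrank_mono (sup_le ?_ ?_)) _
  · exact fun v hv => (mem_fsp ρ).mpr fun g hg => (mem_fsp ρ).mp hv g (h1 hg)
  · exact fun v hv => (mem_fsp ρ).mpr fun g hg => (mem_fsp ρ).mp hv g (h2 hg)

theorem fx_top {χ : IrrCharacter G} (h : χ ≠ irrOne G) : fx χ.1 ⊤ = 0 := by
  have := Fintype.ofFinite G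
  have h1 := classInner_irr χ (irrOne G)
  rw [if_neg h, irrOne_val, classInner_one_right, mul_eq_zero] at h1
  have h2 := sum_els_eq (irr_isChar χ) ⊤
  rw [show els (⊤ : Subgroup G) = univ from eq_univ_of_forall fun g => mem_els.mpr (mem_top g),
    h1.resolve_left (inv_ne_zero (natCard_ne_zero G)), eq_comm, mul_eq_zero] at h2
  exact_mod_cast h2.resolve_left (natCard_ne_zero _)

theorem sup_ne_top {χ : IrrCharacter G} (h : χ ≠ irrOne G) {H K L : Subgroup G} (h1 : L ≤ H)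
    (h2 : L ≤ K) (h3 : fx χ.1 L < fx χ.1 H + fx χ.1 K) : H ⊔ K ≠ ⊤ := fun h4 => by
  have := fx_sup (irr_isChar χ) h1 h2
  rw [h4, fx_top h] at this
  omega

theorem sum_els_zpowers (g : G) (χ : G → ℂ) :
    ∑ h ∈ els (zpowers g), χ h = ∑ i ∈ range (orderOf g), χ (g ^ i) := by
  classical
  symm
  refine sum_nbij (fun i => g ^ i) (fun i _ => mem_els.mpr (npow_mem_zpowers g i))
    (fun i hi j hj h => pow_injOn_Iio_orderOf (by simpa using hi) (by simpa using hj) h)
    (fun h hh => ?_) fun _ _ => rfl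
  have := mem_zpowers_iff_mem_range_orderOf.mp (mem_els.mp hh)
  simpa using this

theorem fx_zpowers (hχ : IsCharacter G χ) (g : G) :
    (orderOf g : ℂ) * fx χ (zpowers g) = ∑ i ∈ range (orderOf g), χ (g ^ i) := by
  rw [← sum_els_zpowers, sum_els_eq hχ, Nat.card_zpowers]

theorem fx_of_const (hχ : IsCharacter G χ) {H K : Subgroup G} (hKH : K ≤ H) {c : ℂ}
    (h : ∀ g ∈ H, g ∉ K → χ g = c) :
    (Nat.card H : ℂ) * fx χ H = Nat.card K * fx χ K + (Nat.card H - Nat.card K) * c := by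
  classical
  have h1 : els K ⊆ els H := fun g hg => mem_els.mpr (hKH (mem_els.mp hg))
  rw [← sum_els_eq hχ, ← sum_els_eq hχ, ← sum_sdiff h1, add_comm, sum_congr rfl fun g hg =>
    h g (mem_els.mp (mem_sdiff.mp hg).1) fun h2 => (mem_sdiff.mp hg).2 (mem_els.mpr h2),
    sum_const, card_sdiff_of_subset h1, nsmul_eq_mul, Nat.cast_sub (card_le_card h1), card_els,
    card_els]

theorem fx_bot (hχ : IsCharacter G χ) : (fx χ ⊥ : ℂ) = χ 1 := by
  have h := sum_els_eq hχ ⊥
  rw [show els (⊥ : Subgroup G) = {1} by ext g; simp [mem_els], sum_singleton, card_bot] at h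
  simp [h]

theorem fx_of_const_ne (hχ : IsCharacter G χ) {H : Subgroup G} {c : ℂ}
    (h : ∀ g ∈ H, g ≠ 1 → χ g = c) :
    (Nat.card H : ℂ) * fx χ H = χ 1 + (Nat.card H - 1) * c := by
  have := fx_of_const hχ (bot_le : ⊥ ≤ H) (c := c) fun g hg h1 => h g hg (by simpa using h1)
  simpa [fx_bot hχ] using this

theorem sum_sup {K W : Subgroup G} (hN : W ≤ normalizer (K : Set G)) (hd : K ⊓ W = ⊥)
    {M : Type*} [AddCommMonoid M] (F : G → M) :
    ∑ g ∈ els (K ⊔ W), F g = ∑ w ∈ els W, ∑ k ∈ els K, F (k * w) := by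
  classical
  rw [← sum_product']
  symm
  refine sum_nbij (fun a => a.2 * a.1) (fun a ha => ?_) (fun a ha b hb h => ?_) (fun g hg => ?_)
    fun _ _ => rfl
  · rw [mem_product, mem_els, mem_els] at ha
    exact mem_els.mpr (mul_mem (mem_sup_left ha.2) (mem_sup_right ha.1))
  · rw [coe_product, Set.mem_prod, mem_coe, mem_coe, mem_els, mem_els] at ha hb
    simp only at h
    have h1 : b.2⁻¹ * a.2 = b.1 * a.1⁻¹ := by
      rw [inv_mul_eq_iff_eq_mul, ← mul_assoc, ← h, mul_inv_cancel_right]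
    have h2 : b.2⁻¹ * a.2 ∈ K ⊓ W :=
      ⟨K.mul_mem (K.inv_mem hb.2) ha.2, h1 ▸ W.mul_mem hb.1 (W.inv_mem ha.1)⟩
    rw [hd, mem_bot] at h2
    rw [h2] at h1
    exact Prod.ext (mul_inv_eq_one.mp h1.symm).symm (inv_mul_eq_one.mp h2).symm
  · obtain ⟨b, hb, a, ha, rfl⟩ := (H9.mem_sup_of_le_normalizer' hN).mp (mem_els.mp hg)
    exact ⟨(a, b), by simp [mem_els, ha, hb], rfl⟩

theorem card_sup {K W : Subgroup G} (hN : W ≤ normalizer (K : Set G)) (hd : K ⊓ W = ⊥) :
    Nat.card (K ⊔ W : Subgroup G) = Nat.card K * Nat.card W := by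
  have := sum_sup hN hd (fun _ => 1)
  simpa [card_els, mul_comm] using this

theorem sum_coset (hχ : IsClassFunction G χ) {K : Subgroup G} {w : G}
    (hN : w ∈ normalizer (K : Set G)) (hf : ∀ k ∈ K, k * w = w * k → k = 1) :
    ∑ k ∈ els K, χ (k * w) = Nat.card K * χ w := by
  classical
  have hm : ∀ k ∈ els K, k * w * k⁻¹ * w⁻¹ ∈ els K := fun k hk => by
    rw [mem_els] at *
    have := mul_mem hk (H9.conj_mem_of_mem_normalizer hN (inv_mem hk))
    simpa only [mul_assoc] using this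
  have hi : Set.InjOn (fun k => k * w * k⁻¹ * w⁻¹) (els K) := fun a ha b hb h => by
    rw [mem_coe, mem_els] at ha hb
    simp only [mul_left_inj] at h
    have h1 := hf (b⁻¹ * a) (mul_mem (inv_mem hb) ha) (by
      calc b⁻¹ * a * w = b⁻¹ * (a * w * a⁻¹) * a := by group
        _ = w * (b⁻¹ * a) := by rw [h]; group)
    exact (inv_mul_eq_one.mp h1).symm
  rw [← sum_nbij (fun k => k * w * k⁻¹ * w⁻¹) hm hi
    (surjOn_of_injOn_of_card_le _ hm hi le_rfl) (f := fun _ => χ w) (g := fun k => χ (k * w))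
    fun k _ => by rw [inv_mul_cancel_right, hχ w k]]
  rw [sum_const, card_els, nsmul_eq_mul]

omit [Finite G] in
theorem inf_eq_bot_of_free {K W : Subgroup G}
    (hf : ∀ w ∈ W, w ≠ 1 → ∀ k ∈ K, k * w = w * k → k = 1) : K ⊓ W = ⊥ :=
  (eq_bot_iff_forall _).mpr fun w hw => by_contra fun h => h (hf w hw.2 h w hw.1 rfl)

theorem fx_frob (hχ : IsCharacter G χ) {K W : Subgroup G} (hN : W ≤ normalizer (K : Set G))
    (hf : ∀ w ∈ W, w ≠ 1 → ∀ k ∈ K, k * w = w * k → k = 1) :
    (Nat.card W : ℂ) * fx χ (K ⊔ W) + χ 1 = fx χ K + Nat.card W * fx χ W := by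
  classical
  have hd := inf_eq_bot_of_free hf
  have h1 := sum_els_eq hχ (K ⊔ W)
  have h0 : (1 : G) ∈ els W := mem_els.mpr W.one_mem
  rw [sum_sup hN hd, card_sup hN hd, ← add_sum_erase _ _ h0, sum_congr rfl fun w hw =>
    sum_coset (IsCharacter.isClassFunction hχ) (hN (mem_els.mp (mem_of_mem_erase hw)))
      (hf w (mem_els.mp (mem_of_mem_erase hw)) (ne_of_mem_erase hw)), ← mul_sum] at h1
  simp only [mul_one] at h1
  have h2 := sum_els_eq hχ W
  rw [← add_sum_erase _ _ h0] at h2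
  rw [sum_els_eq hχ] at h1
  apply mul_left_cancel₀ (natCard_ne_zero K)
  push_cast at h1
  linear_combination (Nat.card K : ℂ) * h2 - h1

/-! ### Elements of order dividing four -/

theorem four_roots : ∀ (n : ℕ) (ε : Fin n → ℂ), (∀ i, ε i ^ 4 = 1) → ∃ a b c d : ℕ,
    n = a + b + c + d ∧ ∑ i, ε i = a - b + Complex.I * (c - d) ∧
      ∑ i, ε i ^ 2 = a + b - c - d ∧ ∏ i, ε i = Complex.I ^ (2 * b + c + 3 * d)
  | 0, _, _ => ⟨0, 0, 0, 0, by simp⟩
  | n + 1, ε, h => by
    obtain ⟨a, b, c, d, h1, h2, h3, h4⟩ := four_roots n (fun i => ε i.succ) fun i => h _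
    rw [Fin.sum_univ_succ, Fin.sum_univ_succ, Fin.prod_univ_succ, h2, h3, h4]
    have h5 : (ε 0 - 1) * (ε 0 + 1) * (ε 0 - Complex.I) * (ε 0 + Complex.I) = 0 := by
      linear_combination h 0 - (ε 0 ^ 2 - 1) * Complex.I_sq
    simp only [mul_eq_zero, sub_eq_zero, add_eq_zero_iff_eq_neg] at h5
    rcases h5 with ((h5 | h5) | h5) | h5 <;> rw [h5]
    · exact ⟨a + 1, b, c, d, by omega, by push_cast; ring, by push_cast; ring, by ring⟩
    · refine ⟨a, b + 1, c, d, by omega, by push_cast; ring, by push_cast; ring, ?_⟩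
      rw [show 2 * (b + 1) + c + 3 * d = 2 + (2 * b + c + 3 * d) by ring, pow_add _ 2, Complex.I_sq]
    · refine ⟨a, b, c + 1, d, by omega, by push_cast; ring, ?_, by ring⟩
      push_cast; linear_combination Complex.I_sq
    · refine ⟨a, b, c, d + 1, by omega, by push_cast; ring, ?_, ?_⟩
      · push_cast; linear_combination Complex.I_sq
      · rw [show 2 * b + c + 3 * (d + 1) = 3 + (2 * b + c + 3 * d) by ring, pow_add _ 3,
          Complex.I_pow_three]

theorem exists_four (hG : commutator G = ⊤) (hχ : IsCharacter G χ) {g : G} (hg : g ^ 4 = 1) :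
    ∃ a b c d : ℕ, χ 1 = a + b + c + d ∧ χ g = a - b + Complex.I * (c - d) ∧
      χ (g ^ 2) = a + b - c - d ∧ 4 ∣ 2 * b + c + 3 * d := by
  obtain ⟨n, ε, h1, h2, h3, h4⟩ := exists_eigen_det hG hχ g
  obtain ⟨m, hm⟩ := orderOf_dvd_of_pow_eq_one hg
  obtain ⟨a, b, c, d, h5, h6, h7, h8⟩ := four_roots n ε fun i => by
    rw [hm, pow_mul, h2, one_pow]
  refine ⟨a, b, c, d, by rw [h1, h5]; push_cast; ring, by simpa [h6] using h3 1, by rw [h3, h7], ?_⟩
  exact (Complex.isPrimitiveRoot_I.pow_eq_one_iff_dvd _).mp (h8.symm.trans h4)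

theorem four_dvd_of_invol (hG : commutator G = ⊤) (hχ : IsCharacter G χ) {t : G} (ht : t * t = 1)
    {d a : ℤ} (h1 : χ 1 = d) (h2 : χ t = a) : 4 ∣ d - a := by
  obtain ⟨a', b, c, e, h3, h4, h5, h6⟩ := exists_four hG hχ (g := t)
    (by rw [show 4 = 2 + 2 from rfl, pow_add, sq, ht, mul_one])
  rw [sq, ht, h3] at h5
  have h7 : ((2 * (c + e) : ℕ) : ℂ) = 0 := by push_cast; linear_combination h5
  have h8 : c = 0 ∧ e = 0 := by have := Nat.cast_eq_zero.mp h7; omega
  rw [h8.1, h8.2] at h3 h4 h6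
  have h9 : d - a = 2 * b := by
    have : (d : ℂ) - a = 2 * b := by rw [← h1, ← h2, h3, h4]; push_cast; ring
    exact_mod_cast this
  omega

theorem eight_dvd_of_four (hG : commutator G = ⊤) (hχ : IsCharacter G χ) {g : G} (hg : g ^ 4 = 1)
    {d a b : ℤ} (h1 : χ 1 = d) (h2 : χ g = a) (h3 : χ (g ^ 2) = b) : 8 ∣ d + b - 2 * a := by
  obtain ⟨a', b', c, e, h4, h5, h6, h7⟩ := exists_four hG hχ hg
  have h8 := congrArg Complex.im (h2.symm.trans h5)
  have h9 := congrArg Complex.re (h2.symm.trans h5)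
  simp at h8 h9
  have h10 : c = e := by exact_mod_cast (sub_eq_zero.mp h8.symm)
  have h11 : a = a' - b' := by exact_mod_cast h9
  have h12 : d + b = 2 * (a' + b') := by
    have : (d : ℂ) + b = 2 * (a' + b') := by rw [← h1, ← h3, h4, h6]; ring
    exact_mod_cast this
  omega

theorem exists_int_of_four (hχ : IsCharacter G χ) {g : G} (hg : g ^ 4 = 1)
    (h : conj (χ g) = χ g) : ∃ n : ℤ, χ g = n := by
  refine IsGeneralizedCharacter.exists_int_of_pow (IsCharacter.isGeneralized hχ) fun k hk => ?_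
  have h1 : g ^ k = g ^ (k % 4) := by
    conv_lhs => rw [← Nat.mod_add_div k 4, pow_add, pow_mul, hg, one_pow, mul_one]
  have h2 : g ^ 3 = g⁻¹ := eq_inv_of_mul_eq_one_left (by rw [← pow_succ, hg])
  by_cases h3 : g = 1
  · simp [h3]
  have h4 : 2 ∣ orderOf g := by
    obtain ⟨j, hj, h5⟩ := (Nat.dvd_prime_pow Nat.prime_two (m := 2)).mp
      (orderOf_dvd_of_pow_eq_one hg)
    rw [h5]
    exact dvd_pow_self 2 fun h => h3 (orderOf_eq_one_iff.mp (by rw [h5, h, pow_zero]))
  have h5 : ¬ 2 ∣ k := fun h6 => by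
    have := Nat.dvd_gcd h6 h4
    rw [hk] at this
    omega
  have h6 : k % 4 = 1 ∨ k % 4 = 3 := by omega
  rcases h6 with h6 | h6 <;> rw [h1, h6]
  · rw [pow_one]
  · rw [h2, IsCharacter.apply_inv hχ, h]

/-! ### Bounds -/

theorem abs_lt_deg [IsSimpleGroup G] (hG : ¬ IsMulCommutative G) {χ : IrrCharacter G}
    (h : χ ≠ irrOne G) {g : G} (hg : g ≠ 1) {a : ℤ} (ha : χ.1 g = a) : |a| < deg χ := by
  have h2 := IsCharacter.norm_le (irr_isChar χ) g
  have h3 : ‖χ.1 g‖ ≠ ‖χ.1 1‖ := fun h3 => by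
    have h4 := IsCharacter.charCenter_le_center (irr_isClass χ) (ker_eq_bot h)
      ((IsCharacter.mem_charCenter_iff (irr_isChar χ)).mpr h3)
    exact centralizer_ne_top_of_simple hG hg
      (centralizer_eq_top_iff_subset.mpr (by simpa using h4))
  have h4 := lt_of_le_of_ne h2 h3
  rw [ha, deg_eq, Complex.norm_intCast, Complex.norm_natCast] at h4
  exact_mod_cast h4

theorem deg_dvd_index_mul {χ : IrrCharacter G} {g : G} {a : ℤ} (ha : χ.1 g = a) :
    (deg χ : ℤ) ∣ (centralizer ({g} : Set G)).index * a := by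
  refine int_dvd_of_isIntegral_div (by exact_mod_cast (deg_pos χ).ne') ?_
  have := IsIrrCharacter.isIntegral_centralChar χ.2 g
  rw [ha, deg_eq] at this
  simpa using this

theorem sum_list_eq {L : List (IrrCharacter G)} (hL : L.Nodup) {M : Type*} [AddCommMonoid M]
    {F : IrrCharacter G → M} (h : ∀ χ, χ ∉ L → F χ = 0) : ∑ χ, F χ = (L.map F).sum := by
  classical
  rw [← List.sum_toFinset _ hL]
  exact (sum_subset (subset_univ _) fun χ _ hχ => h χ (by simpa using hχ)).symm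

theorem sum_list_le {L : List (IrrCharacter G)} (hL : L.Nodup) (g : G) :
    (L.map fun χ => ‖χ.1 g‖ ^ 2).sum ≤ Nat.card (centralizer ({g} : Set G)) := by
  classical
  rw [← List.sum_toFinset _ hL, ← sum_irr_norm_sq]
  exact sum_le_sum_of_subset_of_nonneg (subset_univ _) fun _ _ _ => sq_nonneg _

theorem exists_int_invol (χ : IrrCharacter G) {t : G} (ht : t * t = 1) : ∃ n : ℤ, χ.1 t = n :=
  IsGeneralizedCharacter.exists_int_of_sq_eq_one (irr_isGen χ) (by rw [sq, ht])

end Cfsg.Agent.H3
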