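import Cfsg.Agent.H3.Wong2

/-!
# Frames: an element whose centraliser is a given group
-/

set_option autoImplicit false

namespace Cfsg.Agent.H3

open Subgroup

/-- An embedding of `H` whose image is the centraliser of the image of `z`. -/
structure Frm {H : Type*} [Group H] (z : H) (G : Type*) [Group G] where
  /-- The embedding. -/
  ψ : H →* G
  inj : Function.Injective ψ
  cent : ∀ g, g * ψ z = ψ z * g → ∃ y, ψ y = g
  zc : ∀ x, x * z = z * x

namespace Frm

variable {H : Type*} [Group H] {z : H} {G : Type*} [Group G] (F : Frm z G)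

/-- The conjugate of a frame. -/
def conj (g : G) : Frm z G where
  ψ := (MulAut.conj g).toMonoidHom.comp F.ψ
  inj := (MulAut.conj g).injective.comp F.inj
  cent x h := by
    obtain ⟨y, hy⟩ := F.cent (g⁻¹ * x * g) (by
      have h' : x * (g * F.ψ z * g⁻¹) = g * F.ψ z * g⁻¹ * x := h
      calc _ = g⁻¹ * (x * (g * F.ψ z * g⁻¹)) * g := by group
        _ = _ := by rw [h']; group)
    refine ⟨y, ?_⟩
    change g * F.ψ y * g⁻¹ = x
    rw [hy]; group
  zc := F.zc

theorem conj_apply (g : G) (x : H) : (F.conj g).ψ x = g * F.ψ x * g⁻¹ := rfl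

/-- Transport of a frame along an isomorphism. -/
def map {G' : Type*} [Group G'] (e : G ≃* G') : Frm z G' where
  ψ := e.toMonoidHom.comp F.ψ
  inj := e.injective.comp F.inj
  cent x h := by
    obtain ⟨y, hy⟩ := F.cent (e.symm x) (e.injective (by simpa using h))
    exact ⟨y, by simp [hy]⟩
  zc := F.zc

/-- Change of a frame by an automorphism. -/
def twist (τ : H ≃* H) (h : τ z = z) : Frm z G where
  ψ := F.ψ.comp τ.toMonoidHom
  inj := F.inj.comp τ.injective
  cent x hx := by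
    obtain ⟨y, hy⟩ := F.cent x (by simpa [h] using hx)
    exact ⟨τ.symm y, by simp [hy]⟩
  zc := F.zc

theorem comm {x y : H} (h : x * y = y * x) : F.ψ x * F.ψ y = F.ψ y * F.ψ x := by
  rw [← map_mul, h, map_mul]

theorem comm_of {x y : H} (h : F.ψ x * F.ψ y = F.ψ y * F.ψ x) : x * y = y * x :=
  F.inj (by rwa [map_mul, map_mul])

theorem comm_z (x : H) : F.ψ x * F.ψ z = F.ψ z * F.ψ x := F.comm (F.zc x)

theorem sq {x : H} (h : x * x = 1) : F.ψ x * F.ψ x = 1 := by rw [← map_mul, h, map_one]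

theorem sq_of {x : H} (h : F.ψ x * F.ψ x = 1) : x * x = 1 :=
  F.inj (by rwa [map_mul, map_one])

theorem ne_one {x : H} (h : x ≠ 1) : F.ψ x ≠ 1 := fun h' => h (F.inj (by rwa [map_one]))

theorem ne_one_of {x : H} (h : F.ψ x ≠ 1) : x ≠ 1 := fun h' => h (by rw [h', map_one])

theorem map_conj (g x : H) : F.ψ (g * x * g⁻¹) = F.ψ g * F.ψ x * (F.ψ g)⁻¹ := by
  simp only [map_mul, map_inv]

theorem isConj {x y : H} (h : ∃ g, g * x * g⁻¹ = y) : IsConj (F.ψ x) (F.ψ y) := by
  obtain ⟨g, rfl⟩ := h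
  exact isConj_iff.mpr ⟨F.ψ g, (F.map_conj g x).symm⟩

theorem isConj_conj (g : G) (x : H) : IsConj (F.ψ x) ((F.conj g).ψ x) :=
  isConj_iff.mpr ⟨g, rfl⟩

theorem exists_of {u : G} (h : IsConj (F.ψ z) u) :
    ∃ F' : Frm z G, F'.ψ z = u ∧ ∀ x, IsConj (F.ψ x) (F'.ψ x) := by
  obtain ⟨g, rfl⟩ := isConj_iff.mp h
  exact ⟨F.conj g, rfl, F.isConj_conj g⟩

theorem centralizer_eq : centralizer {F.ψ z} = F.ψ.range := by
  ext g
  rw [mem_centralizer_singleton_iff]
  exact ⟨F.cent g, fun ⟨x, e⟩ => e ▸ F.comm_z x⟩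

theorem card_centralizer : Nat.card (centralizer ({F.ψ z} : Set G)) = Nat.card H := by
  rw [F.centralizer_eq, ← Nat.card_congr (MonoidHom.ofInjective F.inj).toEquiv]

/-- A frame from an isomorphism of centralisers. -/
theorem nonempty_of_equiv {G' : Type*} [Group G'] {t : G'} (ht : orderOf t = 2)
    (hz : ∀ x : H, x * x = 1 → x ≠ 1 → (∀ y, y * x = x * y) → x = z)
    (e : centralizer ({t} : Set G') ≃* centralizer ({F.ψ z} : Set G)) :
    Nonempty (Frm z G') := by
  have hm : ∀ x, F.ψ x ∈ centralizer {F.ψ z} := fun x =>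
    mem_centralizer_singleton_iff.mpr (F.comm_z x)
  let ψ : H →* G' := (Subgroup.subtype _).comp (e.symm.toMonoidHom.comp (F.ψ.codRestrict _ hm))
  have hinj : Function.Injective ψ := fun x y h =>
    F.inj (congrArg Subtype.val (e.symm.injective (Subtype.ext h)))
  have hs : ∀ g, g * t = t * g → ∃ y, ψ y = g := fun g hg => by
    obtain ⟨y, hy⟩ := F.cent (e ⟨g, mem_centralizer_singleton_iff.mpr hg⟩)
      (mem_centralizer_singleton_iff.mp (e _).2)
    have h1 : e.symm ⟨_, hm y⟩ = ⟨g, mem_centralizer_singleton_iff.mpr hg⟩ :=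
      e.symm_apply_eq.mpr (Subtype.ext hy)
    exact ⟨y, congrArg Subtype.val h1⟩
  obtain ⟨y, hy⟩ := hs t rfl
  have hyz : y = z := hz y
    (hinj (by rw [map_mul, hy, map_one, H9.mul_self_of_orderOf_two ht]))
    (fun h => H9.ne_one_of_orderOf_two ht (by rw [← hy, h, map_one]))
    fun x => hinj (by
      rw [map_mul, map_mul, hy]
      exact mem_centralizer_singleton_iff.mp (e.symm _).2)
  exact ⟨⟨ψ, hinj, by rw [← hyz, hy]; exact hs, F.zc⟩⟩

variable [Finite G] {P : Subgroup H} (hP : IsPGroup 2 P) (hz : z ∈ P)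
  (hc : ∀ x : H, x * x = 1 → x ≠ 1 → (∀ y ∈ P, y * x = x * y) → x = z)
include hP hz hc

theorem exists_conj_central (T : Sylow 2 G) {w : G} (hw : orderOf w = 2)
    (hT : ∀ s ∈ (T : Subgroup G), s * w = w * s) : ∃ h, h * w * h⁻¹ = F.ψ z := by
  obtain ⟨h, -, hh⟩ := H9.exists_conj_mem_sylow T (H := ⊤) (hP.map F.ψ) le_top le_top
  have key : ∀ y ∈ P, F.ψ y * (h * w * h⁻¹) = h * w * h⁻¹ * F.ψ y := fun y hy => by
    have := conj_comm h (hT _ (hh _ (mem_map_of_mem _ hy)))
    simpa [mul_assoc] using this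
  obtain ⟨x, hx⟩ := F.cent _ (key z hz).symm
  have hx2 : orderOf (F.ψ x) = 2 := by rw [hx, H9.orderOf_conj, hw]
  refine ⟨h, ?_⟩
  rw [← hx, hc x (F.sq_of (H9.mul_self_of_orderOf_two hx2))
    (F.ne_one_of (H9.ne_one_of_orderOf_two hx2)) fun y hy => F.comm_of (by rw [hx]; exact key y hy)]

theorem exists_isConj {x : G} (hx : orderOf x = 2) : ∃ y, IsConj (F.ψ y) x := by
  obtain ⟨T, hT⟩ := H6.exists_sylow_mem (p := 2) (x := x)
    ⟨1, by rw [pow_one, ← hx, pow_orderOf_eq_one]⟩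
  obtain ⟨w, -, hw, hc'⟩ := H9.exists_central_involution_sylow T hx
  obtain ⟨h, hh⟩ := F.exists_conj_central hP hz hc T hw hc'
  obtain ⟨y, hy⟩ := F.cent (h * x * h⁻¹) (by rw [← hh]; exact conj_comm h (hc' x hT))
  exact ⟨y, (isConj_iff.mpr ⟨h, hy.symm⟩).symm⟩

/-- The centraliser has odd index. -/
theorem odd_index (h2 : orderOf z = 2) : ¬ 2 ∣ F.ψ.range.index := by
  obtain ⟨T⟩ : Nonempty (Sylow 2 G) := inferInstance
  obtain ⟨w, -, hw, hc'⟩ := H9.exists_central_involution_sylow T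
    ((orderOf_injective F.ψ F.inj z).trans h2)
  obtain ⟨h, hh⟩ := F.exists_conj_central hP hz hc T hw hc'
  obtain ⟨T', hT'⟩ := H9.exists_sylow_le_centralizer_of_isConj T hc' (isConj_iff.mpr ⟨h, hh⟩)
  rw [F.centralizer_eq] at hT'
  exact fun h => T'.not_dvd_index (h.trans (index_dvd_of_le hT'))

end Frm

end Cfsg.Agent.H3
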