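/-
Explicit generators of the stabilisers of some short lattice vectors, as operations on codes.
-/
import Cfsg.Agent.H3.Mach

set_option autoImplicit false

namespace Cfsg.Agent.H3

open Cfsg Cfsg.Agent.H1 Finset MulAction

/-- A permutation fixing the extra point and 0. -/
def opB (c : ℕ) : ℕ :=
  (Nat.add (Nat.mod (Nat.shiftRight c 48) 16) (Nat.mul 16
  (Nat.add (Nat.mod (Nat.shiftRight c 4) 16) (Nat.mul 16
  (Nat.add (Nat.mod (Nat.shiftRight c 28) 16) (Nat.mul 16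
  (Nat.add (Nat.mod (Nat.shiftRight c 44) 16) (Nat.mul 16
  (Nat.add (Nat.mod (Nat.shiftRight c 68) 16) (Nat.mul 16
  (Nat.add (Nat.mod (Nat.shiftRight c 72) 16) (Nat.mul 16
  (Nat.add (Nat.mod (Nat.shiftRight c 60) 16) (Nat.mul 16
  (Nat.add (Nat.mod (Nat.shiftRight c 56) 16) (Nat.mul 16
  (Nat.add (Nat.mod (Nat.shiftRight c 12) 16) (Nat.mul 16
  (Nat.add (Nat.mod (Nat.shiftRight c 20) 16) (Nat.mul 16
  (Nat.add (Nat.mod (Nat.shiftRight c 8) 16) (Nat.mul 16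
  (Nat.add (Nat.mod (Nat.shiftRight c 84) 16) (Nat.mul 16
  (Nat.add (Nat.mod (Nat.shiftRight c 24) 16) (Nat.mul 16
  (Nat.add (Nat.mod (Nat.shiftRight c 32) 16) (Nat.mul 16
  (Nat.add (Nat.mod (Nat.shiftRight c 80) 16) (Nat.mul 16
  (Nat.add (Nat.mod (Nat.shiftRight c 36) 16) (Nat.mul 16
  (Nat.add (Nat.mod (Nat.shiftRight c 40) 16) (Nat.mul 16
  (Nat.add (Nat.mod (Nat.shiftRight c 52) 16) (Nat.mul 16
  (Nat.add (Nat.mod (Nat.shiftRight c 0) 16) (Nat.mul 16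
  (Nat.add (Nat.mod (Nat.shiftRight c 64) 16) (Nat.mul 16
  (Nat.add (Nat.mod (Nat.shiftRight c 76) 16) (Nat.mul 16
  (Nat.add (Nat.mod (Nat.shiftRight c 16) 16) (Nat.mul 16
  (Nat.add (Nat.mod (Nat.shiftRight c 88) 16) (Nat.mul 16
  (Nat.add (Nat.mod (Nat.shiftRight c 92) 16) (Nat.mul 16 0))))))))))))))))))))))))))))))))))))))))))))))))

theorem opB_real : RealOp ⊤ opB :=
  .of (real_monoFn (m := 0) (c := 971774665410418691122315729489365312) (by decide +kernel))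
    (opOK_mono (t := 984127233671249823642733271582088236) (sm := 0) (by decide +kernel) fun _ => rfl)

/-- A permutation fixing the extra point. -/
def opG (c : ℕ) : ℕ :=
  (Nat.add (Nat.mod (Nat.shiftRight c 72) 16) (Nat.mul 16
  (Nat.add (Nat.mod (Nat.shiftRight c 44) 16) (Nat.mul 16
  (Nat.add (Nat.mod (Nat.shiftRight c 12) 16) (Nat.mul 16
  (Nat.add (Nat.mod (Nat.shiftRight c 32) 16) (Nat.mul 16
  (Nat.add (Nat.mod (Nat.shiftRight c 48) 16) (Nat.mul 16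
  (Nat.add (Nat.mod (Nat.shiftRight c 60) 16) (Nat.mul 16
  (Nat.add (Nat.mod (Nat.shiftRight c 84) 16) (Nat.mul 16
  (Nat.add (Nat.mod (Nat.shiftRight c 36) 16) (Nat.mul 16
  (Nat.add (Nat.mod (Nat.shiftRight c 16) 16) (Nat.mul 16
  (Nat.add (Nat.mod (Nat.shiftRight c 56) 16) (Nat.mul 16
  (Nat.add (Nat.mod (Nat.shiftRight c 52) 16) (Nat.mul 16
  (Nat.add (Nat.mod (Nat.shiftRight c 28) 16) (Nat.mul 16
  (Nat.add (Nat.mod (Nat.shiftRight c 0) 16) (Nat.mul 16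
  (Nat.add (Nat.mod (Nat.shiftRight c 4) 16) (Nat.mul 16
  (Nat.add (Nat.mod (Nat.shiftRight c 24) 16) (Nat.mul 16
  (Nat.add (Nat.mod (Nat.shiftRight c 40) 16) (Nat.mul 16
  (Nat.add (Nat.mod (Nat.shiftRight c 80) 16) (Nat.mul 16
  (Nat.add (Nat.mod (Nat.shiftRight c 88) 16) (Nat.mul 16
  (Nat.add (Nat.mod (Nat.shiftRight c 68) 16) (Nat.mul 16
  (Nat.add (Nat.mod (Nat.shiftRight c 76) 16) (Nat.mul 16
  (Nat.add (Nat.mod (Nat.shiftRight c 8) 16) (Nat.mul 16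
  (Nat.add (Nat.mod (Nat.shiftRight c 20) 16) (Nat.mul 16
  (Nat.add (Nat.mod (Nat.shiftRight c 64) 16) (Nat.mul 16
  (Nat.add (Nat.mod (Nat.shiftRight c 92) 16) (Nat.mul 16 0))))))))))))))))))))))))))))))))))))))))))))))))

theorem opG_real : RealOp ⊤ opG :=
  .of (real_monoFn (m := 0) (c := 964472526709919722679135701414975094) (by decide +kernel))
    (opOK_mono (t := 976357943389956324119616723236425074) (sm := 0) (by decide +kernel) fun _ => rfl)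

/-- A permutation moving the extra point. -/
def opD (c : ℕ) : ℕ :=
  (Nat.add (Nat.mod (Nat.shiftRight c 12) 16) (Nat.mul 16
  (Nat.add (Nat.mod (Nat.shiftRight c 76) 16) (Nat.mul 16
  (Nat.add (Nat.mod (Nat.shiftRight c 56) 16) (Nat.mul 16
  (Nat.add (Nat.mod (Nat.shiftRight c 72) 16) (Nat.mul 16
  (Nat.add (Nat.mod (Nat.shiftRight c 4) 16) (Nat.mul 16
  (Nat.add (Nat.mod (Nat.shiftRight c 52) 16) (Nat.mul 16
  (Nat.add (Nat.mod (Nat.shiftRight c 40) 16) (Nat.mul 16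
  (Nat.add (Nat.mod (Nat.shiftRight c 68) 16) (Nat.mul 16
  (Nat.add (Nat.mod (Nat.shiftRight c 0) 16) (Nat.mul 16
  (Nat.add (Nat.mod (Nat.shiftRight c 84) 16) (Nat.mul 16
  (Nat.add (Nat.mod (Nat.shiftRight c 8) 16) (Nat.mul 16
  (Nat.add (Nat.mod (Nat.shiftRight c 64) 16) (Nat.mul 16
  (Nat.add (Nat.mod (Nat.shiftRight c 36) 16) (Nat.mul 16
  (Nat.add (Nat.mod (Nat.shiftRight c 44) 16) (Nat.mul 16
  (Nat.add (Nat.mod (Nat.shiftRight c 24) 16) (Nat.mul 16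
  (Nat.add (Nat.mod (Nat.shiftRight c 80) 16) (Nat.mul 16
  (Nat.add (Nat.mod (Nat.shiftRight c 20) 16) (Nat.mul 16
  (Nat.add (Nat.mod (Nat.shiftRight c 60) 16) (Nat.mul 16
  (Nat.add (Nat.mod (Nat.shiftRight c 32) 16) (Nat.mul 16
  (Nat.add (Nat.mod (Nat.shiftRight c 88) 16) (Nat.mul 16
  (Nat.add (Nat.mod (Nat.shiftRight c 28) 16) (Nat.mul 16
  (Nat.add (Nat.mod (Nat.shiftRight c 92) 16) (Nat.mul 16
  (Nat.add (Nat.mod (Nat.shiftRight c 16) 16) (Nat.mul 16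
  (Nat.add (Nat.mod (Nat.shiftRight c 48) 16) (Nat.mul 16 0))))))))))))))))))))))))))))))))))))))))))))))))

theorem opD_real : RealOp ⊤ opD :=
  .of (real_monoFn (m := 0) (c := 427519102275082350143188632098356496) (by decide +kernel))
    (opOK_mono (t := 504595541674247927087719702320462435) (sm := 0) (by decide +kernel) fun _ => rfl)

/-- A permutation exchanging the extra point and 0. -/
def opP (c : ℕ) : ℕ :=
  (Nat.add (Nat.mod (Nat.shiftRight c 52) 16) (Nat.mul 16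
  (Nat.add (Nat.mod (Nat.shiftRight c 76) 16) (Nat.mul 16
  (Nat.add (Nat.mod (Nat.shiftRight c 32) 16) (Nat.mul 16
  (Nat.add (Nat.mod (Nat.shiftRight c 64) 16) (Nat.mul 16
  (Nat.add (Nat.mod (Nat.shiftRight c 24) 16) (Nat.mul 16
  (Nat.add (Nat.mod (Nat.shiftRight c 68) 16) (Nat.mul 16
  (Nat.add (Nat.mod (Nat.shiftRight c 72) 16) (Nat.mul 16
  (Nat.add (Nat.mod (Nat.shiftRight c 12) 16) (Nat.mul 16
  (Nat.add (Nat.mod (Nat.shiftRight c 40) 16) (Nat.mul 16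
  (Nat.add (Nat.mod (Nat.shiftRight c 48) 16) (Nat.mul 16
  (Nat.add (Nat.mod (Nat.shiftRight c 80) 16) (Nat.mul 16
  (Nat.add (Nat.mod (Nat.shiftRight c 56) 16) (Nat.mul 16
  (Nat.add (Nat.mod (Nat.shiftRight c 8) 16) (Nat.mul 16
  (Nat.add (Nat.mod (Nat.shiftRight c 36) 16) (Nat.mul 16
  (Nat.add (Nat.mod (Nat.shiftRight c 44) 16) (Nat.mul 16
  (Nat.add (Nat.mod (Nat.shiftRight c 16) 16) (Nat.mul 16
  (Nat.add (Nat.mod (Nat.shiftRight c 84) 16) (Nat.mul 16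
  (Nat.add (Nat.mod (Nat.shiftRight c 0) 16) (Nat.mul 16
  (Nat.add (Nat.mod (Nat.shiftRight c 4) 16) (Nat.mul 16
  (Nat.add (Nat.mod (Nat.shiftRight c 28) 16) (Nat.mul 16
  (Nat.add (Nat.mod (Nat.shiftRight c 20) 16) (Nat.mul 16
  (Nat.add (Nat.mod (Nat.shiftRight c 60) 16) (Nat.mul 16
  (Nat.add (Nat.mod (Nat.shiftRight c 92) 16) (Nat.mul 16
  (Nat.add (Nat.mod (Nat.shiftRight c 88) 16) (Nat.mul 16 0))))))))))))))))))))))))))))))))))))))))))))))))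

theorem opP_real : RealOp ⊤ opP :=
  .of (real_monoFn (m := 0) (c := 18221312692397042417210201375915671) (by decide +kernel))
    (opOK_mono (t := 944315043141876331277483216986448493) (sm := 0) (by decide +kernel) fun _ => rfl)

/-- A sign change on an octad avoiding the extra point and 0. -/
def opE (c : ℕ) : ℕ :=
  (Nat.add (Nat.sub 16 (Nat.mod (Nat.shiftRight c 0) 16)) (Nat.mul 16
  (Nat.add (Nat.mod (Nat.shiftRight c 4) 16) (Nat.mul 16
  (Nat.add (Nat.mod (Nat.shiftRight c 8) 16) (Nat.mul 16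
  (Nat.add (Nat.mod (Nat.shiftRight c 12) 16) (Nat.mul 16
  (Nat.add (Nat.sub 16 (Nat.mod (Nat.shiftRight c 16) 16)) (Nat.mul 16
  (Nat.add (Nat.mod (Nat.shiftRight c 20) 16) (Nat.mul 16
  (Nat.add (Nat.mod (Nat.shiftRight c 24) 16) (Nat.mul 16
  (Nat.add (Nat.sub 16 (Nat.mod (Nat.shiftRight c 28) 16)) (Nat.mul 16
  (Nat.add (Nat.mod (Nat.shiftRight c 32) 16) (Nat.mul 16
  (Nat.add (Nat.mod (Nat.shiftRight c 36) 16) (Nat.mul 16
  (Nat.add (Nat.sub 16 (Nat.mod (Nat.shiftRight c 40) 16)) (Nat.mul 16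
  (Nat.add (Nat.mod (Nat.shiftRight c 44) 16) (Nat.mul 16
  (Nat.add (Nat.mod (Nat.shiftRight c 48) 16) (Nat.mul 16
  (Nat.add (Nat.mod (Nat.shiftRight c 52) 16) (Nat.mul 16
  (Nat.add (Nat.mod (Nat.shiftRight c 56) 16) (Nat.mul 16
  (Nat.add (Nat.mod (Nat.shiftRight c 60) 16) (Nat.mul 16
  (Nat.add (Nat.sub 16 (Nat.mod (Nat.shiftRight c 64) 16)) (Nat.mul 16
  (Nat.add (Nat.mod (Nat.shiftRight c 68) 16) (Nat.mul 16
  (Nat.add (Nat.sub 16 (Nat.mod (Nat.shiftRight c 72) 16)) (Nat.mul 16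
  (Nat.add (Nat.sub 16 (Nat.mod (Nat.shiftRight c 76) 16)) (Nat.mul 16
  (Nat.add (Nat.mod (Nat.shiftRight c 80) 16) (Nat.mul 16
  (Nat.add (Nat.sub 16 (Nat.mod (Nat.shiftRight c 84) 16)) (Nat.mul 16
  (Nat.add (Nat.mod (Nat.shiftRight c 88) 16) (Nat.mul 16
  (Nat.add (Nat.mod (Nat.shiftRight c 92) 16) (Nat.mul 16 0))))))))))))))))))))))))))))))))))))))))))))))))

theorem opE_real : RealOp ⊤ opE :=
  .of (real_monoFn (m := 4845570) (c := 984818244535754528103549039458486304) (by decide +kernel))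
    (opOK_mono (t := 984818244535754528103549039458486304) (sm := 2950289) (by decide +kernel) fun _ => rfl)

/-- Negation. -/
def opN (c : ℕ) : ℕ :=
  (Nat.add (Nat.sub 16 (Nat.mod (Nat.shiftRight c 0) 16)) (Nat.mul 16
  (Nat.add (Nat.sub 16 (Nat.mod (Nat.shiftRight c 4) 16)) (Nat.mul 16
  (Nat.add (Nat.sub 16 (Nat.mod (Nat.shiftRight c 8) 16)) (Nat.mul 16
  (Nat.add (Nat.sub 16 (Nat.mod (Nat.shiftRight c 12) 16)) (Nat.mul 16
  (Nat.add (Nat.sub 16 (Nat.mod (Nat.shiftRight c 16) 16)) (Nat.mul 16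
  (Nat.add (Nat.sub 16 (Nat.mod (Nat.shiftRight c 20) 16)) (Nat.mul 16
  (Nat.add (Nat.sub 16 (Nat.mod (Nat.shiftRight c 24) 16)) (Nat.mul 16
  (Nat.add (Nat.sub 16 (Nat.mod (Nat.shiftRight c 28) 16)) (Nat.mul 16
  (Nat.add (Nat.sub 16 (Nat.mod (Nat.shiftRight c 32) 16)) (Nat.mul 16
  (Nat.add (Nat.sub 16 (Nat.mod (Nat.shiftRight c 36) 16)) (Nat.mul 16
  (Nat.add (Nat.sub 16 (Nat.mod (Nat.shiftRight c 40) 16)) (Nat.mul 16
  (Nat.add (Nat.sub 16 (Nat.mod (Nat.shiftRight c 44) 16)) (Nat.mul 16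
  (Nat.add (Nat.sub 16 (Nat.mod (Nat.shiftRight c 48) 16)) (Nat.mul 16
  (Nat.add (Nat.sub 16 (Nat.mod (Nat.shiftRight c 52) 16)) (Nat.mul 16
  (Nat.add (Nat.sub 16 (Nat.mod (Nat.shiftRight c 56) 16)) (Nat.mul 16
  (Nat.add (Nat.sub 16 (Nat.mod (Nat.shiftRight c 60) 16)) (Nat.mul 16
  (Nat.add (Nat.sub 16 (Nat.mod (Nat.shiftRight c 64) 16)) (Nat.mul 16
  (Nat.add (Nat.sub 16 (Nat.mod (Nat.shiftRight c 68) 16)) (Nat.mul 16
  (Nat.add (Nat.sub 16 (Nat.mod (Nat.shiftRight c 72) 16)) (Nat.mul 16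
  (Nat.add (Nat.sub 16 (Nat.mod (Nat.shiftRight c 76) 16)) (Nat.mul 16
  (Nat.add (Nat.sub 16 (Nat.mod (Nat.shiftRight c 80) 16)) (Nat.mul 16
  (Nat.add (Nat.sub 16 (Nat.mod (Nat.shiftRight c 84) 16)) (Nat.mul 16
  (Nat.add (Nat.sub 16 (Nat.mod (Nat.shiftRight c 88) 16)) (Nat.mul 16
  (Nat.add (Nat.sub 16 (Nat.mod (Nat.shiftRight c 92) 16)) (Nat.mul 16 0))))))))))))))))))))))))))))))))))))))))))))))))

theorem opN_real : RealOp ⊤ opN :=
  .of (real_monoFn (m := 16777215) (c := 984818244535754528103549039458486304) (by decide +kernel))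
    (opOK_mono (t := 984818244535754528103549039458486304) (sm := 16777215) (by decide +kernel) fun _ => rfl)

/-- A monomial map. -/
def opH1 (c : ℕ) : ℕ :=
  (Nat.add (Nat.sub 16 (Nat.mod (Nat.shiftRight c 72) 16)) (Nat.mul 16
  (Nat.add (Nat.sub 16 (Nat.mod (Nat.shiftRight c 0) 16)) (Nat.mul 16
  (Nat.add (Nat.sub 16 (Nat.mod (Nat.shiftRight c 20) 16)) (Nat.mul 16
  (Nat.add (Nat.mod (Nat.shiftRight c 24) 16) (Nat.mul 16
  (Nat.add (Nat.sub 16 (Nat.mod (Nat.shiftRight c 60) 16)) (Nat.mul 16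
  (Nat.add (Nat.sub 16 (Nat.mod (Nat.shiftRight c 76) 16)) (Nat.mul 16
  (Nat.add (Nat.sub 16 (Nat.mod (Nat.shiftRight c 48) 16)) (Nat.mul 16
  (Nat.add (Nat.sub 16 (Nat.mod (Nat.shiftRight c 16) 16)) (Nat.mul 16
  (Nat.add (Nat.mod (Nat.shiftRight c 40) 16) (Nat.mul 16
  (Nat.add (Nat.mod (Nat.shiftRight c 8) 16) (Nat.mul 16
  (Nat.add (Nat.mod (Nat.shiftRight c 64) 16) (Nat.mul 16
  (Nat.add (Nat.mod (Nat.shiftRight c 12) 16) (Nat.mul 16
  (Nat.add (Nat.sub 16 (Nat.mod (Nat.shiftRight c 68) 16)) (Nat.mul 16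
  (Nat.add (Nat.sub 16 (Nat.mod (Nat.shiftRight c 88) 16)) (Nat.mul 16
  (Nat.add (Nat.mod (Nat.shiftRight c 80) 16) (Nat.mul 16
  (Nat.add (Nat.mod (Nat.shiftRight c 56) 16) (Nat.mul 16
  (Nat.add (Nat.mod (Nat.shiftRight c 32) 16) (Nat.mul 16
  (Nat.add (Nat.mod (Nat.shiftRight c 92) 16) (Nat.mul 16
  (Nat.add (Nat.mod (Nat.shiftRight c 28) 16) (Nat.mul 16
  (Nat.add (Nat.mod (Nat.shiftRight c 52) 16) (Nat.mul 16
  (Nat.add (Nat.sub 16 (Nat.mod (Nat.shiftRight c 36) 16)) (Nat.mul 16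
  (Nat.add (Nat.sub 16 (Nat.mod (Nat.shiftRight c 4) 16)) (Nat.mul 16
  (Nat.add (Nat.sub 16 (Nat.mod (Nat.shiftRight c 44) 16)) (Nat.mul 16
  (Nat.add (Nat.mod (Nat.shiftRight c 84) 16) (Nat.mul 16 0))))))))))))))))))))))))))))))))))))))))))))))))

theorem opH1_real : RealOp ⊤ opH1 :=
  .of (real_monoFn (m := 1402519) (c := 586364989288882651255015250763056741) (by decide +kernel))
    (opOK_mono (t := 886637186818061950747266875787514898) (sm := 7352567) (by decide +kernel) fun _ => rfl)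

/-- A monomial map. -/
def opH2 (c : ℕ) : ℕ :=
  (Nat.add (Nat.sub 16 (Nat.mod (Nat.shiftRight c 84) 16)) (Nat.mul 16
  (Nat.add (Nat.mod (Nat.shiftRight c 72) 16) (Nat.mul 16
  (Nat.add (Nat.sub 16 (Nat.mod (Nat.shiftRight c 92) 16)) (Nat.mul 16
  (Nat.add (Nat.sub 16 (Nat.mod (Nat.shiftRight c 4) 16)) (Nat.mul 16
  (Nat.add (Nat.sub 16 (Nat.mod (Nat.shiftRight c 80) 16)) (Nat.mul 16
  (Nat.add (Nat.mod (Nat.shiftRight c 44) 16) (Nat.mul 16
  (Nat.add (Nat.sub 16 (Nat.mod (Nat.shiftRight c 28) 16)) (Nat.mul 16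
  (Nat.add (Nat.mod (Nat.shiftRight c 16) 16) (Nat.mul 16
  (Nat.add (Nat.sub 16 (Nat.mod (Nat.shiftRight c 24) 16)) (Nat.mul 16
  (Nat.add (Nat.mod (Nat.shiftRight c 12) 16) (Nat.mul 16
  (Nat.add (Nat.sub 16 (Nat.mod (Nat.shiftRight c 68) 16)) (Nat.mul 16
  (Nat.add (Nat.mod (Nat.shiftRight c 0) 16) (Nat.mul 16
  (Nat.add (Nat.sub 16 (Nat.mod (Nat.shiftRight c 76) 16)) (Nat.mul 16
  (Nat.add (Nat.sub 16 (Nat.mod (Nat.shiftRight c 60) 16)) (Nat.mul 16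
  (Nat.add (Nat.sub 16 (Nat.mod (Nat.shiftRight c 88) 16)) (Nat.mul 16
  (Nat.add (Nat.mod (Nat.shiftRight c 52) 16) (Nat.mul 16
  (Nat.add (Nat.sub 16 (Nat.mod (Nat.shiftRight c 20) 16)) (Nat.mul 16
  (Nat.add (Nat.sub 16 (Nat.mod (Nat.shiftRight c 56) 16)) (Nat.mul 16
  (Nat.add (Nat.mod (Nat.shiftRight c 8) 16) (Nat.mul 16
  (Nat.add (Nat.sub 16 (Nat.mod (Nat.shiftRight c 48) 16)) (Nat.mul 16
  (Nat.add (Nat.mod (Nat.shiftRight c 64) 16) (Nat.mul 16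
  (Nat.add (Nat.sub 16 (Nat.mod (Nat.shiftRight c 32) 16)) (Nat.mul 16
  (Nat.add (Nat.sub 16 (Nat.mod (Nat.shiftRight c 36) 16)) (Nat.mul 16
  (Nat.add (Nat.sub 16 (Nat.mod (Nat.shiftRight c 40) 16)) (Nat.mul 16 0))))))))))))))))))))))))))))))))))))))))))))))))

theorem opH2_real : RealOp ⊤ opH2 :=
  .of (real_monoFn (m := 16241947) (c := 510846886992563448135170103352839622) (by decide +kernel))
    (opOK_mono (t := 427411695970767885743011172469235285) (sm := 15431005) (by decide +kernel) fun _ => rfl)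

/-- A monomial map. -/
def opH3 (c : ℕ) : ℕ :=
  (Nat.add (Nat.mod (Nat.shiftRight c 60) 16) (Nat.mul 16
  (Nat.add (Nat.sub 16 (Nat.mod (Nat.shiftRight c 88) 16)) (Nat.mul 16
  (Nat.add (Nat.sub 16 (Nat.mod (Nat.shiftRight c 68) 16)) (Nat.mul 16
  (Nat.add (Nat.sub 16 (Nat.mod (Nat.shiftRight c 8) 16)) (Nat.mul 16
  (Nat.add (Nat.sub 16 (Nat.mod (Nat.shiftRight c 64) 16)) (Nat.mul 16
  (Nat.add (Nat.sub 16 (Nat.mod (Nat.shiftRight c 12) 16)) (Nat.mul 16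
  (Nat.add (Nat.mod (Nat.shiftRight c 48) 16) (Nat.mul 16
  (Nat.add (Nat.sub 16 (Nat.mod (Nat.shiftRight c 84) 16)) (Nat.mul 16
  (Nat.add (Nat.sub 16 (Nat.mod (Nat.shiftRight c 20) 16)) (Nat.mul 16
  (Nat.add (Nat.mod (Nat.shiftRight c 80) 16) (Nat.mul 16
  (Nat.add (Nat.mod (Nat.shiftRight c 44) 16) (Nat.mul 16
  (Nat.add (Nat.sub 16 (Nat.mod (Nat.shiftRight c 72) 16)) (Nat.mul 16
  (Nat.add (Nat.sub 16 (Nat.mod (Nat.shiftRight c 0) 16)) (Nat.mul 16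
  (Nat.add (Nat.sub 16 (Nat.mod (Nat.shiftRight c 40) 16)) (Nat.mul 16
  (Nat.add (Nat.mod (Nat.shiftRight c 56) 16) (Nat.mul 16
  (Nat.add (Nat.mod (Nat.shiftRight c 36) 16) (Nat.mul 16
  (Nat.add (Nat.mod (Nat.shiftRight c 52) 16) (Nat.mul 16
  (Nat.add (Nat.sub 16 (Nat.mod (Nat.shiftRight c 32) 16)) (Nat.mul 16
  (Nat.add (Nat.sub 16 (Nat.mod (Nat.shiftRight c 76) 16)) (Nat.mul 16
  (Nat.add (Nat.mod (Nat.shiftRight c 24) 16) (Nat.mul 16
  (Nat.add (Nat.sub 16 (Nat.mod (Nat.shiftRight c 28) 16)) (Nat.mul 16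
  (Nat.add (Nat.sub 16 (Nat.mod (Nat.shiftRight c 16) 16)) (Nat.mul 16
  (Nat.add (Nat.sub 16 (Nat.mod (Nat.shiftRight c 92) 16)) (Nat.mul 16
  (Nat.add (Nat.sub 16 (Nat.mod (Nat.shiftRight c 4) 16)) (Nat.mul 16 0))))))))))))))))))))))))))))))))))))))))))))))))

theorem opH3_real : RealOp ⊤ opH3 :=
  .of (real_monoFn (m := 12150717) (c := 109175747569626725443208184604164471) (by decide +kernel))
    (opOK_mono (t := 71565476166790933819020928448808655) (sm := 16136638) (by decide +kernel) fun _ => rfl)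

/-- A monomial map. -/
def opK1 (c : ℕ) : ℕ :=
  (Nat.add (Nat.mod (Nat.shiftRight c 32) 16) (Nat.mul 16
  (Nat.add (Nat.sub 16 (Nat.mod (Nat.shiftRight c 20) 16)) (Nat.mul 16
  (Nat.add (Nat.mod (Nat.shiftRight c 40) 16) (Nat.mul 16
  (Nat.add (Nat.sub 16 (Nat.mod (Nat.shiftRight c 72) 16)) (Nat.mul 16
  (Nat.add (Nat.sub 16 (Nat.mod (Nat.shiftRight c 36) 16)) (Nat.mul 16
  (Nat.add (Nat.sub 16 (Nat.mod (Nat.shiftRight c 88) 16)) (Nat.mul 16
  (Nat.add (Nat.sub 16 (Nat.mod (Nat.shiftRight c 60) 16)) (Nat.mul 16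
  (Nat.add (Nat.sub 16 (Nat.mod (Nat.shiftRight c 4) 16)) (Nat.mul 16
  (Nat.add (Nat.mod (Nat.shiftRight c 28) 16) (Nat.mul 16
  (Nat.add (Nat.mod (Nat.shiftRight c 76) 16) (Nat.mul 16
  (Nat.add (Nat.mod (Nat.shiftRight c 16) 16) (Nat.mul 16
  (Nat.add (Nat.mod (Nat.shiftRight c 92) 16) (Nat.mul 16
  (Nat.add (Nat.mod (Nat.shiftRight c 24) 16) (Nat.mul 16
  (Nat.add (Nat.mod (Nat.shiftRight c 68) 16) (Nat.mul 16
  (Nat.add (Nat.sub 16 (Nat.mod (Nat.shiftRight c 80) 16)) (Nat.mul 16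
  (Nat.add (Nat.sub 16 (Nat.mod (Nat.shiftRight c 0) 16)) (Nat.mul 16
  (Nat.add (Nat.sub 16 (Nat.mod (Nat.shiftRight c 8) 16)) (Nat.mul 16
  (Nat.add (Nat.sub 16 (Nat.mod (Nat.shiftRight c 56) 16)) (Nat.mul 16
  (Nat.add (Nat.sub 16 (Nat.mod (Nat.shiftRight c 48) 16)) (Nat.mul 16
  (Nat.add (Nat.mod (Nat.shiftRight c 64) 16) (Nat.mul 16
  (Nat.add (Nat.sub 16 (Nat.mod (Nat.shiftRight c 52) 16)) (Nat.mul 16
  (Nat.add (Nat.mod (Nat.shiftRight c 12) 16) (Nat.mul 16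
  (Nat.add (Nat.mod (Nat.shiftRight c 84) 16) (Nat.mul 16
  (Nat.add (Nat.mod (Nat.shiftRight c 44) 16) (Nat.mul 16 0))))))))))))))))))))))))))))))))))))))))))))))))

theorem opK1_real : RealOp ⊤ opK1 :=
  .of (real_monoFn (m := 7285636) (c := 213600803826103497877819444146119790) (by decide +kernel))
    (opOK_mono (t := 484320505198419004504163163028662440) (sm := 1556730) (by decide +kernel) fun _ => rfl)

/-- A monomial map. -/
def opK2 (c : ℕ) : ℕ :=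
  (Nat.add (Nat.sub 16 (Nat.mod (Nat.shiftRight c 52) 16)) (Nat.mul 16
  (Nat.add (Nat.mod (Nat.shiftRight c 16) 16) (Nat.mul 16
  (Nat.add (Nat.sub 16 (Nat.mod (Nat.shiftRight c 32) 16)) (Nat.mul 16
  (Nat.add (Nat.sub 16 (Nat.mod (Nat.shiftRight c 8) 16)) (Nat.mul 16
  (Nat.add (Nat.mod (Nat.shiftRight c 88) 16) (Nat.mul 16
  (Nat.add (Nat.sub 16 (Nat.mod (Nat.shiftRight c 84) 16)) (Nat.mul 16
  (Nat.add (Nat.mod (Nat.shiftRight c 28) 16) (Nat.mul 16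
  (Nat.add (Nat.mod (Nat.shiftRight c 4) 16) (Nat.mul 16
  (Nat.add (Nat.mod (Nat.shiftRight c 0) 16) (Nat.mul 16
  (Nat.add (Nat.mod (Nat.shiftRight c 44) 16) (Nat.mul 16
  (Nat.add (Nat.sub 16 (Nat.mod (Nat.shiftRight c 72) 16)) (Nat.mul 16
  (Nat.add (Nat.mod (Nat.shiftRight c 20) 16) (Nat.mul 16
  (Nat.add (Nat.mod (Nat.shiftRight c 68) 16) (Nat.mul 16
  (Nat.add (Nat.sub 16 (Nat.mod (Nat.shiftRight c 48) 16)) (Nat.mul 16
  (Nat.add (Nat.mod (Nat.shiftRight c 64) 16) (Nat.mul 16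
  (Nat.add (Nat.sub 16 (Nat.mod (Nat.shiftRight c 56) 16)) (Nat.mul 16
  (Nat.add (Nat.mod (Nat.shiftRight c 36) 16) (Nat.mul 16
  (Nat.add (Nat.sub 16 (Nat.mod (Nat.shiftRight c 12) 16)) (Nat.mul 16
  (Nat.add (Nat.mod (Nat.shiftRight c 24) 16) (Nat.mul 16
  (Nat.add (Nat.sub 16 (Nat.mod (Nat.shiftRight c 76) 16)) (Nat.mul 16
  (Nat.add (Nat.mod (Nat.shiftRight c 80) 16) (Nat.mul 16
  (Nat.add (Nat.sub 16 (Nat.mod (Nat.shiftRight c 60) 16)) (Nat.mul 16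
  (Nat.add (Nat.sub 16 (Nat.mod (Nat.shiftRight c 40) 16)) (Nat.mul 16
  (Nat.add (Nat.sub 16 (Nat.mod (Nat.shiftRight c 92) 16)) (Nat.mul 16 0))))))))))))))))))))))))))))))))))))))))))))))))

theorem opK2_real : RealOp ⊤ opK2 :=
  .of (real_monoFn (m := 11590419) (c := 963508992316217917025773850832454284) (by decide +kernel))
    (opOK_mono (t := 968997949639529056739044248713765005) (sm := 15377453) (by decide +kernel) fun _ => rfl)

/-- A monomial map. -/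
def opK3 (c : ℕ) : ℕ :=
  (Nat.add (Nat.mod (Nat.shiftRight c 52) 16) (Nat.mul 16
  (Nat.add (Nat.sub 16 (Nat.mod (Nat.shiftRight c 8) 16)) (Nat.mul 16
  (Nat.add (Nat.sub 16 (Nat.mod (Nat.shiftRight c 0) 16)) (Nat.mul 16
  (Nat.add (Nat.mod (Nat.shiftRight c 40) 16) (Nat.mul 16
  (Nat.add (Nat.mod (Nat.shiftRight c 20) 16) (Nat.mul 16
  (Nat.add (Nat.mod (Nat.shiftRight c 4) 16) (Nat.mul 16
  (Nat.add (Nat.sub 16 (Nat.mod (Nat.shiftRight c 48) 16)) (Nat.mul 16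
  (Nat.add (Nat.mod (Nat.shiftRight c 12) 16) (Nat.mul 16
  (Nat.add (Nat.sub 16 (Nat.mod (Nat.shiftRight c 56) 16)) (Nat.mul 16
  (Nat.add (Nat.mod (Nat.shiftRight c 88) 16) (Nat.mul 16
  (Nat.add (Nat.sub 16 (Nat.mod (Nat.shiftRight c 68) 16)) (Nat.mul 16
  (Nat.add (Nat.sub 16 (Nat.mod (Nat.shiftRight c 60) 16)) (Nat.mul 16
  (Nat.add (Nat.mod (Nat.shiftRight c 36) 16) (Nat.mul 16
  (Nat.add (Nat.mod (Nat.shiftRight c 16) 16) (Nat.mul 16
  (Nat.add (Nat.sub 16 (Nat.mod (Nat.shiftRight c 32) 16)) (Nat.mul 16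
  (Nat.add (Nat.mod (Nat.shiftRight c 80) 16) (Nat.mul 16
  (Nat.add (Nat.sub 16 (Nat.mod (Nat.shiftRight c 92) 16)) (Nat.mul 16
  (Nat.add (Nat.mod (Nat.shiftRight c 84) 16) (Nat.mul 16
  (Nat.add (Nat.sub 16 (Nat.mod (Nat.shiftRight c 64) 16)) (Nat.mul 16
  (Nat.add (Nat.mod (Nat.shiftRight c 44) 16) (Nat.mul 16
  (Nat.add (Nat.sub 16 (Nat.mod (Nat.shiftRight c 72) 16)) (Nat.mul 16
  (Nat.add (Nat.sub 16 (Nat.mod (Nat.shiftRight c 76) 16)) (Nat.mul 16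
  (Nat.add (Nat.sub 16 (Nat.mod (Nat.shiftRight c 24) 16)) (Nat.mul 16
  (Nat.add (Nat.mod (Nat.shiftRight c 28) 16) (Nat.mul 16 0))))))))))))))))))))))))))))))))))))))))))))))))

theorem opK3_real : RealOp ⊤ opK3 :=
  .of (real_monoFn (m := 5132477) (c := 570443654119035414646492301476008594) (by decide +kernel))
    (opOK_mono (t := 299351075044398543778781747150651469) (sm := 7687494) (by decide +kernel) fun _ => rfl)

/-- The extra generator on codes. -/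
def opX (c : ℕ) : ℕ := enc (xi (dec c))

theorem opX_real : RealOp ⊤ opX := .of real_xi (opOK_enc xi)

theorem RealOp.frc {K : Subgroup Co0} {op op' : ℕ → ℕ} (h : RealOp K op) (h' : RealOp K op') :
    RealOp K fun c => frc (op' c) op := by
  simp only [frc_eq]; exact h.comp h'

/-- A non-monomial map fixing `vU` and `vV`. -/
noncomputable def opH (c : ℕ) : ℕ :=
  frc (opH3 c) fun c => frc (opX c) fun c => frc (opH2 c) fun c => frc (opX c) opH1

theorem opH_real : RealOp ⊤ opH :=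
  (((opH1_real.frc opX_real).frc opH2_real).frc opX_real).frc opH3_real

/-- A non-monomial map fixing `vW` and `vV`. -/
noncomputable def opK (c : ℕ) : ℕ :=
  frc (opK3 c) fun c => frc (opX c) fun c => frc (opK2 c) fun c => frc (opX c) opK1

theorem opK_real : RealOp ⊤ opK :=
  (((opK1_real.frc opX_real).frc opK2_real).frc opX_real).frc opK3_real

theorem rot_real : RealOp ⊤ (Rk 4) := .of real_rotV opOK_rot

/-- The vector `(4, 4, 0^22)`. -/
def vU : L := mkL (sg none 4 + sg (some 0) 4) (isL_sg_add _ _)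

/-- The vector `(4, -4, 0^22)`. -/
def vW : L := mkL (sg none 4 - sg (some 0) 4) (isL_sg_sub _ _)

/-- The vector `(1, -3, 1^22)`. -/
def vY : L := mkL (odd3 (some 0)) (isL_odd3 _)

/-- The vector `(-3, 1^23)`. -/
def vZ : L := mkL (odd3 none) (isL_odd3 _)

/-- The vector `(5, 1^23)`. -/
def vV : L := vU + vY

theorem vU_dec : (vU : V) = dec 63300000675459111389841885320 := by decide +kernel

theorem vU_sh : vU ∈ sh 32 := by
  change sqNorm (vU : V) = 32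
  decide +kernel

theorem vW_dec : (vW : V) = dec 60824120596888350840043636872 := by decide +kernel

theorem vW_sh : vW ∈ sh 32 := by
  change sqNorm (vW : V) = 32
  decide +kernel

theorem vY_dec : (vY : V) = dec 46298957469273222281227245977 := by decide +kernel

theorem vY_sh : vY ∈ sh 32 := by
  change sqNorm (vY : V) = 32
  decide +kernel

theorem vZ_dec : (vZ : V) = dec 27729856879992518157740382617 := by decide +kernel

theorem vZ_sh : vZ ∈ sh 32 := by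
  change sqNorm (vZ : V) = 32
  decide +kernel

theorem vV_sh : vV ∈ sh 48 := by
  change sqNorm (vV : V) = 48
  decide +kernel

theorem RealOp.stabU {K : Subgroup Co0} {op : ℕ → ℕ} (h : RealOp K op)
    (e : op 63300000675459111389841885320 = 63300000675459111389841885320) : RealOp (K ⊓ stabilizer Co0 vU) op :=
  h.stab vU_sh (by norm_num) vU_dec e

theorem RealOp.stabW {K : Subgroup Co0} {op : ℕ → ℕ} (h : RealOp K op)
    (e : op 60824120596888350840043636872 = 60824120596888350840043636872) : RealOp (K ⊓ stabilizer Co0 vW) op :=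
  h.stab vW_sh (by norm_num) vW_dec e

theorem RealOp.stabV {K : Subgroup Co0} {op : ℕ → ℕ} (h : RealOp K op)
    (e : dec (op 63300000675459111389841885320) + dec (op 46298957469273222281227245977) = (vV : V)) :
    RealOp (K ⊓ stabilizer Co0 vV) op := by
  obtain ⟨g, hg, hgf⟩ := h
  refine ⟨g, ⟨hg, Subtype.ext ?_⟩, hgf⟩
  rw [← e, ← (hgf _ (by norm_num) vU vU_sh vU_dec).2, ← (hgf _ (by norm_num) vY vY_sh vY_dec).2]
  exact congrArg Subtype.val (co_add g vU vY)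

/-- Stabiliser of `vU`. -/
abbrev GU : Subgroup Co0 := stabilizer Co0 vU

/-- Stabiliser of `vV`. -/
abbrev GV : Subgroup Co0 := stabilizer Co0 vV

/-- Stabiliser of `vW`. -/
abbrev GW : Subgroup Co0 := stabilizer Co0 vW

theorem ops_top : RealOp ⊤ (Rk 4) ∧ ∀ op ∈ [opB, opG, opD, opN, opH], RealOp ⊤ op := by
  refine ⟨rot_real, ?_⟩
  simp only [List.forall_mem_cons]
  exact ⟨opB_real, opG_real, opD_real, opN_real, opH_real, by simp⟩

theorem ops_U : RealOp GU (Rk 4) ∧ ∀ op ∈ [opB, opE, opP, opH], RealOp GU op := by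
  refine ⟨(rot_real.stabU (by decide +kernel)).mono inf_le_right, ?_⟩
  simp only [List.forall_mem_cons]
  exact ⟨(opB_real.stabU (by decide +kernel)).mono inf_le_right,
    (opE_real.stabU (by decide +kernel)).mono inf_le_right,
    (opP_real.stabU (by decide +kernel)).mono inf_le_right,
    (opH_real.stabU (by decide +kernel)).mono inf_le_right, by simp⟩

theorem rot_V : RealOp GV (Rk 4) := (rot_real.stabV (by decide +kernel)).mono inf_le_right

theorem opB_V : RealOp GV opB := (opB_real.stabV (by decide +kernel)).mono inf_le_right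

theorem opG_V : RealOp GV opG := (opG_real.stabV (by decide +kernel)).mono inf_le_right

theorem opH_V : RealOp GV opH := (opH_real.stabV (by decide +kernel)).mono inf_le_right

theorem opK_V : RealOp GV opK := (opK_real.stabV (by decide +kernel)).mono inf_le_right

theorem ops_V : RealOp GV (Rk 4) ∧ ∀ op ∈ [opB, opG, opH], RealOp GV op := by
  refine ⟨rot_V, ?_⟩
  simp only [List.forall_mem_cons]
  exact ⟨opB_V, opG_V, opH_V, by simp⟩

theorem ops_VU : RealOp (GV ⊓ GU) (Rk 4) ∧ ∀ op ∈ [opB, opH], RealOp (GV ⊓ GU) op := by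
  refine ⟨rot_V.stabU (by decide +kernel), ?_⟩
  simp only [List.forall_mem_cons]
  exact ⟨opB_V.stabU (by decide +kernel), opH_V.stabU (by decide +kernel), by simp⟩

theorem ops_VW : RealOp (GV ⊓ GW) (Rk 4) ∧ ∀ op ∈ [opB, opK], RealOp (GV ⊓ GW) op := by
  refine ⟨rot_V.stabW (by decide +kernel), ?_⟩
  simp only [List.forall_mem_cons]
  exact ⟨opB_V.stabW (by decide +kernel), opK_V.stabW (by decide +kernel), by simp⟩

theorem ops_VUW : RealOp (GV ⊓ GU ⊓ GW) (Rk 4) ∧ ∀ op ∈ [opB], RealOp (GV ⊓ GU ⊓ GW) op := by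
  refine ⟨(rot_V.stabU (by decide +kernel)).stabW (by decide +kernel), ?_⟩
  simp only [List.forall_mem_cons]
  exact ⟨(opB_V.stabU (by decide +kernel)).stabW (by decide +kernel), by simp⟩

end Cfsg.Agent.H3
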