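import Cfsg.Agent.H1.Mathieu

/-!
# The holomorph of the quaternion group, as a table

The centraliser of a 2-central involution of the dodecad stabiliser.
-/

set_option autoImplicit false

namespace Cfsg.Agent.H3

open Subgroup Equiv Cfsg.Agent.H1

/-- The elements of the holomorph of the quaternion group: `8 * σ + q`. -/
def Hol : Type := Fin 192

namespace Hol

instance : Fintype Hol := inferInstanceAs (Fintype (Fin 192))

/-- The element with a given index. -/
def mk (n : ℕ) : Hol := ⟨Nat.mod n (nat_lit 192), Nat.mod_lt _ (by norm_num)⟩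

/-- The index of an element. -/
def v (x : Hol) : ℕ := Fin.val x

theorem v_lt (x : Hol) : x.v < 192 := Fin.isLt x

instance : DecidableEq Hol := fun x y =>
  decidable_of_iff (Nat.beq x.v y.v = true) (by rw [Nat.beq_eq]; exact Fin.val_inj)

theorem v_mk (n : ℕ) : (mk n).v = n % 192 := rfl

theorem mk_v (x : Hol) : mk x.v = x := Fin.ext (Nat.mod_eq_of_lt x.v_lt)

/-- Bounded conjunction. -/
def allN (f : ℕ → Bool) (n : ℕ) : Bool := Nat.rec true (fun n ih => f n && ih) n

/-- Bounded disjunction. -/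
def anyN (f : ℕ → Bool) (n : ℕ) : Bool := Nat.rec false (fun n ih => f n || ih) n

theorem allN_iff (f : ℕ → Bool) (n : ℕ) : allN f n = true ↔ ∀ i < n, f i = true := by
  induction n with
  | zero => simp [allN]
  | succ n ih =>
    change (f n && allN f n) = true ↔ _
    rw [Bool.and_eq_true, ih, Nat.forall_lt_succ_right, and_comm]

theorem anyN_iff (f : ℕ → Bool) (n : ℕ) : anyN f n = true ↔ ∃ i < n, f i = true := by
  induction n with
  | zero => simp [anyN]
  | succ n ih =>
    change (f n || anyN f n) = true ↔ _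
    rw [Bool.or_eq_true, ih, Nat.exists_lt_succ_right, or_comm]

instance decAll (p : Hol → Prop) [DecidablePred p] : Decidable (∀ x, p x) :=
  decidable_of_iff (allN (fun i => decide (p (mk i))) 192 = true) (by
    rw [allN_iff]
    exact ⟨fun h x => by simpa [mk_v] using h _ x.v_lt, fun h i _ => decide_eq_true (h _)⟩)

instance decEx (p : Hol → Prop) [DecidablePred p] : Decidable (∃ x, p x) :=
  decidable_of_iff (anyN (fun i => decide (p (mk i))) 192 = true) (by
    rw [anyN_iff]
    exact ⟨fun ⟨i, _, h⟩ => ⟨_, of_decide_eq_true h⟩,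
      fun ⟨x, h⟩ => ⟨_, x.v_lt, by simpa [mk_v] using h⟩⟩)

/-- Multiplication in the complement. -/
@[irreducible] def sm (a b : ℕ) : ℕ :=
  Nat.mod (Nat.shiftRight (nat_lit 0x13c10a188959cb660e616c5d24555788dc03d546222e5134327b213a257603053490d4b14eb78603749b155d1568243222e53d5460c44e9c18fb2d343d48a88c0d7083241ae54d17663e13a196413e03032613a4b6aa1578b5d2492c60326113e032d0ebba915939b12dcc89044e68071512a7a26cb7b270220f7680719044ea95465d93484d8fb15270cd801c1e222cd4456ea6c64e59e851c1e20cd803588955ea874a2d328b57083288c0db9d04b2e899c1ec905a22dd0432aa70387163e704d2cb0cc6cb14eb490d4801e28b64eaa2ea70a2132aa72dd041c80d84dec5da891c02f59cb6a18899898093a2dbaaa87ba6d552d7425759323008043290c784592aad28bda8a6cdcf00462214e66360e42575552d78be5318801398859c9f1bda8aaad28741ac10c2031ca4551167b9ac9ca304dd75214c700443aaee984653635cfb228a290e6080624254b635cf84653a56d731c8510c01bdab49ca307b9ac5a928398a418820) (Nat.mul (nat_lit 5) (Nat.add (Nat.mul (nat_lit 24) a) b))) (nat_lit 32)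

/-- Multiplication in the quaternion group. -/
@[irreducible] def qm (a b : ℕ) : ℕ := Nat.mod (Nat.shiftRight (nat_lit 0x21a977053b3e4c8fa5681decb3721397e05ade54c1fac688)
  (Nat.mul (nat_lit 3) (Nat.add (Nat.mul (nat_lit 8) a) b))) (nat_lit 8)

/-- Action of the complement on the quaternion group. -/
@[irreducible] def ac (a b : ℕ) : ℕ :=
  Nat.mod (Nat.shiftRight (nat_lit 0x97e6886acdc8b376884ecf884f7b08b1af8895adc84fe9486beb08b13dc8953f886b79486a5f889774c84e5dc8b3e4c8f93b08f9a948dd3948ddab08dec4c8de5688fa54c8fac688)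
  (Nat.mul (nat_lit 3) (Nat.add (Nat.mul (nat_lit 8) a) b))) (nat_lit 8)

/-- Multiplication of indices. -/
def mulN (i j : ℕ) : ℕ :=
  Nat.add (Nat.mul (nat_lit 8) (sm (Nat.div i (nat_lit 8)) (Nat.div j (nat_lit 8))))
    (qm (Nat.mod i (nat_lit 8)) (ac (Nat.div i (nat_lit 8)) (Nat.mod j (nat_lit 8))))

theorem mulN_eq (i j : ℕ) :
    mulN i j = 8 * sm (i / 8) (j / 8) + qm (i % 8) (ac (i / 8) (j % 8)) := rfl

/-- Inversion of indices. -/
@[irreducible] def invN (i : ℕ) : ℕ :=
  Nat.mod (Nat.shiftRight (nat_lit 0xacadafaeaaaba9a8a3a2a4a5a6a7a1a0bdbcbebfbabbb9b8b2b3b4b5b7b6b1b08d8c8a8b8f8e89887a7b7e7f7c7d79789b9a9f9e9c9d999874757372777671709495929396979190838286878584818062636766656461606d6c6b6a6e6f69685a5b5d5c5e5f595855545756535251504b4a4d4c4f4e4948444546474342414036373233353431303e3f3b3a3c3d39382f2e2b2a2d2c292827262223242521201f1e1c1d1b1a191817161514121311100e0f0d0c0b0a09080607040502030100) (Nat.mul (nat_lit 8) i)) (nat_lit 256)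

/-- Codes of the normal quaternion subgroup. -/
@[irreducible] def cL (q : ℕ) : ℕ :=
  (0x2ccea5b1c9b448d7d506a42f2188202bd47b11c65c5929d209aa2ed1882075576518ac3dd28a3e449b63018820752cb3a4a455cd0acdac7ca281882089df3ac2eda150655992591c9188208aa6fa22f2a96093ac8db31c618820bae957b6289ba44b1cd0524ac18820bdab49ca307b9ac5a928398a418820 >>> (120 * q)) % 2 ^ 120

/-- Codes of the complement. -/
@[irreducible] def cS (s : ℕ) : ℕ :=
  (0x72df3aa0b2a460cb1d2d51ae4080432d5767a6f09c4cca1da8549c4104032ae6fa41cdadd0cb1d3251a24004628d2cb799d09952ca9e48536e400c4173d76a9aeda452c9aa123a0a410023bd5f35c0a9b450ca2a463b5c4088038d26f5a1c9b5e0caa9a63c8a400c222cd76a1a32add2c7a90d3c1c418402bbecba25d2a94cc9aa0d3a22400861751f3b42265950caa9a93cae4180412d66fb22e65ba0ca2a493b624104608cecbaa4ada38cc7a9123c2e408c40751769a6287dccca9e50534a418022bd9f3a222da960c59cd2525c418801bd6cb998a87b92ca1db054a24088608da6fac2f2a390c59ccd524a410c208ce955c8a6b5dac79e09521c408c0273e95b4ae9595ac99d065422410061bbeb45b5c6b464c99d09540a4008232ceb4b36295ba4c79e06522e41844072e959b4b07de4cb28c83a624080628da957b6e89964c5a930399c410c012aeb47c9c89c5acb28d03a6e400443bdab49ca307b9ac5a928398a418820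 >>> (120 * s)) % 2 ^ 120

instance : Mul Hol := ⟨fun x y => mk (mulN x.v y.v)⟩
instance : One Hol := ⟨mk 0⟩
instance : Inv Hol := ⟨fun x => mk (invN x.v)⟩

theorem in_cL (q : ℕ) : In (stabS (toSet 340831)) (cL (q % 8)) :=
  all_in_stabS (L := (List.range 8).map cL) (m := 340831) (by decide +kernel) _
    (List.mem_map_of_mem (List.mem_range.mpr (by omega)))

theorem in_cS (s : ℕ) : In (stabS (toSet 340831)) (cS (s % 24)) :=
  all_in_stabS (L := (List.range 24).map cS) (m := 340831) (by decide +kernel) _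
    (List.mem_map_of_mem (List.mem_range.mpr (by omega)))

/-- The permutations of the quaternion subgroup. -/
noncomputable def pL (q : ℕ) : Perm GolayPt := (in_cL q).choose

/-- The permutations of the complement. -/
noncomputable def pS (s : ℕ) : Perm GolayPt := (in_cS s).choose

theorem rep_pL {q : ℕ} (h : q < 8) : Rep (pL q) (cL q) := by
  have : Rep (pL q) (cL (q % 8)) := (in_cL q).choose_spec.2
  rwa [Nat.mod_eq_of_lt h] at this

theorem rep_pS {s : ℕ} (h : s < 24) : Rep (pS s) (cS s) := by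
  have : Rep (pS s) (cS (s % 24)) := (in_cS s).choose_spec.2
  rwa [Nat.mod_eq_of_lt h] at this

/-- The permutation of an element. -/
noncomputable def perm (x : Hol) : Perm GolayPt := pL (x.v % 8) * pS (x.v / 8)

/-- The code of an element. -/
def code (x : Hol) : ℕ := cmul (cL (x.v % 8)) (cS (x.v / 8))

theorem perm_mem (x : Hol) : x.perm ∈ stabS (toSet 340831) :=
  mul_mem (in_cL _).choose_spec.1 (in_cS _).choose_spec.1

theorem perm_rep (x : Hol) : Rep x.perm x.code :=
  have := x.v_lt
  (rep_pL (by omega)).mul (rep_pS (by omega))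

theorem perm_mul (x y : Hol) : (x * y).perm = x.perm * y.perm := by
  have h1 : ∀ a < 8, ∀ b < 8, cmul (cL a) (cL b) = cL (qm a b) := by decide +kernel
  have h2 : ∀ a < 24, ∀ b < 24, sm a b < 24 ∧ cmul (cS a) (cS b) = cS (sm a b) := by
    decide +kernel
  have h3 : ∀ a < 24, ∀ b < 8, cmul (cS a) (cL b) = cmul (cL (ac a b)) (cS a) := by
    decide +kernel
  have hx := x.v_lt
  have hy := y.v_lt
  have hq : ∀ a b, qm a b < 8 := fun _ _ => by unfold qm; exact Nat.mod_lt _ (by norm_num)
  have ha : ∀ a b, ac a b < 8 := fun _ _ => by unfold ac; exact Nat.mod_lt _ (by norm_num)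
  have a1 : x.v / 8 < 24 := by omega
  have a2 : y.v / 8 < 24 := by omega
  have b1 : x.v % 8 < 8 := by omega
  have b2 : y.v % 8 < 8 := by omega
  have hv : (x * y).v = mulN x.v y.v % 192 := rfl
  have e1 := (h2 _ a1 _ a2).1
  have e2 := hq (x.v % 8) (ac (x.v / 8) (y.v % 8))
  have f1 : (x * y).v % 8 = qm (x.v % 8) (ac (x.v / 8) (y.v % 8)) := by
    rw [hv, mulN_eq]; omega
  have f2 : (x * y).v / 8 = sm (x.v / 8) (y.v / 8) := by
    rw [hv, mulN_eq]; omega
  have g1 : pL (qm (x.v % 8) (ac (x.v / 8) (y.v % 8))) =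
      pL (x.v % 8) * pL (ac (x.v / 8) (y.v % 8)) :=
    (rep_pL e2).unique (by rw [← h1 _ b1 _ (ha _ _)]; exact (rep_pL b1).mul (rep_pL (ha _ _)))
  have g2 : pS (sm (x.v / 8) (y.v / 8)) = pS (x.v / 8) * pS (y.v / 8) :=
    (rep_pS e1).unique (by rw [← (h2 _ a1 _ a2).2]; exact (rep_pS a1).mul (rep_pS a2))
  have g3 : pS (x.v / 8) * pL (y.v % 8) = pL (ac (x.v / 8) (y.v % 8)) * pS (x.v / 8) :=
    ((rep_pS a1).mul (rep_pL b2)).unique
      (by rw [h3 _ a1 _ b2]; exact (rep_pL (ha _ _)).mul (rep_pS a1))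
  rw [perm, perm, perm, f1, f2, g1, g2, mul_assoc, ← mul_assoc (pL (ac _ _)), ← g3]
  simp only [mul_assoc]

theorem perm_injective : Function.Injective perm := by
  have h1 : ∀ x : Hol, (x * x⁻¹) = 1 := by decide +kernel
  have h2 : ∀ x : Hol, ap x.code 0 = 0 → ap x.code 1 = 1 → ap x.code 2 = 2 → ap x.code 4 = 4 →
      x = 1 := by decide +kernel
  have h3 : ∀ x y : Hol, x * y⁻¹ = 1 → x = y := by decide +kernel
  have h4 : perm 1 = 1 := (perm_rep 1).unique
    (by rw [(by decide +kernel : code 1 = cid)]; exact rep_one)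
  intro x y h
  have e : (x * y⁻¹).perm = 1 := by rw [perm_mul, h, ← perm_mul, h1, h4]
  have r := perm_rep (x * y⁻¹)
  rw [e] at r
  exact h3 _ _ (h2 _ (r (pt 0)).symm (r (pt 1)).symm (r (pt 2)).symm (r (pt 4)).symm)

instance : Group Hol :=
  Group.ofLeftAxioms (fun x y z => perm_injective (by simp only [perm_mul, mul_assoc]))
    (by decide +kernel) (by decide +kernel)

theorem card : Nat.card Hol = 192 := Nat.card_fin 192

/-- The central involution. -/
def z : Hol := mk 1

/-- The six involutions of the normal subgroup of order eight. -/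
def A (x : Hol) : Prop := Nat.testBit 50529024 x.v = true
/-- The other involutions of the normal subgroup of order 32. -/
def B (x : Hol) : Prop := Nat.testBit 3438296064 x.v = true
/-- The involutions outside the normal subgroup of order 32. -/
def C (x : Hol) : Prop := Nat.testBit 15802110505574820642419638272 x.v = true

instance : DecidablePred A := fun _ => inferInstanceAs (Decidable (_ = true))
instance : DecidablePred B := fun _ => inferInstanceAs (Decidable (_ = true))
instance : DecidablePred C := fun _ => inferInstanceAs (Decidable (_ = true))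

/-- Membership in a set given by a mask. -/
def msk (m : ℕ) (x : Hol) : Prop := Nat.testBit m x.v = true

instance (m : ℕ) : DecidablePred (msk m) := fun _ => inferInstanceAs (Decidable (_ = true))

/-- A subgroup given by a mask. -/
def sub (m : ℕ) (h : msk m 1 ∧ ∀ x, msk m x → msk m x⁻¹ ∧ ∀ y, msk m y → msk m (x * y)) :
    Subgroup Hol where
  carrier := {x | msk m x}
  mul_mem' ha hb := (h.2 _ ha).2 _ hb
  one_mem' := h.1
  inv_mem' ha := (h.2 _ ha).1

theorem card_sub (m : ℕ) (h) :
    Nat.card (sub m h) = (Finset.univ.filter (msk m)).card := by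
  rw [← Fintype.card_subtype, ← Nat.card_eq_fintype_card]; rfl

/-- A Sylow 2-subgroup. -/
def P0 : Subgroup Hol := sub 18446744073709551615 (by decide +kernel)

theorem z_comm : ∀ x : Hol, x * z = z * x := by decide +kernel

theorem z_sq : z * z = 1 := by decide +kernel

theorem z_ne : z ≠ 1 := by decide +kernel

theorem central : ∀ x : Hol, x * x = 1 → x ≠ 1 → (∀ y, msk 18446744073709551615 y → y * x = x * y) →
    x = z := by decide +kernel

theorem isPGroup_P0 : IsPGroup 2 P0 := fun x => ⟨3, Subtype.ext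
  ((by decide +kernel : ∀ x : Hol, msk 18446744073709551615 x → x ^ 2 ^ 3 = 1) x x.2)⟩

theorem perm_apply (x : Hol) {i : ℕ} (hi : i < 24) :
    x.perm (pt i) = pt (ap (cL (x.v % 8)) (ap (cS (x.v / 8)) i)) := by
  have := x.v_lt
  have h1 := rep_pS (s := x.v / 8) (by omega)
  rw [perm, Perm.mul_apply, h1.apply_pt hi, (rep_pL (by omega)).apply_pt (h1.ap_lt hi)]

set_option synthInstance.maxSize 2000 in
theorem exists_perm_eq {g : Perm GolayPt} (hg : g ∈ stabS (toSet 340831))
    (h : g * z.perm = z.perm * g) : ∃ x : Hol, x.perm = g := by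
  have h1 : ∀ a < 24, Nat.testBit 340831 a = true → (ap z.code a = a ↔ a < 4) := by
    decide +kernel
  have h2 : ∀ a < 4, ∀ b < 4, ∀ c < 4, ∀ d < 4, ∀ e < 24,
      Nat.testBit 340831 e = true ∧ [a, b, c, d, e].Nodup → ∃ x : Hol,
        [0, 1, 2, 3, 4].map (fun i => ap (cL (x.v % 8)) (ap (cS (x.v / 8)) i)) =
          [a, b, c, d, e] := by decide +kernel
  have hd : ∀ i < 5, Nat.testBit 340831 (ix (g (pt i))) = true := fun i hi => by
    rw [← pt_mem_toSet (ix_lt _), pt_ix]
    exact stabS_inv g hg _ ((pt_mem_toSet (by omega)).mpr (by revert i; decide))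
  have h3 : ∀ i < 4, ix (g (pt i)) < 4 := fun i hi => by
    refine (h1 _ (ix_lt _) (hd i (by omega))).mp ?_
    have e : z.perm (pt i) = pt i := by
      rw [(perm_rep z).apply_pt (by omega), (h1 i (by omega) (by revert i; decide)).mpr hi]
    rw [← perm_rep z, ← Perm.mul_apply, ← h, Perm.mul_apply, e]
  have h4 : ([0, 1, 2, 3, 4].map fun i => ix (g (pt i))).Nodup := by
    refine List.Nodup.map_on (fun i hi j hj e => ?_) (by decide)
    have h5 : ∀ i ∈ [0, 1, 2, 3, 4], i < 24 := by decide
    exact (pt_inj (h5 i hi) (h5 j hj)).mp (g.injective (ix_injective e))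
  obtain ⟨x, e⟩ := h2 _ (h3 0 (by omega)) _ (h3 1 (by omega)) _ (h3 2 (by omega))
    _ (h3 3 (by omega)) _ (ix_lt _) ⟨hd 4 (by omega), h4⟩
  simp only [List.map_cons, List.map_nil, List.cons.injEq, and_true] at e
  obtain ⟨e0, e1, e2, e3, e4⟩ := e
  have h5 : g⁻¹ * x.perm ∈ fixL (stabS (toSet 340831)) ([4, 3, 2, 1, 0].map pt) := by
    refine ⟨mul_mem (inv_mem hg) x.perm_mem, ?_⟩
    simp only [List.map_cons, List.map_nil, List.forall_mem_cons, List.not_mem_nil, false_imp_iff,
      implies_true, and_true, Perm.mul_apply, Perm.coe_inv, symm_apply_eq]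
    rw [perm_apply x (by omega), perm_apply x (by omega), perm_apply x (by omega),
      perm_apply x (by omega), perm_apply x (by omega), e0, e1, e2, e3, e4]
    simp only [pt_ix, and_self]
  rw [dfix5_eq_bot, mem_bot, inv_mul_eq_one] at h5
  exact ⟨x, h5.symm⟩

end Hol

open Hol

/-- An involution whose centraliser is the holomorph of the quaternion group. -/
structure Fr (G : Type*) [Group G] where
  /-- The embedding. -/
  ψ : Hol →* G
  inj : Function.Injective ψ
  cent : ∀ g, g * ψ z = ψ z * g → ∃ y, ψ y = g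

/-- The frame of the dodecad stabiliser. -/
noncomputable def frM12 : Fr (stabS (toSet 340831)) where
  ψ := MonoidHom.mk' (fun x => ⟨x.perm, x.perm_mem⟩) fun x y => Subtype.ext (perm_mul x y)
  inj _ _ h := perm_injective (congrArg Subtype.val h)
  cent g h := by
    obtain ⟨x, hx⟩ := exists_perm_eq g.2 (congrArg Subtype.val h)
    exact ⟨x, Subtype.ext hx⟩

end Cfsg.Agent.H3
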