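import Cfsg.Agent.H3.P4

/-!
# The order of a group with the involution centraliser of the symplectic group over three elements
-/

set_option autoImplicit false

namespace Cfsg.Agent.H3

open Subgroup P4

namespace P4

/-- Involutions of the normal 2-subgroup. -/
def U (x : P4) : Prop := msk 0xfc0000fc0000fc000000 x
/-- The central involution and the conjugates of `sg`. -/
def Z (x : P4) : Prop := msk 0x800008000002000000100200000080000800000010000000080000020000008000001000000000000000000000000000000000000000000000000000000000000000000000002 x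
/-- The conjugates of `t * sg`. -/
def T (x : P4) : Prop := msk 0x400004000001000000200100000040000400000020000000040000010000004000002000000000000000000000000000000000000000000000000000000000000000000000000 x

instance : DecidablePred U := fun _ => inferInstanceAs (Decidable (msk _ _))
instance : DecidablePred Z := fun _ => inferInstanceAs (Decidable (msk _ _))
instance : DecidablePred T := fun _ => inferInstanceAs (Decidable (msk _ _))

/-- The centraliser of `sg`. -/
def D0 : Subgroup P4 := sub 0xc000003000000c000003000000c000003000000c000003000000c000003000000c000003c000003000000c000003000000c000003000000c000003000000c000003000000c000003 (by decide +kernel)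
/-- The largest normal 2-subgroup. -/
def Q0 : Subgroup P4 := sub 0xff0000ff0000ff0000ff (by decide +kernel)
/-- A Sylow 2-subgroup. -/
def P0 : Subgroup P4 := sub 0xff0000ff0000ff0000ff0000000000000000000000000000000000000000000000000000ff0000ff0000ff0000ff (by decide +kernel)

instance (x : P4) : Decidable (x ∈ D0) := inferInstanceAs (Decidable (msk _ x))
instance (x : P4) : Decidable (x ∈ Q0) := inferInstanceAs (Decidable (msk _ x))
instance (x : P4) : Decidable (x ∈ P0) := inferInstanceAs (Decidable (msk _ x))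

/-- Named elements. -/
def ts : P4 := mk 289
/-- Named elements. -/
def r : P4 := mk 104
/-- Named elements. -/
def u1 : P4 := mk 26
/-- Named elements. -/
def u2 : P4 := mk 52
/-- Named elements. -/
def u3 : P4 := mk 78
/-- Named elements. -/
def p1 : P4 := mk 315
/-- Named elements. -/
def p2 : P4 := mk 341
/-- Named elements. -/
def p3 : P4 := mk 367

/-- Exponents of the normal form in `D0`. -/
@[irreducible] def ex (x : P4) : ℕ :=
  (0xbee000000000000000000000000000000000000aea0000000000000000000000000000000000009e60000000000000000000000000000000000008e20000000000000000000000000000000000007de0000000000000000000000000000000000006da0000000000000000000000000000000000005d60000000000000000000000000000000000004d20000000000000000000000000000000000003ce0000000000000000000000000000000000002ca0000000000000000000000000000000000001c60000000000000000000000000000000000000c2b6c000000000000000000000000000000000000a6800000000000000000000000000000000000096400000000000000000000000000000000000086000000000000000000000000000000000000075c00000000000000000000000000000000000065800000000000000000000000000000000000055400000000000000000000000000000000000045000000000000000000000000000000000000034c000000000000000000000000000000000000248000000000000000000000000000000000000144000000000000000000000000000000000000040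 >>> (6 * x.v)) % 64

/-- The homomorphism on `D0` with given images of the generators. -/
def th (a b c d e x : P4) : P4 :=
  a ^ (x.ex % 2) * b ^ (x.ex / 2 % 2) * c ^ (x.ex / 4 % 2) * d ^ (x.ex / 8 % 2) * e ^ (x.ex / 16)

/-- The automorphism of `D0` induced in the symplectic group. -/
def θ (x : P4) : P4 := th sg t u1 u3 r⁻¹ x

/-- Evaluation of a word. -/
def ev (f : P4 → P4) : List P4 → P4 → P4
  | [], e => e
  | h :: l, e => f (h * ev f l e * h⁻¹)

/-- The word can be evaluated. -/
def okw (f : P4 → P4) : List P4 → P4 → Bool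
  | [], _ => true
  | h :: l, e => decide (h * ev f l e * h⁻¹ ∈ D0) && okw f l e

/-- The word fixes `t` but does not act like an element of the centraliser. -/
def bad (f : P4 → P4) (l : List P4) : Prop :=
  (okw f l t && okw f l sg && okw f l u1 && okw f l u2) = true ∧ ev f l t = t ∧
    ∀ k, k * sg * k⁻¹ = ev f l sg → k * u1 * k⁻¹ = ev f l u1 → k * u2 * k⁻¹ ≠ ev f l u2

instance (f : P4 → P4) (l : List P4) : Decidable (bad f l) := inferInstanceAs (Decidable (_ ∧ _))

theorem bad₁ : bad (th sg t u1 u2 r) [mk 2, mk 2, 1] := by decide +kernel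
theorem bad₂ : bad (th sg ts u1 u2 r) [mk 2, 1, mk 2, 1] := by decide +kernel
theorem bad₃ : bad (th sg ts u1 u3 r⁻¹) [1, 1, 1] := by decide +kernel

theorem th_id : ∀ x ∈ D0, th t sg u1 u2 r x = x := by decide +kernel
theorem mem_D0 : ∀ x, x ∈ D0 ↔ x * sg = sg * x := by decide +kernel
theorem invol : ∀ x : P4, x * x = 1 → x = 1 ∨ Z x ∨ U x ∨ T x := by decide +kernel
theorem Z_conj : ∀ x, Z x → x = t ∨ ∃ h, h * sg * h⁻¹ = x := by decide +kernel
theorem T_conj : ∀ x, T x → Z (t * x) ∧ ∃ h, h * ts * h⁻¹ = x := by decide +kernel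
theorem U_conj : ∀ x, U x → ∃ h, h * (t * u1) * h⁻¹ = x := by decide +kernel
theorem U_cent : ∀ q, U q → ∀ y, y * q = q * y → y ^ 4 = 1 := by decide +kernel
theorem U_comm : ∀ q, U q → ∀ x, Z x → x * q = q * x → ∀ y, Z y → y * q = q * y →
    x * y = y * x := by decide +kernel
theorem nf : ∀ a ∈ D0, a ^ 3 = 1 → a ≠ 1 → ∀ b ∈ D0, b ^ 3 = 1 → a * b * (a * b) = 1 → a * b ≠ 1 →
    ∃ d ∈ D0, d * (a * b) * d⁻¹ = u1 ∧ (d * a * d⁻¹ = r ∨ d * a * d⁻¹ = r⁻¹) := by decide +kernel
theorem D0_Z : ∀ x ∈ D0, Z x → (Z (x * ts) → x = t ∨ x = sg) ∧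
    (¬ Z (x * ts) → x = p1 ∨ x = p2 ∨ x = p3) := by decide +kernel
theorem sq_fix : ∀ d ∈ D0, d * r = r * d → d * u1 = u1 * d → θ d = d → d = 1 ∨ d = ts := by
  decide +kernel
theorem θ_mem : ∀ d ∈ D0, θ d ∈ D0 ∧ θ (θ d) = d := by decide +kernel
theorem named : t * sg = ts ∧ t * t = 1 ∧ t ≠ 1 ∧ sg * sg = 1 ∧ ts * ts = 1 ∧ ts ≠ 1 ∧ sg ≠ t ∧
    r ∈ D0 ∧ u1 ∈ D0 ∧ r ^ 3 = 1 ∧ r ≠ 1 ∧ (r⁻¹ * u1) ^ 3 = 1 ∧ u1 * u1 = 1 ∧ u1 ≠ 1 ∧
    r * u1 * r⁻¹ = u2 ∧ r⁻¹ * u1 * r = u3 ∧ t ∈ D0 ∧ sg ∈ D0 ∧ θ t = sg ∧ θ sg = t ∧ θ ts = ts ∧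
    T (θ (t * u1)) ∧ r ^ 4 ≠ 1 := by decide +kernel
theorem p_spec : p1 * p2 * p3 = ts ∧ p3 = p1 * p2 * ts ∧ p3 = p2 * p1 * ts ∧ p2 = p1 * p3 * ts ∧
    p2 = p3 * p1 * ts ∧
    ∀ x, x = p1 ∨ x = p2 ∨ x = p3 → x ∈ D0 ∧ Z x ∧ (U (x * ts) ∨ T (x * ts)) := by decide +kernel
theorem isPGroup_P0 : IsPGroup 2 P0 := fun x => ⟨3, Subtype.ext
  ((by decide +kernel : ∀ x ∈ P0, x ^ 2 ^ 3 = 1) x x.2)⟩
theorem t_mem_P0 : t ∈ P0 := by decide +kernel
theorem central : ∀ x : P4, x * x = 1 → x ≠ 1 → (∀ y ∈ P0, y * x = x * y) → x = t := by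
  decide +kernel
theorem card_D0 : Nat.card D0 = 48 := (card_sub _ _).trans (by decide +kernel)
theorem pow_12 : ∀ x : P4, x ^ 12 = 1 := by decide +kernel

/-- Pairs counted in the order formula. -/
def T0 : Finset (P4 × P4) := ((Finset.univ.filter Z) ×ˢ (Finset.univ.filter fun y => U y ∨ T y)).filter
  fun p => ∃ k < 12, (p.1 * p.2) ^ k = t

/-- Pairs counted in the order formula. -/
def T1 : Finset (P4 × P4) := ((Finset.univ.filter fun x => x ∈ D0 ∧ Z x) ×ˢ
  (Finset.univ.filter fun y => y ∈ D0 ∧ (U y ∨ T y))).filter fun p => ∃ k < 12, (p.1 * p.2) ^ k = ts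

/-- Pairs counted in the order formula. -/
def T2 : Finset (P4 × P4) := ((Finset.univ.filter fun x => x ∈ D0 ∧ Z x) ×ˢ
  (Finset.univ.filter fun y => y ∈ D0 ∧ y * θ y = 1)).filter
    fun p => ∃ k < 12, (p.1 * p.2 * θ (p.1 * p.2)) ^ k = ts

theorem card_T0 : T0.card = 108 := by decide +kernel
theorem card_T1 : T1.card = 3 := by decide +kernel
theorem card_T2 : T2.card = 24 := by decide +kernel

end P4

end Cfsg.Agent.H3
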