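import Cfsg.Agent.H3.Jan1

/-!
# Fusion and order for the involution centraliser of the symplectic group over three elements
-/

set_option autoImplicit false

namespace Cfsg.Agent.H3

open Subgroup P4

variable {G : Type*} [Group G]

theorem sq_of_isConj {x u : G} (hx : x * x = 1) (h : IsConj x u) : u * u = 1 := by
  obtain ⟨g, rfl⟩ := isConj_iff.mp h
  rw [conj_mul, hx]; group

theorem conj_inv_of {g x y : G} (h : g * x * g⁻¹ = y) : g⁻¹ * y * g⁻¹⁻¹ = x := by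
  rw [← h]; group

theorem conj_mul_of {g g' x y w : G} (h' : g' * x * g'⁻¹ = y) (h : g * y * g⁻¹ = w) :
    g * g' * x * (g * g')⁻¹ = w := by
  rw [← h, ← h']; group

theorem conj_eq_of_comm {g x : G} (h : g * x = x * g) : g * x * g⁻¹ = x := by
  rw [h, mul_inv_cancel_right]

namespace Jan

variable (F : Frm t G)

theorem ψ_ts : F.ψ ts = F.ψ t * F.ψ sg := by rw [← map_mul, named.1]

theorem exists_D0 {y : G} (h1 : y * F.ψ t = F.ψ t * y) (h2 : y * F.ψ sg = F.ψ sg * y) :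
    ∃ d ∈ D0, F.ψ d = y := by
  obtain ⟨d, rfl⟩ := F.cent y h1
  exact ⟨d, (mem_D0 d).mpr (F.comm_of h2), rfl⟩

theorem comm_sg {y : G} (h1 : y * F.ψ t = F.ψ t * y) (h2 : y * F.ψ ts = F.ψ ts * y) :
    y * F.ψ sg = F.ψ sg * y := by
  rwa [ψ_ts, ← mul_assoc, h1, mul_assoc, mul_assoc, mul_right_inj] at h2

theorem comm_ts {d : P4} (h : d ∈ D0) : F.ψ d * F.ψ ts = F.ψ ts * F.ψ d := by
  rw [ψ_ts, ← mul_assoc, F.comm_z, mul_assoc, F.comm ((mem_D0 d).mp h), mul_assoc]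

theorem act {g : G} {a b c d e : P4} (h1 : g * F.ψ t * g⁻¹ = F.ψ a)
    (h2 : g * F.ψ sg * g⁻¹ = F.ψ b) (h3 : g * F.ψ u1 * g⁻¹ = F.ψ c)
    (h4 : g * F.ψ u2 * g⁻¹ = F.ψ d) (h5 : g * F.ψ r * g⁻¹ = F.ψ e) :
    ∀ x ∈ D0, g * F.ψ x * g⁻¹ = F.ψ (th a b c d e x) := fun x hx => by
  rw [← F.conj_apply] at h1 h2 h3 h4 h5 ⊢
  conv_lhs => rw [← th_id x hx]
  simp only [th, map_mul, map_pow, h1, h2, h3, h4, h5]

theorem not_bad {g : G} {f : P4 → P4} (hg : ∀ x ∈ D0, g * F.ψ x * g⁻¹ = F.ψ (f x))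
    (l : List P4) : ¬ bad f l := by
  have key : ∃ w : G, ∀ e, okw f l e = true → w * F.ψ e * w⁻¹ = F.ψ (ev f l e) := by
    induction l with
    | nil => exact ⟨1, fun e _ => by simp [ev]⟩
    | cons h l ih =>
      obtain ⟨w, hw⟩ := ih
      refine ⟨g * (F.ψ h * w), fun e he => ?_⟩
      rw [okw, Bool.and_eq_true, decide_eq_true_eq] at he
      exact conj_mul_of (conj_mul_of (hw e he.2) (F.map_conj _ _).symm) (hg _ he.1)
  obtain ⟨w, hw⟩ := key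
  rintro ⟨h1, h2, h3⟩
  simp only [Bool.and_eq_true] at h1
  have e := hw t h1.1.1.1
  rw [h2, mul_inv_eq_iff_eq_mul] at e
  obtain ⟨k, rfl⟩ := F.cent w e
  exact h3 k (F.inj ((F.map_conj _ _).trans (hw _ h1.1.1.2)))
    (F.inj ((F.map_conj _ _).trans (hw _ h1.1.2))) (F.inj ((F.map_conj _ _).trans (hw _ h1.2)))

theorem exists_nf {g : G} {b : P4} (hb : b = t ∨ b = ts) (h1 : g * F.ψ t * g⁻¹ = F.ψ sg)
    (h2 : g * F.ψ sg * g⁻¹ = F.ψ b) : ∃ g : G,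
      (∀ x ∈ D0, g * F.ψ x * g⁻¹ = F.ψ (th sg b u1 u2 r x)) ∨
      ∀ x ∈ D0, g * F.ψ x * g⁻¹ = F.ψ (th sg b u1 u3 r⁻¹ x) := by
  obtain ⟨-, -, -, -, -, -, -, n1, n2, n3, n4, n5, n6, n7, n8, n9, -⟩ := named
  have key : ∀ d ∈ D0, ∃ d' ∈ D0, F.ψ d' = (F.conj g).ψ d := fun d hd => by
    have e1 := (F.conj g).comm_z d
    have e2 := (F.conj g).comm ((mem_D0 d).mp hd)
    rw [F.conj_apply g t, h1] at e1
    rw [F.conj_apply g sg, h2] at e2
    refine exists_D0 F ?_ e1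
    rcases hb with rfl | rfl
    · exact e2
    · rwa [ψ_ts, F.comm_z sg |>.symm, ← mul_assoc, e1, mul_assoc, mul_assoc, mul_right_inj] at e2
  obtain ⟨a, ha, ea⟩ := key r n1
  obtain ⟨c, hc, ec⟩ := key _ (mul_mem (inv_mem n1) n2)
  have e : F.ψ (a * c) = (F.conj g).ψ u1 := by
    rw [map_mul, ea, ec, ← map_mul, mul_inv_cancel_left]
  obtain ⟨d, hd, e1, e2⟩ := nf a ha (F.inj (by rw [map_pow, ea, ← map_pow, n3, map_one, map_one]))
    (F.ne_one_of (ea ▸ (F.conj g).ne_one n4)) c hc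
    (F.inj (by rw [map_pow, ec, ← map_pow, n5, map_one, map_one]))
    (F.sq_of (e ▸ (F.conj g).sq n6)) (F.ne_one_of (e ▸ (F.conj g).ne_one n7))
  have f1 := conj_mul_of h1 (conj_eq_of_comm (F.comm ((mem_D0 d).mp hd)))
  have f2 : F.ψ d * g * F.ψ sg * (F.ψ d * g)⁻¹ = F.ψ b := conj_mul_of h2 (conj_eq_of_comm (by
    rcases hb with rfl | rfl
    exacts [F.comm_z d, comm_ts F hd]))
  have f3 : F.ψ d * g * F.ψ u1 * (F.ψ d * g)⁻¹ = F.ψ u1 :=
    conj_mul_of e.symm (by rw [← F.map_conj, e1])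
  refine ⟨F.ψ d * g, e2.imp (fun h => ?_) fun h => ?_⟩
  all_goals
    have f4 := conj_mul_of (g := F.ψ d) ea.symm ((F.map_conj _ _).symm.trans (congrArg F.ψ h))
    refine act F f1 f2 f3 ?_ f4
    rw [← F.conj_apply] at f3 f4 ⊢
  · rw [← n8, F.map_conj, Frm.map_conj, f3, f4]
  · rw [← n8, Frm.map_conj, f3, f4, ← F.map_conj, inv_inv, n9]

theorem no_cycle {g : G} (h1 : g * F.ψ t * g⁻¹ = F.ψ sg) : g * F.ψ sg * g⁻¹ ≠ F.ψ ts := fun h2 => by
  obtain ⟨g, h | h⟩ := exists_nf F (Or.inr rfl) h1 h2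
  exacts [not_bad F h _ bad₂, not_bad F h _ bad₃]

theorem swap {y : P4} (hy : y = sg ∨ y = ts) (h : IsConj (F.ψ t) (F.ψ y)) :
    ∃ g : G, g * F.ψ t * g⁻¹ = F.ψ y ∧ (g * F.ψ sg * g⁻¹ = F.ψ t ∨ g * F.ψ ts * g⁻¹ = F.ψ t) := by
  obtain ⟨g, hg⟩ := isConj_iff.mp h
  obtain ⟨-, n1, n2, -, -, n3, n4, n5, -, -, -, -, -, -, -, -, -, -, -, -, -, -, n6⟩ := named
  obtain ⟨x, hx⟩ := (F.conj g).cent (F.ψ t) (by rw [F.conj_apply, hg]; exact (F.comm_z y).symm)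
  obtain ⟨a, ha⟩ := (F.conj g).cent (F.ψ r) (by
    rw [F.conj_apply, hg]
    rcases hy with rfl | rfl
    exacts [F.comm ((mem_D0 _).mp n5), comm_ts F n5])
  have key : ∀ k s, k * s * k⁻¹ = x → g * F.ψ k * F.ψ t * (g * F.ψ k)⁻¹ = F.ψ y ∧
      g * F.ψ k * F.ψ s * (g * F.ψ k)⁻¹ = F.ψ t := fun k s h =>
    ⟨conj_mul_of (conj_eq_of_comm (F.comm_z k)) hg,
      conj_mul_of ((F.map_conj _ _).symm.trans (congrArg F.ψ h)) hx⟩
  rcases invol x ((F.conj g).sq_of (hx ▸ F.sq n1)) with h | h | h | h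
  · exact absurd h ((F.conj g).ne_one_of (hx ▸ F.ne_one n2))
  · rcases Z_conj x h with rfl | ⟨k, hk⟩
    · have : y = t := F.inj (hg.symm.trans hx)
      rcases hy with rfl | rfl
      · exact absurd this n4
      · exact absurd this (by decide +kernel)
    · exact ⟨_, (key k _ hk).1, Or.inl (key k _ hk).2⟩
  · refine absurd (F.inj ?_) n6
    rw [map_pow, ← ha, ← map_pow, U_cent x h a ((F.conj g).comm_of (by
      rw [ha, hx]; exact F.comm_z r)), map_one, map_one]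
  · obtain ⟨k, hk⟩ := (T_conj x h).2
    exact ⟨_, (key k _ hk).1, Or.inr (key k _ hk).2⟩

variable (hs : IsConj (F.ψ t) (F.ψ sg))
include hs

theorem exists_g : ∃ g : G, g * g = 1 ∧ ∀ x ∈ D0, g * F.ψ x * g⁻¹ = F.ψ (θ x) := by
  obtain ⟨-, n1, -, n2, -, -, -, n3, n4, -, -, -, -, -, -, -, n5, n6, n7, n8, -⟩ := named
  obtain ⟨g, h1, h2 | h2⟩ := swap F (Or.inl rfl) hs
  swap
  · refine absurd ?_ (no_cycle F h1)
    have : F.ψ sg = F.ψ t * F.ψ ts := by rw [ψ_ts, ← mul_assoc, F.sq n1, one_mul]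
    rw [this, ← conj_mul, h1, h2, ψ_ts, F.comm_z]
  obtain ⟨g, h | h⟩ := exists_nf F (Or.inl rfl) h1 h2
  · exact absurd bad₁ (not_bad F h _)
  replace h : ∀ x ∈ D0, g * F.ψ x * g⁻¹ = F.ψ (θ x) := h
  have h3 : ∀ x ∈ D0, g * g * F.ψ x = F.ψ x * (g * g) := fun x hx =>
    mul_inv_eq_iff_eq_mul.mp (conj_mul_of (h x hx)
      ((h _ (θ_mem x hx).1).trans (congrArg F.ψ (θ_mem x hx).2)))
  obtain ⟨d, hd, e⟩ := exists_D0 F (h3 _ n5) (h3 _ n6)
  rcases sq_fix d hd (F.comm_of (e ▸ h3 _ n3)) (F.comm_of (e ▸ h3 _ n4))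
    (F.inj ((h d hd).symm.trans (by rw [e]; group))) with rfl | rfl
  · exact ⟨g, e.symm.trans (map_one _), h⟩
  · refine ⟨g * F.ψ t, ?_, fun x hx => conj_mul_of (conj_eq_of_comm (F.comm_z x).symm) (h x hx)⟩
    have h4 := h t n5
    rw [n7] at h4
    calc _ = g * F.ψ t * g⁻¹ * (g * g) * F.ψ t := by group
      _ = 1 := by
        rw [h4, ← e, ψ_ts, ← mul_assoc, F.comm_z, mul_assoc (F.ψ t), F.sq n2, mul_one, F.sq n1]

theorem not_conj_ts : ¬ IsConj (F.ψ t) (F.ψ ts) := fun h => by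
  obtain ⟨-, n1, -, n2, -, -, -, -, -, -, -, -, -, -, -, -, n5, n6, n7, n8, -⟩ := named
  obtain ⟨g, h1, h2 | h2⟩ := swap F (Or.inr rfl) h
  · refine no_cycle F (conj_inv_of h2) ?_
    have : F.ψ sg = F.ψ t * F.ψ ts := by rw [ψ_ts, ← mul_assoc, F.sq n1, one_mul]
    rw [this, ← conj_mul, conj_inv_of h1, conj_inv_of h2, ψ_ts, F.comm_z]
  · obtain ⟨k, -, hk⟩ := exists_g F hs
    have h3 := hk t n5
    have h4 := hk sg n6
    rw [n7] at h3
    rw [n8] at h4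
    refine no_cycle F (conj_mul_of h3 ?_) (conj_mul_of h4 h1)
    have : F.ψ sg = F.ψ t * F.ψ ts := by rw [ψ_ts, ← mul_assoc, F.sq n1, one_mul]
    rw [this, ← conj_mul, h1, h2, F.comm_z]

theorem conj_Z {x : P4} (h : Z x) : IsConj (F.ψ t) (F.ψ x) :=
  (Z_conj x h).elim (fun h => by rw [h]) fun h => hs.trans (F.isConj h)

theorem conj_UT {x : P4} (h : U x ∨ T x) : IsConj (F.ψ ts) (F.ψ x) := by
  refine h.elim (fun h => ?_) fun h => F.isConj (T_conj x h).2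
  obtain ⟨g, -, hg⟩ := exists_g F hs
  obtain ⟨-, -, -, -, -, -, -, -, n1, -, -, -, -, -, -, -, n2, -, -, -, -, n3, -⟩ := named
  exact ((F.isConj (T_conj _ n3).2).trans
    (isConj_iff.mpr ⟨g, hg _ (mul_mem n2 n1)⟩).symm).trans (F.isConj (U_conj x h))

theorem Z_of {x : P4} (h : IsConj (F.ψ t) (F.ψ x)) : Z x := by
  rcases invol x (F.sq_of (sq_of_isConj (F.sq named.2.1) h)) with h1 | h1 | h1
  · rw [h1, map_one, isConj_one_left] at h
    exact absurd h (F.ne_one named.2.2.1)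
  · exact h1
  · exact absurd (h.trans (conj_UT F hs h1).symm) (not_conj_ts F hs)

theorem UT_of {x : P4} (h : IsConj (F.ψ ts) (F.ψ x)) : U x ∨ T x := by
  rcases invol x (F.sq_of (sq_of_isConj (F.sq named.2.2.2.2.1) h)) with h1 | h1 | h1
  · rw [h1, map_one, isConj_one_left] at h
    exact absurd h (F.ne_one named.2.2.2.2.2.1)
  · exact absurd ((conj_Z F hs h1).trans h.symm) (not_conj_ts F hs)
  · exact h1

theorem exists_U {x : P4} (hx : x = p1 ∨ x = p2 ∨ x = p3) : ∃ F' : Frm t G, ∃ q, U q ∧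
    F'.ψ t = F.ψ x ∧ F'.ψ q = F.ψ ts ∧ ∀ y, IsConj (F.ψ y) (F'.ψ y) := by
  obtain ⟨h1, h2, h3⟩ := p_spec.2.2.2.2.2 x hx
  obtain ⟨F', e, hF⟩ := F.exists_of (conj_Z F hs h2)
  obtain ⟨q, hq⟩ := F'.cent (F.ψ ts) (e ▸ (comm_ts F h1).symm)
  refine ⟨F', q, (UT_of F hs (hq ▸ (hF q).symm)).resolve_right fun h => ?_, e, hq, hF⟩
  have := (conj_Z F hs (T_conj q h).1).trans (hF _)
  rw [map_mul, e, hq, ← map_mul] at this
  exact not_conj_ts F hs (this.trans (conj_UT F hs h3).symm)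

theorem not_swap {y : G} (h1 : IsConj (F.ψ t) y) (h2 : y * F.ψ ts = F.ψ ts * y) :
    y * F.ψ t * y⁻¹ ≠ F.ψ sg := fun h3 => by
  obtain ⟨-, n1, -, n2, -, -, n3, -⟩ := named
  have hy := sq_of_isConj (F.sq n1) h1
  have hi : y⁻¹ = y := inv_eq_of_mul_eq_one_left hy
  have h4 : y * F.ψ sg * y⁻¹ = F.ψ t := by
    have := conj_inv_of h3
    rw [inv_inv, hi] at this
    rwa [hi]
  have key : ∀ x, x = p1 ∨ x = p2 ∨ x = p3 → y * F.ψ x * y⁻¹ ≠ F.ψ x := fun x hx h => by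
    obtain ⟨F', q, hq, e1, e2, hF⟩ := exists_U F hs hx
    obtain ⟨a, ha⟩ := F'.cent y (e1 ▸ mul_inv_eq_iff_eq_mul.mp h)
    obtain ⟨b, hb⟩ := F'.cent (F.ψ t) (e1 ▸ (F.comm_z x).symm)
    have := F'.comm (U_comm q hq a (Z_of F hs (h1.trans (ha ▸ (hF a).symm)))
      (F'.comm_of (by rw [ha, e2, h2])) b (Z_of F hs (hb ▸ (hF b).symm))
      (F'.comm_of (by rw [hb, e2, F.comm_z])))
    rw [ha, hb] at this
    exact n3 (F.inj (h3.symm.trans (conj_eq_of_comm this)))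
  obtain ⟨-, q1, q2, q3, q4, hp⟩ := p_spec
  obtain ⟨a1, a2, a3⟩ := hp p1 (Or.inl rfl)
  obtain ⟨d, hd, e⟩ := exists_D0 F (y := y * F.ψ p1 * y⁻¹)
    (h4 ▸ conj_comm y (F.comm ((mem_D0 _).mp a1))) (h3 ▸ conj_comm y (F.comm_z _))
  have h5 := conj_eq_of_comm h2
  have h6 : y * F.ψ d * y⁻¹ = F.ψ p1 := by
    rw [e, hi]
    calc _ = y * y * F.ψ p1 * (y * y) := by group
      _ = _ := by rw [hy, one_mul, mul_one]
  rcases (D0_Z d hd (Z_of F hs ((conj_Z F hs a2).trans (isConj_iff.mpr ⟨y, e.symm⟩)))).2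
    (fun h => not_conj_ts F hs ((conj_Z F hs h).trans ((conj_UT F hs a3).trans
      (isConj_iff.mpr ⟨y, by rw [map_mul, map_mul, e, ← conj_mul, h5]⟩)).symm)) with rfl | rfl | rfl
  · exact key _ (Or.inl rfl) e.symm
  · refine key p3 (Or.inr (Or.inr rfl)) ?_
    conv_lhs => rw [q1]
    conv_rhs => rw [q2]
    simp only [map_mul, ← conj_mul, ← e, h5, h6]
  · refine key p2 (Or.inr (Or.inl rfl)) ?_
    conv_lhs => rw [q3]
    conv_rhs => rw [q4]
    simp only [map_mul, ← conj_mul, ← e, h5, h6]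

theorem eq_of_comm {c : G} (hc : c * F.ψ ts = F.ψ ts * c)
    (h : c * F.ψ t * c⁻¹ * F.ψ t = F.ψ t * (c * F.ψ t * c⁻¹)) :
    c * F.ψ t * c⁻¹ = F.ψ t ∨ c * F.ψ t * c⁻¹ = F.ψ sg := by
  have h5 := conj_eq_of_comm hc
  obtain ⟨d, hd, e⟩ := exists_D0 F h (comm_sg F h (h5 ▸ conj_comm c (F.comm_z _).symm))
  rw [← e]
  refine ((D0_Z d hd (Z_of F hs (isConj_iff.mpr ⟨c, e.symm⟩))).1 (Z_of F hs (hs.trans
    (isConj_iff.mpr ⟨c, ?_⟩)))).imp (congrArg F.ψ) (congrArg F.ψ)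
  rw [map_mul, e, ← h5, conj_mul, ψ_ts, ← mul_assoc (F.ψ t), F.sq named.2.1, one_mul]

variable [Finite G]

theorem core_eq_bot : pPrimeCore 2 (centralizer ({F.ψ ts} : Set G)) = ⊥ := by
  have hone : ∀ o ∈ pPrimeCore 2 (centralizer ({F.ψ ts} : Set G)), o ^ 4 = 1 → o = 1 :=
    fun o ho h => orderOf_eq_one_iff.mp (Nat.eq_one_of_dvd_coprimes
      ((L0.card_pPrimeCore_coprime (p := 2)).pow_right 2) (Subgroup.orderOf_dvd_natCard _ ho)
      (orderOf_dvd_of_pow_eq_one h))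
  obtain ⟨q0, -, -, -, -, hp⟩ := p_spec
  have key : ∀ x, (hx : x = p1 ∨ x = p2 ∨ x = p3) →
      ∀ o ∈ pPrimeCore 2 (centralizer ({F.ψ ts} : Set G)),
      F.ψ x * o * (F.ψ x)⁻¹ = (o : G)⁻¹ := fun x hx o ho => by
    obtain ⟨F', q, hq, e1, e2, -⟩ := exists_U F hs hx
    refine congrArg Subtype.val (inverts_of_fpf _
      (v := ⟨F.ψ x, mem_centralizer_singleton_iff.mpr (comm_ts F (hp x hx).1)⟩)
      (Subtype.ext (show F.ψ x * F.ψ x = 1 from e1 ▸ F'.sq named.2.1)) (fun o ho h => hone o ho (Subtype.ext ?_)) ho)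
    obtain ⟨a, ha⟩ := F'.cent o (e1 ▸ congrArg Subtype.val h)
    change (o : G) ^ 4 = 1
    rw [← ha, ← map_pow, U_cent q hq a (F'.comm_of (by
      rw [ha, e2]; exact mem_centralizer_singleton_iff.mp o.2)), map_one]
  refine (eq_bot_iff_forall _).mpr fun o ho => hone o ho (Subtype.ext ?_)
  have e1 := conj_mul_of (conj_mul_of (key _ (Or.inr (Or.inr rfl)) o ho)
    (key _ (Or.inr (Or.inl rfl)) _ (inv_mem ho))) (key _ (Or.inl rfl) _ (inv_mem (inv_mem ho)))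
  rw [← mul_assoc, ← map_mul, ← map_mul, q0,
    conj_eq_of_comm (mem_centralizer_singleton_iff.mp o.2).symm, inv_inv] at e1
  change (o : G) ^ 4 = 1
  rw [show 4 = 2 * 2 from rfl, pow_mul, pow_two (o : G), mul_eq_one_iff_eq_inv.mpr e1, one_pow]

theorem conj_t {c : G} (hc : c * F.ψ ts = F.ψ ts * c) :
    c * F.ψ t * c⁻¹ = F.ψ t ∨ c * F.ψ t * c⁻¹ = F.ψ sg := by
  obtain ⟨-, n1, -, n2, n3, -⟩ := named
  let u : centralizer ({F.ψ ts} : Set G) := ⟨F.ψ ts, mem_centralizer_singleton_iff.mpr rfl⟩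
  let s : centralizer ({F.ψ ts} : Set G) :=
    ⟨F.ψ t, mem_centralizer_singleton_iff.mpr (F.comm_z _).symm⟩
  have hu : u * u = 1 := Subtype.ext (F.sq n3)
  have hs2 : s * s = 1 := Subtype.ext (F.sq n1)
  have hZ : zpowers u ≤ center _ := zpowers_le.mpr (mem_center_iff.mpr fun g =>
    Subtype.ext (mem_centralizer_singleton_iff.mp g.2))
  have : (zpowers u).Normal := ⟨fun n hn g => by
    rwa [mem_center_iff.mp (hZ hn) g, mul_inv_cancel_right]⟩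
  have hiso : H7.Isolated (QuotientGroup.mk' (zpowers u) s) := by
    refine H7.Isolated.of_commute (by rw [← map_mul, hs2, map_one]) fun g hg => ?_
    obtain ⟨g, rfl⟩ := QuotientGroup.mk'_surjective _ g
    have hg2 := mem_centralizer_singleton_iff.mp g.2
    rw [← map_inv, ← map_mul, ← map_mul] at hg ⊢
    have h1 := hg.eq
    rw [← map_mul, ← map_mul, QuotientGroup.mk'_eq_mk'] at h1
    obtain ⟨n, hn, h1⟩ := h1
    have h2 : F.ψ t * (g * F.ψ t * (g : G)⁻¹) * n = g * F.ψ t * (g : G)⁻¹ * F.ψ t :=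
      congrArg Subtype.val h1
    rcases (H9.mem_zpowers_of_mul_self hu).mp hn with rfl | rfl
    · rcases eq_of_comm F hs hg2 (by simpa using h2.symm) with h | h
      · exact congrArg _ (Subtype.ext h)
      · refine (QuotientGroup.mk'_eq_mk' _).mpr ⟨u, mem_zpowers u, Subtype.ext ?_⟩
        change g * F.ψ t * (g : G)⁻¹ * F.ψ ts = F.ψ t
        rw [h, ψ_ts, ← mul_assoc, F.comm_z, mul_assoc, F.sq n2, mul_one]
    · have h3 : g * F.ψ t * (g : G)⁻¹ * F.ψ ts = F.ψ ts * (g * F.ψ t * (g : G)⁻¹) :=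
        mem_centralizer_singleton_iff.mp (g * s * g⁻¹).2
      refine absurd ?_ (not_swap F hs (isConj_iff.mpr ⟨g, rfl⟩) h3)
      rw [← h2, mul_assoc (F.ψ t), h3, mul_inv_eq_iff_eq_mul, ← mul_assoc, mul_left_inj,
        ψ_ts, ← mul_assoc (F.ψ t), F.sq n1, one_mul]
  let c' : centralizer ({F.ψ ts} : Set G) := ⟨c, mem_centralizer_singleton_iff.mpr hc⟩
  have h1 := hiso.commutator_mem (QuotientGroup.mk' _ c')
  have h2 := hiso.2 (QuotientGroup.mk' _ c')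
  rw [hiso.commutator_eq] at h1
  rw [← map_inv, ← map_mul, ← map_mul, ← map_mul] at h1 h2
  generalize hx : s * (c' * s * c'⁻¹) = x at h1 h2
  have h3 : (x * x) ^ orderOf (QuotientGroup.mk' (zpowers u) x) = 1 := by
    have := pow_orderOf_eq_one (QuotientGroup.mk' (zpowers u) x)
    rw [← map_pow, QuotientGroup.mk'_apply, QuotientGroup.eq_one_iff] at this
    rw [(Commute.refl x).mul_pow]
    rcases (H9.mem_zpowers_of_mul_self hu).mp this with h | h <;> rw [h]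
    exacts [mul_one 1, hu]
  have h4 := H7.mem_pPrimeCore_of_central_quotient
    (H9.isPGroup_zpowers ⟨1, by rw [pow_one, pow_two, hu]⟩) hZ
    (Nat.coprime_two_right.mpr (h2.of_dvd_nat (orderOf_dvd_of_pow_eq_one h3)))
    (by rw [map_mul]; exact mul_mem h1 h1)
  rw [core_eq_bot F hs, mem_bot, ← hx] at h4
  have h5 : F.ψ t * (c * F.ψ t * c⁻¹) * (F.ψ t * (c * F.ψ t * c⁻¹)) = 1 := congrArg Subtype.val h4
  refine eq_of_comm F hs hc ?_
  rw [mul_eq_one_iff_eq_inv.mp h5, mul_inv_rev, inv_eq_of_mul_eq_one_left (F.sq n1),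
    inv_eq_of_mul_eq_one_left (sq_of_isConj (F.sq n1) (isConj_iff.mpr ⟨c, rfl⟩))]

theorem two_classes {x : G} (hx : orderOf x = 2) : IsConj x (F.ψ t) ∨ IsConj x (F.ψ ts) := by
  obtain ⟨y, hy⟩ := F.exists_isConj isPGroup_P0 t_mem_P0 central hx
  have h1 : orderOf (F.ψ y) = 2 := (H6.orderOf_eq_of_isConj hy).trans hx
  rcases invol y (F.sq_of (H9.mul_self_of_orderOf_two h1)) with h | h | h
  · exact absurd h (F.ne_one_of (H9.ne_one_of_orderOf_two h1))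
  · exact Or.inl (hy.symm.trans (conj_Z F hs h).symm)
  · exact Or.inr (hy.symm.trans (conj_UT F hs h).symm)

variable {g : G} (hg2 : g * g = 1) (hg : ∀ x ∈ D0, g * F.ψ x * g⁻¹ = F.ψ (θ x))
include hg2 hg

omit hs [Finite G] hg2 in
theorem coset_conj {d : P4} (hd : d ∈ D0) : F.ψ d * g * F.ψ t * (F.ψ d * g)⁻¹ = F.ψ sg ∧
    F.ψ d * g * F.ψ ts = F.ψ ts * (F.ψ d * g) := by
  obtain ⟨-, -, -, -, -, -, -, -, -, -, -, -, -, -, -, -, n5, n6, n7, -, n9, -⟩ := named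
  exact ⟨conj_mul_of ((hg t n5).trans (congrArg F.ψ n7)) (conj_eq_of_comm (F.comm ((mem_D0 d).mp hd))),
    mul_inv_eq_iff_eq_mul.mp (conj_mul_of ((hg ts (named.1 ▸ mul_mem n5 n6)).trans
      (congrArg F.ψ n9)) (conj_eq_of_comm (comm_ts F hd)))⟩

omit hs [Finite G] hg2 in
theorem coset_ne {d : P4} (hd : d ∈ D0) (x : P4) : F.ψ d * g ≠ F.ψ x := fun h =>
  named.2.2.2.2.2.2.1 (F.inj ((coset_conj F hg hd).1.symm.trans
    (h ▸ conj_eq_of_comm (F.comm_z x))))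

omit hs [Finite G] in
theorem coset_sq {d : P4} (hd : d ∈ D0) : F.ψ d * g * (F.ψ d * g) = F.ψ (d * θ d) := by
  rw [map_mul, ← hg d hd, inv_eq_of_mul_eq_one_left hg2]; group

theorem cent_cases {c : G} (hc : c * F.ψ ts = F.ψ ts * c) :
    ∃ d ∈ D0, F.ψ d = c ∨ F.ψ d * g = c := by
  rcases conj_t F hs hc with h | h
  · rw [mul_inv_eq_iff_eq_mul] at h
    obtain ⟨d, hd, e⟩ := exists_D0 F h (comm_sg F h hc)
    exact ⟨d, hd, Or.inl e⟩
  · obtain ⟨h1, h2⟩ := coset_conj F hg (one_mem D0)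
    rw [map_one, one_mul] at h1 h2
    have h3 : c * g * F.ψ t = F.ψ t * (c * g) := mul_inv_eq_iff_eq_mul.mp (conj_mul_of h1 (by
      have : F.ψ sg = F.ψ t * F.ψ ts := by rw [ψ_ts, ← mul_assoc, F.sq named.2.1, one_mul]
      rw [this, ← conj_mul, h, conj_eq_of_comm hc, ψ_ts, ← mul_assoc, F.comm_z, mul_assoc,
        F.sq named.2.2.2.1, mul_one]))
    obtain ⟨d, hd, e⟩ := exists_D0 F h3 (comm_sg F h3 (by
      rw [mul_assoc, h2, ← mul_assoc, hc, mul_assoc]))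
    exact ⟨d, hd, Or.inr (by rw [e, mul_assoc, hg2, mul_one])⟩

theorem card_cent : Nat.card (centralizer ({F.ψ ts} : Set G)) = 96 := by
  have e : (centralizer ({F.ψ ts} : Set G) : Set G) =
      F.ψ '' D0 ∪ (fun d => F.ψ d * g) '' D0 := by
    ext c
    rw [SetLike.mem_coe, mem_centralizer_singleton_iff]
    refine ⟨fun h => ?_, ?_⟩
    · obtain ⟨d, hd, e⟩ := cent_cases F hs hg2 hg h
      exact e.imp (fun e => ⟨d, hd, e⟩) fun e => ⟨d, hd, e⟩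
    · rintro (⟨d, hd, rfl⟩ | ⟨d, hd, rfl⟩)
      exacts [comm_ts F hd, (coset_conj F hg hd).2]
  rw [← H6.ncard_subgroup, e, Set.ncard_union_eq (Set.disjoint_left.mpr (by
      rintro _ ⟨x, -, rfl⟩ ⟨d, hd, e⟩
      exact coset_ne F hg hd x e)), Set.ncard_image_of_injective _ F.inj,
    Set.ncard_image_of_injective _ fun a b h => F.inj (mul_right_cancel h), H6.ncard_subgroup,
    card_D0]

omit hs hg2 hg in
theorem mem_zpowers_iff' {x y : P4} : F.ψ y ∈ zpowers (F.ψ x) ↔ ∃ k < 12, x ^ k = y := by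
  refine ⟨fun h => ?_, fun ⟨k, _, hk⟩ => hk ▸ map_pow F.ψ x k ▸ pow_mem (mem_zpowers _) k⟩
  obtain ⟨k, hk⟩ := mem_powers_iff_mem_zpowers.mpr h
  refine ⟨k % 12, Nat.mod_lt _ (by norm_num), F.inj ?_⟩
  rw [← pow_eq_pow_mod k (pow_12 _), map_pow]
  exact hk

omit hg2 hg in
theorem ncard_pairs_t : (H5.thompsonPairs (F.ψ t) (F.ψ ts) (F.ψ t)).ncard = 108 := by
  rw [← card_T0, ← Set.ncard_coe_finset, ← Set.ncard_image_of_injective _ (F.inj.prodMap F.inj)]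
  congr 1
  ext ⟨u, v⟩
  simp only [T0, Finset.coe_filter, Finset.mem_product, Finset.mem_filter, Finset.mem_univ,
    true_and, Set.mem_image, Set.mem_ofPred_eq]
  refine ⟨fun ⟨h1, h2, h3⟩ => ?_, ?_⟩
  · obtain ⟨h4, h5⟩ := H5.commute_of_mem_zpowers_mul (sq_of_isConj (F.sq named.2.1) h1)
      (sq_of_isConj (F.sq named.2.2.2.2.1) h2) (F.sq named.2.1) h3
    obtain ⟨x, rfl⟩ := F.cent u h4
    obtain ⟨y, rfl⟩ := F.cent v h5
    exact ⟨(x, y), ⟨⟨Z_of F hs h1, UT_of F hs h2⟩,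
      (mem_zpowers_iff' F).mp (map_mul F.ψ x y ▸ h3)⟩, rfl⟩
  · rintro ⟨⟨x, y⟩, ⟨⟨h1, h2⟩, h3⟩, e⟩
    obtain ⟨rfl, rfl⟩ := Prod.mk.inj e
    exact ⟨conj_Z F hs h1, conj_UT F hs h2, map_mul F.ψ x y ▸ (mem_zpowers_iff' F).mpr h3⟩

set_option linter.constructorNameAsVariable false in
theorem ncard_pairs_ts : (H5.thompsonPairs (F.ψ t) (F.ψ ts) (F.ψ ts)).ncard = 27 := by
  have e : H5.thompsonPairs (F.ψ t) (F.ψ ts) (F.ψ ts) =
      Prod.map F.ψ F.ψ '' T1 ∪ Prod.map F.ψ (fun d => F.ψ d * g) '' T2 := by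
    ext ⟨u, v⟩
    simp only [T1, T2, Finset.coe_filter, Finset.mem_product, Finset.mem_filter, Finset.mem_univ,
      true_and, Set.mem_image, Set.mem_ofPred_eq, Set.mem_union]
    refine ⟨fun ⟨h1, h2, h3⟩ => ?_, ?_⟩
    · have hv := sq_of_isConj (F.sq named.2.2.2.2.1) h2
      obtain ⟨h4, h5⟩ := H5.commute_of_mem_zpowers_mul (sq_of_isConj (F.sq named.2.1) h1)
        hv (F.sq named.2.2.2.2.1) h3
      obtain ⟨x, hx, rfl | rfl⟩ := cent_cases F hs hg2 hg h4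
      swap
      · exact absurd (coset_conj F hg hx).1 (not_swap F hs h1 h4)
      obtain ⟨y, hy, rfl | rfl⟩ := cent_cases F hs hg2 hg h5
      · exact Or.inl ⟨(x, y), ⟨⟨⟨hx, Z_of F hs h1⟩, hy, UT_of F hs h2⟩,
          (mem_zpowers_iff' F).mp (map_mul F.ψ x y ▸ h3)⟩, rfl⟩
      · refine Or.inr ⟨(x, y), ⟨⟨⟨hx, Z_of F hs h1⟩, hy,
          F.inj ((coset_sq F hg2 hg hy).symm.trans (hv.trans (map_one _).symm))⟩,
          (mem_zpowers_iff' F).mp ?_⟩, rfl⟩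
        obtain ⟨k, hk⟩ := mem_powers_iff_mem_zpowers.mpr h3
        have hk' : (F.ψ (x * y) * g) ^ k = F.ψ ts := by rw [map_mul, mul_assoc]; exact hk
        have hxy := mul_mem hx hy
        rcases Nat.even_or_odd' k with ⟨j, rfl | rfl⟩
        · rw [pow_mul, pow_two, coset_sq F hg2 hg hxy] at hk'
          exact hk' ▸ pow_mem (mem_zpowers _) j
        · rw [pow_succ, pow_mul, pow_two, coset_sq F hg2 hg hxy, ← map_pow, ← mul_assoc,
            ← map_mul] at hk'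
          exact absurd hk' (coset_ne F hg (mul_mem (pow_mem (mul_mem hxy (θ_mem _ hxy).1) j) hxy) _)
    · rintro (⟨⟨x, y⟩, ⟨⟨⟨-, h1⟩, -, h2⟩, h3⟩, e⟩ | ⟨⟨x, y⟩, ⟨⟨⟨hx, h1⟩, hy, h2⟩, h3⟩, e⟩) <;>
        obtain ⟨rfl, rfl⟩ := Prod.mk.inj e
      · exact ⟨conj_Z F hs h1, conj_UT F hs h2, map_mul F.ψ x y ▸ (mem_zpowers_iff' F).mpr h3⟩
      · refine ⟨conj_Z F hs h1, ?_, ?_⟩
        · refine ((two_classes F hs (H9.orderOf_two_of (map_one F.ψ ▸ coset_ne F hg hy 1)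
            ((coset_sq F hg2 hg hy).trans (by rw [h2, map_one])))).resolve_left fun h => ?_).symm
          exact not_swap F hs h.symm (coset_conj F hg hy).2 (coset_conj F hg hy).1
        · have := (mem_zpowers_iff' F).mpr h3
          rw [← coset_sq F hg2 hg (mul_mem hx hy), map_mul, mul_assoc (F.ψ x)] at this
          exact zpowers_le.mpr (mul_mem (mem_zpowers _) (mem_zpowers _)) this
  rw [e, Set.ncard_union_eq (Set.disjoint_left.mpr (by
      rintro _ ⟨x, -, rfl⟩ ⟨d, hd, e⟩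
      simp only [T2, Finset.coe_filter, Finset.mem_product, Finset.mem_filter] at hd
      exact coset_ne F hg hd.1.2.2.1 _ (congrArg Prod.snd e))),
    Set.ncard_image_of_injective _ (F.inj.prodMap F.inj),
    Set.ncard_image_of_injective _ (F.inj.prodMap fun a b h => F.inj (mul_right_cancel h)),
    Set.ncard_coe_finset, Set.ncard_coe_finset, card_T1, card_T2]

omit hg2 hg in
theorem card_eq : Nat.card G = 25920 := by
  obtain ⟨g, hg2, hg⟩ := exists_g F hs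
  rw [H5.thompson_order_formula (H9.orderOf_two_of (F.ne_one named.2.2.1) (F.sq named.2.1))
    (H9.orderOf_two_of (F.ne_one named.2.2.2.2.2.1) (F.sq named.2.2.2.2.1))
    (not_conj_ts F hs) fun x hx => two_classes F hs hx, ncard_pairs_t F hs,
    ncard_pairs_ts F hs hg2 hg, card_cent F hs hg2 hg, F.card_centralizer, P4.card]

end Jan

end Cfsg.Agent.H3
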