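import Cfsg.Agent.H3.Jan2

/-!
# Recognition of the symplectic group over three elements
-/

set_option autoImplicit false

namespace Cfsg.Agent.H3

open Subgroup P4 Equiv

namespace P4

/-- Named elements. -/
def x0 : P4 := mk 400
/-- The stabiliser of a point at distance two. -/
def Y0 : Subgroup P4 := sub 0x10101000000000000000000010101000000000000000000010101000000000000000000010101000000000000000000010101000000000000000000010101 (by decide +kernel)
/-- The intersection of `Y0` and `D0`. -/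
def B (x : P4) : Prop := msk 0x10000000000000000000000000100000000000000000000000001000000000000000000010000000000000000000000000100000000000000000000000001 x

instance (x : P4) : Decidable (x ∈ Y0) := inferInstanceAs (Decidable (msk _ x))
instance : DecidablePred B := fun _ => inferInstanceAs (Decidable (msk _ _))

/-- Labels of the points. -/
@[irreducible] def el (i : Fin 45) : P4 := mk ((0x4f1384d1304b12849120370d8350d0330c8310c01f0781d0701b06819060070180501003008010023387e057a1dd70daf6416f5553b48001 >>> (10 * i.val)) % 1024)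
/-- The action of the extra generator. -/
@[irreducible] def gam (i : Fin 45) : Fin 45 := Fin.ofNat 45 ((0xc1a3a5a811764a8a1e76d39597e870b20f55279499058916c62239786b343102001 >>> (6 * i.val)) % 64)
/-- Witnesses. -/
@[irreducible] def w1 (i : Fin 45) : Fin 45 := Fin.ofNat 45 ((0xe34e35760e34000e3585ce34e3400218976185e1880000000000000000000000 >>> (6 * i.val)) % 64)
/-- Witnesses. -/
@[irreducible] def w2 (i : Fin 45) : Fin 45 := Fin.ofNat 45 ((0x176218a285760002bb2bb218abb0002cae286bb2cac0000000000000000000000 >>> (6 * i.val)) % 64)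
/-- Witnesses. -/
@[irreducible] def wx (i : Fin 45) : Fin 45 := Fin.ofNat 45 ((0xb2c924c30924000a28b2cc30924000a28b2ca28c300000000000000000000000 >>> (6 * i.val)) % 64)

/-- The action of the centraliser on the points. -/
def Rl (h : P4) (i j : Fin 45) : Prop :=
  if i ≤ 12 then j ≤ 12 ∧ h * el i * h⁻¹ = el j else 12 < j ∧ (el j)⁻¹ * (h * el i) ∈ Y0

/-- Adjacency. -/
def E1 (x j : Fin 45) : Prop := (el j)⁻¹ * (el x * el j) ∈ Y0

/-- Adjacency. -/
def E2 (i k : Fin 45) : Prop :=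
  ∃ y ∈ [1, mk 8, mk 16], ∃ v ∈ [u1, u2, u3], (el k)⁻¹ * (el i * y * v) ∈ Y0

instance (h : P4) (i j : Fin 45) : Decidable (Rl h i j) := by unfold Rl; infer_instance
instance (i j : Fin 45) : Decidable (E1 i j) := by unfold E1; infer_instance
instance (i j : Fin 45) : Decidable (E2 i j) := by unfold E2; infer_instance

/-- Words. -/
def wd (h : P4) (l : List P4) : P4 := l.foldr (fun b x => h * b * x) 1

/-- Words. -/
def wl : List (List P4) := [[mk 0, mk 288, mk 0, mk 0], [mk 0, mk 0, mk 0], [mk 392, mk 392, mk 0], [mk 392, mk 104, mk 392, mk 0], [mk 0, mk 496, mk 0, mk 0], [mk 208, mk 496, mk 208, mk 0]]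

theorem wl_spec : ∀ h, h ∉ Y0 → ∃ l ∈ wl, wd h l ∈ D0 ∧ ¬ B (wd h l) := by decide +kernel
theorem wl_mem : ∀ l ∈ wl, ∀ b ∈ l, b ∈ D0 ∧ B b := by decide +kernel
theorem B_iff : ∀ d ∈ D0, θ d * x0 = x0 * θ d ↔ B d := by decide +kernel
theorem card_Y0 : Nat.card Y0 = 18 := (card_sub _ _).trans (by decide +kernel)
theorem card_Z : (Finset.univ.filter Z).card = 13 := by decide +kernel
theorem x0_spec : Z x0 ∧ x0 * sg ≠ sg * x0 ∧ (sg * x0) ^ 3 = 1 ∧ el 0 = t ∧ el 1 = sg ∧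
    (∀ y ∈ [1, mk 8, mk 16], y ∈ Y0) ∧ ∀ v ∈ [u1, u2, u3], v ∈ D0 ∧
      x0 * (θ v * x0 * (θ v)⁻¹) = θ v * x0 * (θ v)⁻¹ * x0 := by decide +kernel
theorem el_Z : ∀ i ≤ 12, Z (el i) := by decide +kernel
theorem Rl_one : ∀ i j, Rl 1 i j → i = j := by decide +kernel
theorem Rl_faithful : ∀ h, (∀ i, Rl h i i) → h = 1 := by decide +kernel
theorem gam_near : ∀ i ≤ 12, (el i ∈ D0 ∧ gam i ≤ 12 ∧ el (gam i) = θ (el i)) ∨
    (12 < gam i ∧ ∃ d ∈ D0, d * x0 * d⁻¹ = el i ∧ (el (gam i))⁻¹ * θ d ∈ Y0) := by decide +kernel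
theorem gam_gam : ∀ i, gam (gam i) = i := by decide +kernel
set_option synthInstance.maxSize 2000 in
theorem gam_far : ∀ i, 12 < i → 12 < gam i → (12 < w1 i ∧ gam (w1 i) ≤ 12 ∧ E2 i (w1 i)) ∧
    (12 < w2 i ∧ gam (w2 i) ≤ 12 ∧ E2 i (w2 i)) ∧ (wx i ≤ 12 ∧ 12 < gam (wx i) ∧ E1 (wx i) i) ∧
    E2 (gam i) (gam (wx i)) ∧ ¬ E1 1 i ∧ ∀ j, 12 < j → E1 (gam (w1 i)) j → E1 (gam (w2 i)) j →
      j = gam i ∨ Rl t (gam i) j := by decide +kernel
theorem Q0_invol : ∀ x ∈ Q0, x * x = 1 → x = 1 ∨ x = t ∨ U x := by decide +kernel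
theorem idx_Q0 : Q0.relIndex P0 = 2 := relIndex_eq_two_iff.mpr ⟨sg, by decide +kernel⟩
theorem card_P0 : Nat.card P0 = 64 := (card_sub _ _).trans (by decide +kernel)
theorem not_conj_sg : ∀ h, h * sg * h⁻¹ ∉ Q0 := by decide +kernel

/-- The permutation group. -/
def W : Subgroup (Perm (Fin 45)) :=
  closure ({p | ∃ h, ∀ i j, p i = j ↔ Rl h i j} ∪ {p | ∀ i, p i = gam i})

/-- An automorphism interchanging `sg` and `ts`. -/
def tw : P4 ≃* P4 :=
  have h : ∀ x : P4, x * t ^ cS x.v * t ^ cS (x * t ^ cS x.v).v = x := by decide +kernel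
  { toFun := fun x => x * t ^ cS x.v
    invFun := fun x => x * t ^ cS x.v
    left_inv := h
    right_inv := h
    map_mul' := fun x y => by
      rw [cS_mul, ← pow_eq_pow_mod _ (by decide +kernel : t ^ 2 = 1), pow_add, mul_assoc, mul_assoc,
        ← mul_assoc y, ((show Commute y t from t_comm y).pow_right _).eq, mul_assoc] }

theorem tw_spec : tw t = t ∧ tw sg = ts := by decide +kernel

end P4

variable {G : Type*} [Group G]

theorem exists_permHom {ι : Type*} (f : ι → G) (hf : Function.Injective f)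
    (h : ∀ x i, ∃ j, f j = x * f i * x⁻¹) :
    ∃ φ : G →* Perm ι, ∀ x i j, φ x i = j ↔ x * f i * x⁻¹ = f j := by
  choose a ha using h
  refine ⟨MonoidHom.toHomPerm (⟨⟨a, funext fun i => hf (by rw [ha, one_mul, inv_one, mul_one]; rfl)⟩, fun x y => funext fun i =>
    hf ?_⟩ : G →* Function.End ι), fun x i j => ?_⟩
  · change f (a (x * y) i) = f (a x (a y i))
    rw [ha, ha, ha]; group
  · rw [← ha, hf.eq_iff]; rfl

namespace Jan

variable (F : Frm t G) (g : G)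

/-- A point at distance two. -/
def w0 : G := g * F.ψ x0 * g⁻¹

/-- The points. -/
def pnt (i : Fin 45) : G :=
  if i ≤ 12 then F.ψ (el i) else F.ψ (el i) * w0 F g * (F.ψ (el i))⁻¹

theorem pnt_le {i : Fin 45} (h : i ≤ 12) : pnt F g i = F.ψ (el i) := if_pos h

theorem pnt_gt {i : Fin 45} (h : 12 < i) :
    pnt F g i = F.ψ (el i) * w0 F g * (F.ψ (el i))⁻¹ := if_neg h.not_ge

variable {g} (hs : IsConj (F.ψ t) (F.ψ sg)) (hg2 : g * g = 1)
  (hg : ∀ x ∈ D0, g * F.ψ x * g⁻¹ = F.ψ (θ x))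

include hs in
theorem isConj_pnt (i : Fin 45) : IsConj (F.ψ t) (pnt F g i) := by
  rcases le_or_gt i 12 with h | h
  · rw [pnt_le F g h]; exact conj_Z F hs (el_Z i h)
  · rw [pnt_gt F g h]
    exact ((conj_Z F hs x0_spec.1).trans (isConj_iff.mpr ⟨g, rfl⟩)).trans (isConj_iff.mpr ⟨_, rfl⟩)

include hg

theorem g_sg : g * F.ψ sg * g⁻¹ = F.ψ t := by
  obtain ⟨-, -, -, -, -, -, -, -, -, -, -, -, -, -, -, -, -, n6, -, n8, -⟩ := named
  rw [hg sg n6, n8]

theorem g_t : g * F.ψ t * g⁻¹ = F.ψ sg := by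
  obtain ⟨-, -, -, -, -, -, -, -, -, -, -, -, -, -, -, -, n6, -, n8, -⟩ := named
  rw [hg t n6, n8]

theorem not_comm (h : P4) : F.ψ h * w0 F g * (F.ψ h)⁻¹ * F.ψ t ≠
    F.ψ t * (F.ψ h * w0 F g * (F.ψ h)⁻¹) := fun e => by
  have e1 := conj_comm (F.ψ h)⁻¹ e
  rw [conj_inv_of rfl, conj_inv_of (conj_eq_of_comm (F.comm_z h)), ← g_sg F hg] at e1
  exact x0_spec.2.1 ((F.conj g).comm_of e1)

theorem comm_t_iff {i : Fin 45} : pnt F g i * F.ψ t = F.ψ t * pnt F g i ↔ i ≤ 12 := by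
  rcases le_or_gt i 12 with h | h
  · rw [pnt_le F g h]; exact iff_of_true (F.comm_z _) h
  · rw [pnt_gt F g h]; exact iff_of_false (not_comm F hg _) h.not_ge

theorem cube {i : Fin 45} (h : 12 < i) : (F.ψ t * pnt F g i) ^ 3 = 1 := by
  have : (F.ψ t * w0 F g) ^ 3 = 1 := by
    rw [← g_sg F hg, w0, conj_mul, conj_pow, ← map_mul, ← map_pow, x0_spec.2.2.1]; simp
  rw [pnt_gt F g h, ← conj_eq_of_comm (F.comm_z (el i)), conj_mul, conj_pow, this]; simp

variable [Finite G]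
include hs

omit hg in
theorem ncard_cl : (H6.cl (F.ψ t)).ncard = 45 := by
  have := H6.ncard_cl_mul_card_centralizer (F.ψ t)
  rw [F.card_centralizer, P4.card, card_eq F hs] at this
  omega

theorem comm_w0 {h : P4} : F.ψ h * w0 F g = w0 F g * F.ψ h ↔ h ∈ Y0 := by
  have hD : ∀ d ∈ D0, d ∈ (centralizer {w0 F g}).comap F.ψ ↔ B d := fun d hd => by
    rw [mem_comap, mem_centralizer_singleton_iff, ← B_iff d hd]
    conv_lhs => rw [← (θ_mem d hd).2, ← hg _ (θ_mem d hd).1]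
    exact ⟨(F.conj g).comm_of, (F.conj g).comm⟩
  have h1 : (centralizer {w0 F g}).comap F.ψ ≤ Y0 := fun h hh => by
    by_contra hn
    obtain ⟨l, hl, h2, h3⟩ := wl_spec h hn
    refine h3 ((hD _ h2).mp ?_)
    have h4 := wl_mem l hl
    clear h2 h3 hl
    induction l with
    | nil => exact one_mem _
    | cons b l ih =>
      have := h4 b List.mem_cons_self
      exact mul_mem (mul_mem hh ((hD b this.1).mpr this.2))
        (ih fun c hc => h4 c (List.mem_cons_of_mem _ hc))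
  have h2 := card_eq_orbit_mul F.ψ.range (w0 F g)
  rw [← Nat.card_congr (MonoidHom.ofInjective F.inj).toEquiv, P4.card, ← map_comap_eq,
    card_map_of_injective F.inj] at h2
  have h3 : {u | ∃ k ∈ F.ψ.range, k * w0 F g * k⁻¹ = u}.ncard ≤ 32 := by
    have h4 : F.ψ '' (Finset.univ.filter Z : Finset P4) ⊆ H6.cl (F.ψ t) := by
      rintro _ ⟨x, hx, rfl⟩
      exact conj_Z F hs (by simpa using hx)
    refine (Set.ncard_le_ncard (t := H6.cl (F.ψ t) \ F.ψ '' (Finset.univ.filter Z : Finset P4))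
      ?_).trans ?_
    · rintro _ ⟨_, ⟨k, rfl⟩, rfl⟩
      refine ⟨((conj_Z F hs x0_spec.1).trans (isConj_iff.mpr ⟨g, rfl⟩)).trans
        (isConj_iff.mpr ⟨_, rfl⟩), fun ⟨x, _, e⟩ => not_comm F hg k (e ▸ F.comm_z x)⟩
    · rw [Set.ncard_sdiff h4, ncard_cl F hs, Set.ncard_image_of_injective _ F.inj,
        Set.ncard_coe_finset, card_Z]
  rw [← eq_of_le_of_card_ge h1 (by rw [card_Y0]; nlinarith), mem_comap,
    mem_centralizer_singleton_iff]

theorem conj_w0 {a b : P4} : F.ψ a * w0 F g * (F.ψ a)⁻¹ = F.ψ b * w0 F g * (F.ψ b)⁻¹ ↔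
    b⁻¹ * a ∈ Y0 := by
  rw [← comm_w0 F hs hg, map_mul, map_inv]
  refine ⟨fun h => ?_, fun h => ?_⟩
  · calc _ = (F.ψ b)⁻¹ * (F.ψ a * w0 F g * (F.ψ a)⁻¹) * F.ψ a := by group
      _ = _ := by rw [h]; group
  · calc _ = F.ψ b * ((F.ψ b)⁻¹ * F.ψ a * w0 F g) * (F.ψ a)⁻¹ := by group
      _ = _ := by rw [h]; group

theorem conj_pnt (h : P4) (i j : Fin 45) :
    F.ψ h * pnt F g i * (F.ψ h)⁻¹ = pnt F g j ↔ Rl h i j := by
  have key : F.ψ h * pnt F g i * (F.ψ h)⁻¹ = pnt F g j → (i ≤ 12 ↔ j ≤ 12) := fun e => by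
    rw [← comm_t_iff F hg, ← comm_t_iff F hg, ← e]
    conv_rhs => rw [← conj_eq_of_comm (F.comm_z h)]
    simp only [conj_mul, mul_left_inj, mul_right_inj]
  rw [Rl]
  split_ifs with hi
  · refine ⟨fun e => ⟨(key e).mp hi, F.inj ?_⟩, fun ⟨hj, e⟩ => ?_⟩
    · have hj := (key e).mp hi
      rwa [pnt_le F g hi, pnt_le F g hj, ← F.map_conj] at e
    · rw [pnt_le F g hi, pnt_le F g hj, ← F.map_conj, e]
  · have e1 : F.ψ h * pnt F g i * (F.ψ h)⁻¹ = F.ψ (h * el i) * w0 F g * (F.ψ (h * el i))⁻¹ := by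
      rw [pnt_gt F g (not_le.mp hi), map_mul]; group
    refine ⟨fun e => ?_, fun ⟨hj, e⟩ => ?_⟩
    · have hj := not_le.mp (mt (key e).mpr hi)
      rw [e1, pnt_gt F g hj, conj_w0 F hs hg] at e
      exact ⟨hj, e⟩
    · rwa [e1, pnt_gt F g hj, conj_w0 F hs hg]

theorem pnt_injective : Function.Injective (pnt F g) := fun i j h =>
  Rl_one i j ((conj_pnt F hs hg 1 i j).mp (by simpa using h))

theorem exists_pnt {u : G} (h : IsConj (F.ψ t) u) : ∃ j, pnt F g j = u := by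
  have : Set.range (pnt F g) = H6.cl (F.ψ t) := Set.eq_of_subset_of_ncard_le
    (by rintro _ ⟨i, rfl⟩; exact isConj_pnt F hs i)
    (by rw [ncard_cl F hs, Set.ncard_range_of_injective (pnt_injective F hs hg)]; simp)
  exact this.ge h

theorem comm_E1 {x j : Fin 45} (hx : x ≤ 12) (hj : 12 < j) :
    pnt F g x * pnt F g j = pnt F g j * pnt F g x ↔ E1 x j := by
  rw [← mul_inv_eq_iff_eq_mul, pnt_le F g hx, conj_pnt F hs hg, Rl, if_neg hj.not_ge]
  exact and_iff_right hj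

theorem comm_E2 {i k : Fin 45} (hi : 12 < i) (hk : 12 < k) (h : E2 i k) :
    pnt F g i * pnt F g k = pnt F g k * pnt F g i := by
  obtain ⟨y, hy, v, hv, h⟩ := h
  obtain ⟨-, -, -, -, -, h1, h2⟩ := x0_spec
  obtain ⟨h3, h4⟩ := h2 v hv
  have h5 := (F.conj g).comm h4
  rw [Frm.map_conj, F.conj_apply g (θ v), hg _ (θ_mem v h3).1, (θ_mem v h3).2] at h5
  have h6 := conj_comm (F.ψ (el i * y)) h5
  have h7 : F.ψ (el i * y) * (F.conj g).ψ x0 * (F.ψ (el i * y))⁻¹ = pnt F g i := by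
    rw [pnt_gt F g hi]
    exact (conj_w0 F hs hg).mpr (by simpa using h1 y hy)
  have h8 : F.ψ (el i * y) * (F.ψ v * (F.conj g).ψ x0 * (F.ψ v)⁻¹) * (F.ψ (el i * y))⁻¹ =
      pnt F g k := by
    rw [pnt_gt F g hk, ← (conj_w0 F hs hg).mpr h, map_mul _ _ v]
    exact (conj_mul_of rfl rfl).symm
  rwa [h7, h8] at h6

include hg2

theorem g_pnt (i : Fin 45) : g * pnt F g i * g⁻¹ = pnt F g (gam i) := by
  have h1 : ∀ i ≤ 12, g * pnt F g i * g⁻¹ = pnt F g (gam i) := fun i hi => by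
    rcases gam_near i hi with ⟨h2, h3, h4⟩ | ⟨h2, d, hd, h3, h4⟩
    · rw [pnt_le F g hi, pnt_le F g h3, h4, hg _ h2]
    · rw [pnt_le F g hi, pnt_gt F g h2, ← h3, ← F.conj_apply, Frm.map_conj, F.conj_apply g d,
        hg d hd]
      exact (conj_w0 F hs hg).mpr h4
  have h2 : ∀ i, gam i ≤ 12 → g * pnt F g i * g⁻¹ = pnt F g (gam i) := fun i hi => by
    have := conj_inv_of (h1 _ hi)
    rw [gam_gam] at this
    rw [← this]
    generalize pnt F g (gam i) = u
    rw [inv_eq_of_mul_eq_one_left hg2, inv_eq_of_mul_eq_one_left hg2]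
  rcases le_or_gt i 12 with hi | hi
  · exact h1 i hi
  rcases le_or_gt (gam i) 12 with hi' | hi'
  · exact h2 i hi'
  obtain ⟨⟨a1, a2, a3⟩, ⟨b1, b2, b3⟩, ⟨c1, c2, c3⟩, d1, d2, d3⟩ := gam_far i hi hi'
  obtain ⟨j, hj⟩ := exists_pnt F hs hg ((isConj_pnt F hs i).trans (isConj_iff.mpr ⟨g, rfl⟩))
  have hj' : 12 < j := by
    rw [← not_le, ← comm_t_iff F hg, hj, ← g_sg F hg]
    simp only [conj_mul, mul_left_inj, mul_right_inj]
    rw [← x0_spec.2.2.2.2.1, ← pnt_le F g (by decide), eq_comm, comm_E1 F hs hg (by decide) hi]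
    exact d2
  rcases d3 j hj' ((comm_E1 F hs hg a2 hj').mp (by
      rw [hj, ← h2 _ a2]; exact conj_comm g (comm_E2 F hs hg hi a1 a3).symm))
    ((comm_E1 F hs hg b2 hj').mp (by
      rw [hj, ← h2 _ b2]; exact conj_comm g (comm_E2 F hs hg hi b1 b3).symm)) with rfl | h
  · exact hj.symm
  exfalso
  have e1 : Commute (pnt F g (gam i)) (pnt F g (gam (wx i))) := comm_E2 F hs hg hi' c2 d1
  have e2 : Commute (pnt F g j) (pnt F g (gam (wx i))) := by
    rw [hj, ← h1 _ c1]; exact conj_comm g ((comm_E1 F hs hg c1 hi).mpr c3).symm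
  rw [← (conj_pnt F hs hg _ _ _).mpr h, inv_eq_of_mul_eq_one_left (F.sq named.2.1)] at e2
  have e3 := (e2.mul_left e1).pow_left 2
  rw [mul_assoc, ← pow_two, ← pow_mul, show 2 * 2 = 3 + 1 from rfl, pow_succ, cube F hg hi',
    one_mul] at e3
  have e4 := e3.mul_left e1.inv_left
  rw [mul_inv_cancel_right] at e4
  exact c2.not_ge ((comm_t_iff F hg).mp e4.symm)

omit hg2 hg in
theorem nonempty_equiv : Nonempty (G ≃* W) := by
  obtain ⟨g, hg2, hg⟩ := exists_g F hs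
  obtain ⟨φ, hφ⟩ := exists_permHom (pnt F g) (pnt_injective F hs hg) fun x i =>
    exists_pnt F hs hg ((isConj_pnt F hs i).trans (isConj_iff.mpr ⟨x, rfl⟩))
  have h0 : pnt F g 0 = F.ψ t := by rw [pnt_le F g (by decide), x0_spec.2.2.2.1]
  have hinj : Function.Injective φ := (injective_iff_map_eq_one φ).mpr fun x hx => by
    have h1 : ∀ i, x * pnt F g i * x⁻¹ = pnt F g i := fun i => (hφ x i i).mp (by rw [hx]; rfl)
    obtain ⟨h, rfl⟩ := F.cent x (mul_inv_eq_iff_eq_mul.mp (h0 ▸ h1 0))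
    rw [Rl_faithful h fun i => (conj_pnt F hs hg h i i).mp (h1 i), map_one]
  have h1 : ∀ h, F.ψ h ∈ W.comap φ := fun h => subset_closure (Or.inl
    ⟨h, fun i j => (hφ _ i j).trans (conj_pnt F hs hg h i j)⟩)
  have h2 : g ∈ W.comap φ := subset_closure (Or.inr fun i =>
    (hφ _ _ _).mpr (g_pnt F hs hg2 hg i))
  have h3 : ∀ x, Z x → ∃ k ∈ W.comap φ, k * F.ψ t * k⁻¹ = F.ψ x := fun x hx => by
    rcases Z_conj x hx with rfl | ⟨h, rfl⟩
    · exact ⟨1, one_mem _, by simp⟩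
    · exact ⟨_, mul_mem (h1 h) h2, conj_mul_of (g_t F hg) (F.map_conj _ _).symm⟩
  have hr : φ.range = W := by
    refine le_antisymm ?_ ((closure_le _).mpr ?_)
    · rintro _ ⟨x, rfl⟩
      obtain ⟨i, hi⟩ := exists_pnt F hs hg (isConj_iff.mpr ⟨x, rfl⟩)
      obtain ⟨k, hk, e⟩ : ∃ k ∈ W.comap φ, k * F.ψ t * k⁻¹ = pnt F g i := by
        rcases le_or_gt i 12 with h | h
        · rw [pnt_le F g h]; exact h3 _ (el_Z i h)
        · obtain ⟨k, hk, e⟩ := h3 _ x0_spec.1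
          exact ⟨_, mul_mem (h1 _) (mul_mem h2 hk),
            conj_mul_of (conj_mul_of e rfl) (pnt_gt F g h).symm⟩
      obtain ⟨h, hh⟩ := F.cent (k⁻¹ * x) (mul_inv_eq_iff_eq_mul.mp
        (conj_mul_of hi.symm (conj_inv_of e)))
      have := mul_mem hk (hh ▸ h1 h)
      rwa [mul_inv_cancel_left] at this
    · rintro p (⟨h, hp⟩ | hp)
      · exact ⟨F.ψ h, Equiv.ext fun i =>
          (hφ _ _ _).mpr ((conj_pnt F hs hg h i _).mpr ((hp i _).mp rfl))⟩
      · exact ⟨g, Equiv.ext fun i => (hφ _ _ _).mpr (hp i ▸ g_pnt F hs hg2 hg i)⟩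
  exact ⟨(MonoidHom.ofInjective hinj).trans (MulEquiv.subgroupCongr hr)⟩

omit hs hg2 hg in
include F in
theorem nonempty_equiv' (hG : ∀ K : Subgroup G, K.index ≠ 2) : Nonempty (G ≃* W) := by
  have hT : ∀ x : P4, x * x = 1 → ∃ k : G, ∃ q ∈ Q0, F.ψ q = k⁻¹ * F.ψ x * k := fun x hx => by
    refine H6.thompson_transfer (H := P0.map F.ψ) hG ?_
      ((relIndex_map_map_of_injective _ _ F.inj).trans idx_Q0) (by rw [pow_two, F.sq hx])
    have h1 := F.odd_index isPGroup_P0 t_mem_P0 central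
      (H9.orderOf_two_of named.2.2.1 named.2.1)
    have h2 := relIndex_mul_index (map_le_range F.ψ P0)
    have h3 := H9.card_mul_relIndex (map_le_range F.ψ P0)
    rw [← Nat.card_congr (MonoidHom.ofInjective F.inj).toEquiv, P4.card,
      card_map_of_injective F.inj, card_P0] at h3
    rw [← h2, show (P0.map F.ψ).relIndex F.ψ.range = 9 by omega]
    exact Odd.mul (by decide) (Nat.odd_iff.mpr (Nat.two_dvd_ne_zero.mp h1))
  by_cases hs : IsConj (F.ψ t) (F.ψ sg)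
  · exact nonempty_equiv F hs
  by_cases hs' : IsConj (F.ψ t) (F.ψ ts)
  · refine nonempty_equiv (F.twist tw tw_spec.1) ?_
    change IsConj (F.ψ (tw t)) (F.ψ (tw sg))
    rwa [tw_spec.1, tw_spec.2]
  exfalso
  obtain ⟨k, q, hq, e⟩ := hT sg named.2.2.2.1
  have hc : IsConj (F.ψ q) (F.ψ sg) := isConj_iff.mpr ⟨k, by rw [e]; group⟩
  have hiso : H7.Isolated (F.ψ t) := H7.Isolated.of_commute (F.sq named.2.1) fun a ha => by
    obtain ⟨x, hx⟩ := F.cent _ ha.symm
    have h1 : IsConj (F.ψ t) (F.ψ x) := isConj_iff.mpr ⟨a, hx.symm⟩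
    rcases invol x (F.sq_of (sq_of_isConj (F.sq named.2.1) h1)) with h | h | h | h
    · rw [h, map_one, isConj_one_left] at h1
      exact absurd h1 (F.ne_one named.2.2.1)
    · rcases Z_conj x h with rfl | h
      · exact hx.symm
      · exact absurd (h1.trans (F.isConj h).symm) hs
    · rcases Q0_invol q hq (F.sq_of (sq_of_isConj (F.sq named.2.2.2.1) hc.symm)) with
        rfl | rfl | h2
      · rw [map_one, isConj_one_right] at hc
        exact absurd hc (F.ne_one (by decide +kernel))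
      · exact absurd hc hs
      · exact absurd (((h1.trans (F.isConj (U_conj x h)).symm).trans
          (F.isConj (U_conj q h2))).trans hc) hs
    · exact absurd (h1.trans (F.isConj (T_conj x h).2).symm) hs'
  obtain ⟨n, hn⟩ := H9.exists_conj_of_odd (F.sq named.2.1) (hiso.conj_mul_self k) (hiso.2 k)
  have h1 : Commute (k * F.ψ t * k⁻¹) (F.ψ sg) := by
    have := conj_comm k (F.comm_z q).symm
    rwa [e, show k * (k⁻¹ * F.ψ sg * k) * k⁻¹ = F.ψ sg by group] at this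
  have h2 := ((show Commute (F.ψ t) (F.ψ sg) from (F.comm_z sg).symm).mul_left h1).pow_left n
  generalize (F.ψ t * (k * F.ψ t * k⁻¹)) ^ n = c at hn h2
  obtain ⟨h, hh⟩ := F.cent (c * k)⁻¹ (by
    rw [← mul_inv_eq_iff_eq_mul]
    calc _ = k⁻¹ * (c⁻¹ * F.ψ t * c) * k := by group
      _ = _ := by rw [hn]; group)
  refine not_conj_sg h ((F.inj ?_ : h * sg * h⁻¹ = q) ▸ hq)
  rw [F.map_conj, hh, e]
  calc _ = k⁻¹ * c⁻¹ * (F.ψ sg * c) * k := by group
    _ = _ := by rw [← h2.eq]; group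

end Jan

end Cfsg.Agent.H3
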