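import Cfsg.Agent.H5.GWc1
import Cfsg.Agent.GW.IMain

/-! Counting involutions in groups with dihedral Sylow `2`-subgroups and one class of involutions. -/

set_option autoImplicit false

namespace Cfsg.Agent.H3.Km

open Subgroup GW H8

variable {X : Type*} [Group X]

local instance : Fact (Nat.Prime 2) := Nat.fact_prime_two

theorem cd_of_le {P Q : Subgroup X} (h : CD Q) (hPQ : P ≤ Q) : CD P := by
  obtain ⟨ρ, -, h1, h2⟩ := h
  have : IsCyclic ↥(P ⊓ zpowers ρ) := Subgroup.isCyclic_of_le inf_le_right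
  obtain ⟨g, hg⟩ := (Subgroup.isCyclic_iff_exists_zpowers_eq_top _).mp this
  have key : ∀ x ∈ P, x ∉ zpowers g → x ∉ zpowers ρ := fun x hx h3 h4 => h3 (hg ▸ mem_inf.mpr ⟨hx, h4⟩)
  refine ⟨g, (hg ▸ mem_zpowers g : g ∈ P ⊓ zpowers ρ).1, fun x hx h3 => h1 x (hPQ hx) (key x hx h3),
    fun x hx y hy h3 h4 => ?_⟩
  rw [hg]
  exact ⟨mul_mem hx hy, h2 x (hPQ hx) y (hPQ hy) (key x hx h3) (key y hy h4)⟩

theorem cd_map {Y : Type*} [Group Y] {P : Subgroup X} (h : CD P) (f : X →* Y) : CD (P.map f) := by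
  obtain ⟨ρ, hρ, h1, h2⟩ := h
  have key : ∀ x, x ∈ zpowers ρ → f x ∈ zpowers (f ρ) := fun x hx => by
    rw [← MonoidHom.map_zpowers]
    exact mem_map_of_mem f hx
  refine ⟨f ρ, mem_map_of_mem f hρ, ?_, ?_⟩
  · rintro _ ⟨x, hx, rfl⟩ hx'
    rw [← map_mul, h1 x hx (fun e => hx' (key x e)), map_one]
  · rintro _ ⟨x, hx, rfl⟩ _ ⟨y, hy, rfl⟩ hx' hy'
    rw [← map_mul]
    exact key _ (h2 x hx y hy (fun e => hx' (key x e)) (fun e => hy' (key y e)))

variable [Finite X]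

theorem ds_of_sylow {S : Subgroup X} (hS : IsSylowIn 2 S ⊤) (h : CD S) : DS X := fun P hP => by
  obtain ⟨T, hT, hPT⟩ := exists_isSylowIn_ge hP le_top
  obtain ⟨k, -, rfl⟩ := hS.exists_cj_eq hT
  exact cd_of_le (cd_map h _) hPT

/-- numerical data of `L₂(q)` -/
def Nm (k w : ℕ) : Prop := 2 ∣ k ∧ (w = (2 * k + 1) * (k + 1) ∨ ∃ m, m + 1 = k ∧ w = (2 * m + 1) * m)

omit [Finite X] in
theorem nJ_conj (t g : X) : nJ (g * t * g⁻¹) = nJ t := by
  refine (Set.ncard_congr (fun w _ => g * w * g⁻¹) (fun w hw => Refl.conj hw g)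
    (fun a b _ _ e => by simpa using e) fun w hw => ⟨g⁻¹ * w * g⁻¹⁻¹, ?_, by group⟩).symm
  have := Refl.conj hw g⁻¹
  rwa [show g⁻¹ * (g * t * g⁻¹) * g⁻¹⁻¹ = t by group] at this

theorem ds_base (h : DS X) (h0 : pPrimeCore 2 X = ⊥) {τ : X} (ht : orderOf τ = 2) (hf : Fus τ) :
    (∃ Q : Subgroup X, Q.Normal ∧ IsPGroup 2 Q ∧ τ ∈ Q) ∨
    (∃ (t : X) (K : Subgroup X), orderOf t = 2 ∧ (∀ a ∈ K, ∀ b ∈ K, a * b = b * a) ∧
      (∀ x ∈ K, x * x = 1 → x = 1 ∨ x = t) ∧ (∀ x ∈ K, x * t = t * x) ∧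
      (∀ y, Refl t y → ∀ x ∈ K, y * x * y⁻¹ = x⁻¹) ∧ nJ t = Nat.card K ∧
      Nm (Nat.card K) {u : X | orderOf u = 2}.ncard) ∨
    (∃ L : Subgroup X, IsSimpleGroup L ∧ Nat.card L = 2520 ∧ {u : X | orderOf u = 2}.ncard ∣ 2520) := by
  have key : ∀ Q : Subgroup X, Q.Normal → ∀ a ∈ Q, orderOf a = 2 → ∀ u, orderOf u = 2 → u ∈ Q :=
    fun Q hQ a ha ha2 u hu => by
      obtain ⟨c, rfl⟩ := isConj_iff.mp ((hf a ha2).symm.trans (hf u hu))
      exact hQ.conj_mem a ha c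
  by_cases hs : Group.IsSolvable X
  · left
    have : Group.IsSolvable (⊤ : Subgroup X) := inferInstance
    obtain ⟨p, M, hp, -, hM, h1, h2⟩ := L0.exists_elementary_normal_le (N := (⊤ : Subgroup X)) inferInstance
      (fun e => H9.ne_one_of_orderOf_two ht (mem_bot.mp (e ▸ mem_top τ)))
    have := Fact.mk hp
    have hP : IsPGroup p M := fun x => ⟨1, by rw [pow_one]; exact Subtype.ext (h2.2 x x.2)⟩
    by_cases e : p = 2
    · subst e
      obtain ⟨a, ha, ha2⟩ := H9.exists_involution_of_ne_bot hP h1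
      exact ⟨M, hM, hP, key M hM a ha (H9.orderOf_two_of ha2.1 ha2.2) τ ht⟩
    · refine (h1 (eq_bot_iff.mpr (h0 ▸ L0.le_pPrimeCore' hM fun hd => e ?_))).elim
      obtain ⟨n, hn⟩ := IsPGroup.iff_card.mp hP
      rw [hn] at hd
      exact ((Nat.prime_dvd_prime_iff_eq Nat.prime_two hp).mp (Nat.prime_two.dvd_of_dvd_pow hd)).symm
  right
  obtain ⟨h1, h2, h3⟩ := H5.layer_of_ds h hs h0
  have hn : (H7.layerOf (⊤ : Subgroup X)).Normal := H7.layerOf_top (G := X) ▸ inferInstance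
  obtain ⟨a, ha, ha2⟩ := layer_exists_inv h h1
  have hall := key _ hn a ha ha2
  generalize H7.layerOf (⊤ : Subgroup X) = L at *
  have hw : {u : X | orderOf u = 2}.ncard = {u : L | orderOf u = 2}.ncard :=
    (Set.ncard_congr (s := {u : L | orderOf u = 2}) (t := {u : X | orderOf u = 2}) (fun u _ => (u : X))
      (fun u hu => (orderOf_coe u).trans hu)
      (fun _ _ _ _ e => Subtype.ext e) fun u hu => ⟨(⟨u, hall u hu⟩ : L), (orderOf_coe (⟨u, hall u hu⟩ : L)).symm.trans hu, rfl⟩).symm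
  rcases gw h3 (h.subgroup L) with ⟨t, s, K, hb⟩ | hA
  · left
    have hK : Nat.card (K.map L.subtype) = Nat.card K := card_map_of_injective L.subtype_injective
    have hr : ∀ y, Refl (t : X) y → ∃ hy : y ∈ L, (⟨y, hy⟩ : L) * s ∈ K := fun y hy =>
      ⟨hall y hy.1, (hb.cent _ (Subtype.ext hy.2.1)).resolve_left fun e =>
        (hb.uniq _ e (Subtype.ext hy.sq)).elim
          (fun e => H9.ne_one_of_orderOf_two hy.1 (congrArg Subtype.val e))
          fun e => hy.2.2 (congrArg Subtype.val e)⟩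
    refine ⟨t, K.map L.subtype, (orderOf_coe t).trans hb.ht, ?_, ?_, ?_, ?_, ?_, ?_⟩
    · rintro _ ⟨a, ha, rfl⟩ _ ⟨b, hb', rfl⟩
      exact congrArg Subtype.val (hb.comm a ha b hb')
    · rintro _ ⟨a, ha, rfl⟩ e
      exact (hb.uniq a ha (Subtype.ext e)).imp (congrArg Subtype.val) (congrArg Subtype.val)
    · rintro _ ⟨a, ha, rfl⟩
      exact congrArg Subtype.val (hb.comm a ha t hb.tK)
    · rintro y hy _ ⟨a, ha, rfl⟩
      obtain ⟨hy', e⟩ := hr y hy
      exact congrArg Subtype.val (hb.conj_of_mul_mem e ha)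
    · rw [hK, ← H6.ncard_subgroup]
      refine (Set.ncard_congr (fun x _ => ((x * s : L) : X)) (fun x hx => ?_)
        (fun _ _ _ _ e => mul_right_cancel (Subtype.ext e)) fun y hy => ?_).symm
      · have e : x * s * s ∈ K := by rw [mul_assoc, hb.hs, mul_one]; exact hx
        exact ⟨(orderOf_coe _).trans (hb.orderOf_of_mul_mem e),
          congrArg Subtype.val (hb.mem_cent_iff.mpr (Or.inr e)),
          fun e' => hb.not_mem_of_mul_mem e (Subtype.ext e' ▸ hb.tK)⟩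
      · obtain ⟨hy', e⟩ := hr y hy
        exact ⟨_, e, by rw [mul_assoc, hb.hs, mul_one]⟩
    · obtain ⟨q, m, n⟩ := hb.num
      rw [hK, hw, Fus.ncard hb.fus hb.ht, n.index]
      refine ⟨hb.two_dvd, n.cases.imp (fun e => by rw [e.1, e.2]) fun e => ⟨m, e.2, ?_⟩⟩
      congr 1
      omega
  · right
    have hp : commutator L = ⊤ := (H7.quasisimple_iff.mp (H7.QS.of_isSimpleGroup h3)).1
    have ha3 : orderOf (⟨a, ha⟩ : L) = 2 := (orderOf_coe (⟨a, ha⟩ : L)).symm.trans ha2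
    refine ⟨L, h2, hA.1, ?_⟩
    rw [hw, Fus.ncard ((h.subgroup L).fus hp ha3) ha3, ← hA.1]
    exact index_dvd_card _

section Quot

variable {Y : Type*} [Group Y] {π : X →* Y} (hπ : ∀ x, π x = 1 → Odd (orderOf x))
include hπ

omit [Finite X] in
theorem eq_of_comm_of_map {a b : X} (ha : a * a = 1) (hb : b * b = 1) (hc : a * b = b * a)
    (e : π a = π b) : a = b := by
  have h1 : π (a * b) = 1 := by rw [map_mul, e, ← map_mul, hb, map_one]
  have h2 : a * b * (a * b) = 1 := by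
    rw [show a * b * (a * b) = a * (b * a) * b by group, ← hc,
      show a * (a * b) * b = a * a * (b * b) by group, ha, hb, mul_one]
  have h3 : orderOf (a * b) = 1 := (hπ _ h1).coprime_two_right.eq_one_of_dvd
    (orderOf_dvd_of_pow_eq_one (by rw [pow_two, h2]))
  rw [eq_inv_of_mul_eq_one_left (orderOf_eq_one_iff.mp h3), inv_eq_of_mul_eq_one_left hb]

omit [Finite X] in
theorem exists_odd_pow {x : X} (h : π x * π x = 1) :
    ∃ m, x ^ m * x ^ m = 1 ∧ π (x ^ m) = π x := by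
  obtain ⟨k, hk⟩ := hπ (x * x) (by rw [map_mul, h])
  refine ⟨orderOf (x * x), by rw [← Commute.mul_pow rfl, pow_orderOf_eq_one], ?_⟩
  rw [hk, map_pow, pow_succ, pow_mul, pow_two, h, one_pow, one_mul]

omit [Finite X] in
theorem exists_dih {a b : X} (ha : a * a = 1) (hb : b * b = 1) (hc : π a * π b = π b * π a) :
    ∃ z, z * z = 1 ∧ π z = π a * π b ∧ z * a = a * z ∧ z * b = b * z ∧
      ∀ y, y * a = a * y → y * b = b * y → y * z = z * y := by
  obtain ⟨m, h1, h2⟩ := exists_odd_pow hπ (x := a * b) (by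
    rw [map_mul, show π a * π b * (π a * π b) = π a * (π b * π a) * π b by group, ← hc,
      show π a * (π a * π b) * π b = π a * π a * (π b * π b) by group, ← map_mul, ← map_mul, ha, hb,
      map_one, mul_one])
  have key : ∀ c, c * (a * b) * c⁻¹ = (a * b)⁻¹ → (a * b) ^ m * c = c * (a * b) ^ m := fun c e => by
    have := congrArg (· ^ m) e
    simp only [conj_pow, inv_pow] at this
    rw [inv_eq_of_mul_eq_one_left h1, mul_inv_eq_iff_eq_mul] at this
    exact this.symm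
  have ia := inv_eq_of_mul_eq_one_left ha
  have ib := inv_eq_of_mul_eq_one_left hb
  refine ⟨_, h1, by rw [h2, map_mul], key a ?_, key b ?_, fun y e1 e2 => ?_⟩
  · rw [mul_inv_rev, ia, ib, ← mul_assoc, ha, one_mul]
  · rw [mul_inv_rev, ia, ib, mul_assoc, mul_assoc, hb, mul_one]
  · exact (Commute.pow_right (show y * (a * b) = a * b * y by
      rw [← mul_assoc, e1, mul_assoc, e2, mul_assoc]) m).eq

omit [Finite X] in
theorem orderOf_map_two {a : X} (ha : orderOf a = 2) : orderOf (π a) = 2 :=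
  H9.orderOf_two_of (fun e => by have := hπ a e; rw [ha] at this; exact absurd this (by decide))
    (by rw [← map_mul, H9.mul_self_of_orderOf_two ha, map_one])

omit [Finite X] in
theorem refl_map {a b : X} (ha : orderOf a = 2) (hb : Refl a b) : Refl (π a) (π b) :=
  ⟨orderOf_map_two hπ hb.1, by rw [← map_mul, hb.2.1, map_mul],
    fun e => hb.2.2 (eq_of_comm_of_map hπ hb.sq (H9.mul_self_of_orderOf_two ha) hb.2.1 e)⟩

omit hπ [Finite X] in
theorem orderOf_of_map {a : X} (h1 : a * a = 1) (h2 : orderOf (π a) = 2) : orderOf a = 2 :=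
  H9.orderOf_two_of (fun e => H9.ne_one_of_orderOf_two h2 (by rw [e, map_one])) h1

/-- Brauer–Wielandt in counting form -/
theorem count_quot (hs : Function.Surjective π) {τ σ : X} (ht : orderOf τ = 2) (hσ : Refl τ σ)
    (hf : Fus τ) (hp : ∀ a b : X, orderOf a = 2 → Refl a b →
      ∃ g, g * τ * g⁻¹ = a ∧ (g * σ * g⁻¹ = b ∨ g * (τ * σ) * g⁻¹ = b)) :
    ∃ r, nJ τ = nJ (π τ) * r ∧ {u : X | orderOf u = 2}.ncard = {u : Y | orderOf u = 2}.ncard * (r * r) := by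
  have : Finite Y := Finite.of_surjective π hs
  obtain ⟨R, hR⟩ : ∃ R : X → Y → Set X, ∀ a y, R a y = {b | b * b = 1 ∧ π b = y ∧ b * a = a * b} :=
    ⟨_, fun _ _ => rfl⟩
  have tt := H9.mul_self_of_orderOf_two ht
  have c1 : ∀ a y g, (R (g * a * g⁻¹) (π g * y * (π g)⁻¹)).ncard = (R a y).ncard := fun a y g => by
    simp only [hR]
    refine (Set.ncard_congr (fun b _ => g * b * g⁻¹) ?_ (fun a b _ _ e => by simpa using e) ?_).symm
    · rintro b ⟨h1, h2, h3⟩
      refine ⟨?_, by simp [h2], ?_⟩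
      · rw [show g * b * g⁻¹ * (g * b * g⁻¹) = g * (b * b) * g⁻¹ by group, h1]; group
      · rw [show g * b * g⁻¹ * (g * a * g⁻¹) = g * (b * a) * g⁻¹ by group, h3]; group
    · rintro b ⟨h1, h2, h3⟩
      refine ⟨g⁻¹ * b * g, ⟨?_, by simp [h2, mul_assoc], ?_⟩, by group⟩
      · rw [show g⁻¹ * b * g * (g⁻¹ * b * g) = g⁻¹ * (b * b) * g by group, h1]; group
      · rw [show g⁻¹ * b * g * a = g⁻¹ * (b * (g * a * g⁻¹)) * g by group, h3]; group
  have c2 : (R τ (π (τ * σ))).ncard = (R τ (π σ)).ncard := by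
    have k : ∀ b, b * b = 1 → b * τ = τ * b → τ * b * (τ * b) = 1 := fun b h1 h3 => by
      rw [show τ * b * (τ * b) = τ * (b * τ) * b by group, h3,
        show τ * (τ * b) * b = τ * τ * (b * b) by group, tt, h1, mul_one]
    simp only [hR]
    refine (Set.ncard_congr (fun b _ => τ * b) ?_ (fun a b _ _ e => mul_left_cancel e) ?_).symm
    · rintro b ⟨h1, h2, h3⟩
      exact ⟨k b h1 h3, by rw [map_mul, map_mul, h2], by rw [mul_assoc, h3]⟩
    · rintro b ⟨h1, h2, h3⟩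
      exact ⟨τ * b, ⟨k b h1 h3, by rw [map_mul, h2, ← map_mul, ← mul_assoc, tt, one_mul],
        by rw [mul_assoc, h3]⟩, by rw [← mul_assoc, tt, one_mul]⟩
  have c3 : ∀ a b : X, orderOf a = 2 → Refl a b → (R a (π b)).ncard = (R τ (π σ)).ncard := fun a b ha hb => by
    obtain ⟨g, rfl, rfl | rfl⟩ := hp a b ha hb
    · rw [← c1 τ _ g, map_mul, map_mul, map_inv]
    · rw [← c2, ← c1 τ _ g, map_mul _ _ g⁻¹, map_mul _ g, map_inv]
  have lift : ∀ y : Y, orderOf y = 2 → ∃ a, a * a = 1 ∧ π a = y := fun y hy => by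
    obtain ⟨x, rfl⟩ := hs y
    obtain ⟨m, h1, h2⟩ := exists_odd_pow hπ (H9.mul_self_of_orderOf_two hy)
    exact ⟨_, h1, h2⟩
  have hπτ := orderOf_map_two hπ ht
  refine ⟨(R τ (π σ)).ncard, H6.ncard_eq_mul_of_fibers π _ _ (fun b hb => refl_map hπ ht hb) fun y hy => ?_,
    H6.ncard_eq_mul_of_fibers π _ _ (fun b hb => orderOf_map_two hπ hb) fun y hy => ?_⟩
  · obtain ⟨a, h1, h2⟩ := lift _ (Refl.mul hπτ hy).1
    obtain ⟨z, h3, h4, h5, -⟩ := exists_dih hπ tt h1 (by rw [h2, mul_assoc, hy.2.1])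
    rw [h2, ← mul_assoc, ← map_mul, tt, map_one, one_mul] at h4
    subst h4
    have k : ∀ b, b * b = 1 → π b = π z → b * τ = τ * b → Refl τ b := fun b e1 e2 e3 =>
      ⟨orderOf_of_map e1 (e2 ▸ hy.1), e3, fun e => hy.2.2 (by rw [← e2, e])⟩
    rw [← c3 τ z ht (k z h3 rfl h5), hR]
    congr 1
    ext b
    exact ⟨fun e => ⟨Refl.sq e.1, e.2, e.1.2.1⟩, fun e => ⟨k b e.1 e.2.1 e.2.2, e.2.1⟩⟩
  · obtain ⟨a, h1, rfl⟩ := lift y hy
    have ha := orderOf_of_map h1 hy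
    obtain ⟨s, hs'⟩ : ∃ s, Refl a s := by
      obtain ⟨g, rfl⟩ := isConj_iff.mp (hf a ha)
      exact ⟨_, hσ.conj g⟩
    have hπs := refl_map hπ ha hs'
    have := H6.ncard_mul_eq_of_rel {b | b ∈ {u : X | orderOf u = 2} ∧ π b = π a} (R s (π (a * s)))
      (fun b z => z * b = b * z) (m := 1) (n := (R τ (π σ)).ncard) (fun b hb => ?_) fun z hz => ?_
    · rw [mul_one, c3 s _ hs'.1 (hs'.right_mul ha)] at this
      exact this
    · obtain ⟨z, h3, h4, h5, h6, h7⟩ := exists_dih hπ (H9.mul_self_of_orderOf_two hb.1) hs'.sq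
        (by rw [hb.2, hπs.2.1])
      rw [Set.ncard_eq_one, hR]
      refine ⟨z, Set.eq_singleton_iff_unique_mem.mpr ⟨⟨⟨h3, by rw [h4, hb.2, map_mul], h6⟩, h5⟩, ?_⟩⟩
      rintro w ⟨⟨e1, e2, e3⟩, e4⟩
      exact eq_of_comm_of_map hπ e1 h3 (h7 w e4 e3) (by rw [e2, h4, hb.2, map_mul])
    · rw [hR] at hz
      obtain ⟨e1, e2, e3⟩ := hz
      have hz2 : orderOf z = 2 := orderOf_of_map e1 (by rw [e2, map_mul]; exact (hπs.mul hy).1)
      have hzs : Refl z s := ⟨hs'.1, e3.symm, fun e => Refl.mul_ne hy (by rw [← map_mul, ← e2, e])⟩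
      have e4 : π (z * s) = π a := by rw [map_mul, e2, ← map_mul, mul_assoc, hs'.sq, mul_one]
      rw [← c3 z _ hz2 (hzs.mul hz2), hR, e4]
      congr 1
      ext b
      exact ⟨fun e => ⟨H9.mul_self_of_orderOf_two e.1.1, e.1.2, e.2.symm⟩,
        fun e => ⟨⟨orderOf_of_map e.1 (e.2.1 ▸ hy), e.2.1⟩, e.2.2.symm⟩⟩

end Quot

theorem sylow_four (h8 : ¬ 8 ∣ Nat.card X) {a b : X} (ha : orderOf a = 2) (hb : Refl a b) :
    IsSylowIn 2 (four a b) ⊤ := by
  refine IsSylowIn.of_not_dvd_relIndex le_top (isPGroup_four ha hb) fun e => h8 ?_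
  rw [← (four a b).card_mul_index, card_four ha hb]
  exact mul_dvd_mul_left 4 (relIndex_top_right (four a b) ▸ e)

omit [Finite X] in
theorem cd_four {a b : X} (ha : orderOf a = 2) (hb : Refl a b) : CD (four a b) := by
  have tt := H9.mul_self_of_orderOf_two ha
  refine ⟨a, left_mem_four a b, fun x hx _ => four_sq ha hb hx, fun x hx y hy h1 h2 => ?_⟩
  have k : ∀ x ∈ four a b, x ∉ zpowers a → ∃ r ∈ zpowers a, x = r * b := fun x hx h => by
    rcases (mem_four ha hb).mp hx with rfl | rfl | rfl | rfl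
    exacts [(h (one_mem _)).elim, (h (mem_zpowers _)).elim, ⟨1, one_mem _, (one_mul _).symm⟩,
      ⟨a, mem_zpowers a, rfl⟩]
  obtain ⟨r, hr, rfl⟩ := k x hx h1
  obtain ⟨s, hs, rfl⟩ := k y hy h2
  have : b * s = s * b := by
    rcases (H9.mem_zpowers_of_mul_self tt).mp hs with rfl | rfl
    exacts [by simp, hb.2.1]
  rw [show r * b * (s * b) = r * (b * s) * b by group, this,
    show r * (s * b) * b = r * s * (b * b) by group, hb.sq, mul_one]
  exact mul_mem hr hs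

/-- The numbers of involutions and of reflections when the Sylow `2`-subgroups are four-groups. -/
theorem four_count (h8 : ¬ 8 ∣ Nat.card X) {τ σ : X} (ht : orderOf τ = 2) (hσ : Refl τ σ)
    (hf : Fus τ) : ∃ r k w, Nm k w ∧ nJ τ = k * r ∧ {u : X | orderOf u = 2}.ncard = w * (r * r) := by
  have hπ : ∀ x, QuotientGroup.mk' (pPrimeCore 2 X) x = 1 → Odd (orderOf x) := fun x hx =>
    Nat.odd_iff.mpr (Nat.two_dvd_ne_zero.mp (not_dvd_orderOf_of_mem L0.not_dvd_card_pPrimeCore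
      ((QuotientGroup.eq_one_iff x).mp hx)))
  have hs := QuotientGroup.mk'_surjective (pPrimeCore 2 X)
  have h0 := L0.pPrimeCore_quotient_pPrimeCore (p := 2) (G := X)
  have h8' : ¬ 8 ∣ Nat.card (X ⧸ pPrimeCore 2 X) := fun e => h8 (e.trans (card_dvd_of_surjective _ hs))
  generalize QuotientGroup.mk' (pPrimeCore 2 X) = π at *
  obtain ⟨r, h1, h2⟩ := count_quot hπ hs ht hσ hf fun a b ha hb => by
    obtain ⟨g, rfl⟩ := isConj_iff.mp (hf a ha)
    have hb' := hb.conj g⁻¹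
    rw [show g⁻¹ * (g * τ * g⁻¹) * g⁻¹⁻¹ = τ by group] at hb'
    obtain ⟨c, hc, e⟩ := ((sylow_four h8 ht hσ).of_le (four_le_Cz hσ) le_top).exists_cj_eq
      ((sylow_four h8 ht hb').of_le (four_le_Cz hb') le_top)
    have hc' := mem_Cz.mp hc
    have h3 := mem_cj.mp (e ▸ right_mem_four τ (g⁻¹ * b * g⁻¹⁻¹))
    have h4 := hb'.conj_of_comm (mem_Cz.mp (inv_mem hc))
    rw [inv_inv c] at h4
    refine ⟨g * c, by rw [mul_assoc g, hc']; group, ?_⟩
    rcases (mem_four ht hσ).mp h3 with e | e | e | e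
    · exact (H9.ne_one_of_orderOf_two h4.1 e).elim
    · exact (h4.2.2 e).elim
    · left; rw [← e]; group
    · right; rw [← e]; group
  have ht' := orderOf_map_two hπ ht
  have hσ' := refl_map hπ ht hσ
  have hf' : Fus (π τ) := fun y hy => by
    obtain ⟨x, rfl⟩ := hs y
    obtain ⟨m, e1, e2⟩ := exists_odd_pow hπ (H9.mul_self_of_orderOf_two hy)
    rw [← e2] at hy ⊢
    exact π.map_isConj (hf _ (orderOf_of_map e1 hy))
  have hS := sylow_four h8' ht' hσ'
  rcases ds_base (ds_of_sylow hS (cd_four ht' hσ')) h0 ht' hf' with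
    ⟨Q, hQ, h3, h4⟩ | ⟨t, K, h3, -, -, -, -, h4, h5⟩ | ⟨L, -, h3, -⟩
  · have h5 : Q ≤ four (π τ) (π σ) := hS.le_of_le_normalizer h3 le_top (by rw [normalizer_eq_top]; exact le_top)
    have k : ∀ u, orderOf u = 2 ↔ u = π τ ∨ u = π σ ∨ u = π τ * π σ := fun u => ⟨fun hu => by
      obtain ⟨c, rfl⟩ := isConj_iff.mp (hf' u hu)
      exact ((mem_four ht' hσ').mp (h5 (hQ.conj_mem _ h4 c))).resolve_left (H9.ne_one_of_orderOf_two hu), by
      rintro (rfl | rfl | rfl)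
      exacts [ht', hσ'.1, (hσ'.mul ht').1]⟩
    refine ⟨r, 2, 3, ⟨dvd_rfl, Or.inr ⟨1, rfl, rfl⟩⟩, ?_, ?_⟩
    · rw [h1, nJ, Set.ncard_eq_two.mpr ⟨π σ, π τ * π σ, (Refl.mul_ne ht').symm, ?_⟩]
      ext u
      refine ⟨fun hu => ((k u).mp hu.1).resolve_left hu.2.2, ?_⟩
      rintro (rfl | rfl)
      exacts [hσ', hσ'.mul ht']
    · rw [h2, (Set.ncard_eq_three (s := {u | orderOf u = 2})).mpr ⟨π τ, π σ, π τ * π σ, hσ'.2.2.symm,
        (hσ'.mul ht').2.2.symm, (Refl.mul_ne ht').symm, Set.ext k⟩]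
  · obtain ⟨c, rfl⟩ := isConj_iff.mp (hf' t h3)
    exact ⟨r, _, _, h5, by rw [h1, ← h4, nJ_conj], h2⟩
  · exact (h8' ((show 8 ∣ 2520 by norm_num).trans (h3 ▸ card_subgroup_dvd_card L))).elim

end Cfsg.Agent.H3.Km
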