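import Cfsg.Agent.H3.Km9
import Cfsg.Agent.H3.A7b

/-! Doubly transitive groups with two-point stabilizer `A₄` or `A₅`: odd degree, symmetric case. -/

set_option autoImplicit false
set_option linter.unusedSectionVars false

namespace Cfsg.Agent.H3.Km

open Subgroup MulAction GW H8

theorem num_A {m b i n w A : ℕ} (hmb : (m = 3 ∧ b = 6) ∨ (m = 15 ∧ b = 10)) (hi : 2 ≤ i)
    (h1 : w * (i + 1) = (n + 1) * A) (h2 : A * i = n * m) (h3 : b * ((i + 1) * i) + (i + 1) * m = (n + 1) * m) :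
    105 ≤ w ∧ (w ∣ 2520 → i % 2 = 0 → (m = 3 ∧ n = 14) ∨ (m = 15 ∧ n = 6)) := by
  rcases hmb with ⟨rfl, rfl⟩ | ⟨rfl, rfl⟩
  · obtain rfl : n = (2 * i + 3) * i := by linarith
    obtain rfl : A = 3 * (2 * i + 3) := Nat.eq_of_mul_eq_mul_right (show 0 < i by omega) (by linarith)
    obtain rfl : w = (2 * i + 1) * (3 * (2 * i + 3)) := Nat.eq_of_mul_eq_mul_right (Nat.succ_pos i) (by
      rw [Nat.succ_eq_add_one, h1]; ring)
    refine ⟨by nlinarith, fun e e2 => ?_⟩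
    have := Nat.le_of_dvd (by norm_num) e
    have : i < 15 := by nlinarith
    interval_cases i <;> simp_all
  · have h4 : 3 * n = (2 * i + 5) * i := by linarith
    obtain rfl : A = 5 * (2 * i + 5) := Nat.eq_of_mul_eq_mul_right (show 0 < i by omega) (by linarith)
    have h5 : 3 * w = (2 * i + 3) * (5 * (2 * i + 5)) := Nat.eq_of_mul_eq_mul_right (Nat.succ_pos i) (by
      rw [Nat.succ_eq_add_one, mul_assoc, h1, ← mul_assoc, mul_add 3, h4]; ring)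
    refine ⟨by nlinarith, fun e e2 => ?_⟩
    have := Nat.le_of_dvd (by norm_num) e
    have : i < 20 := by nlinarith
    obtain ⟨c, hc⟩ := e
    have h6 : 3 * 2520 = (2 * i + 3) * (5 * (2 * i + 5)) * c := by rw [← h5, mul_assoc, ← hc]
    interval_cases i <;> omega

theorem card_le_four {G : Type*} [Group G] [Finite G] {K : Subgroup G} {t : G}
    (hc : ∀ a ∈ K, ∀ b ∈ K, a * b = b * a) (h1 : ∀ x ∈ K, x * x = 1 → x = 1 ∨ x = t)
    (h2 : ∀ x ∈ K, x * x = 1 ∨ x * x = t) : Nat.card K ≤ 4 := by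
  have h3 : ({1, t} : Set G).ncard ≤ 2 := (Set.ncard_insert_le _ _).trans (by rw [Set.ncard_singleton])
  refine (H6.ncard_le_mul_of_fibers (fun x => x * x) K {1, t} h2 (m := 2) fun y _ => ?_).trans
    (Nat.mul_le_mul_right 2 h3)
  rcases Set.eq_empty_or_nonempty {a | a ∈ (K : Set G) ∧ a * a = y} with e | ⟨a, ha, rfl⟩
  · rw [e, Set.ncard_empty]; omega
  refine (Set.ncard_le_ncard_of_injOn (· * a⁻¹) (fun x hx => h1 _ (mul_mem hx.1 (inv_mem ha)) ?_)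
    fun _ _ _ _ e => mul_right_cancel e).trans h3
  rw [show x * a⁻¹ * (x * a⁻¹) = x * (a⁻¹ * x) * a⁻¹ by group, ← hc x hx.1 _ (inv_mem ha),
    show x * (x * a⁻¹) * a⁻¹ = x * x * (a * a)⁻¹ by group, hx.2, mul_inv_cancel]

variable {G Ω : Type*} [Group G] [MulAction G Ω] [Finite G] [Finite Ω]

namespace St

variable {α β : Ω} {τ σ I : G} {m b : ℕ} (h : St α β τ σ m) (hI : CA α β τ σ I b)
include h hI

theorem fusA : Fus τ := fun u hu => by
  obtain ⟨c, hc⟩ := h.exists_swap (H9.ne_one_of_orderOf_two hu)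
  have e : IsConj (c⁻¹ * u * c) u := isConj_iff.mpr ⟨c, by group⟩
  exact (hI.fus _ (H9.mul_self_of_orderOf_two ((H6.orderOf_eq_of_isConj e).trans hu)) hc).trans e

theorem cntA : {u | u ∈ H6.cl τ ∧ u • α = β}.ncard = b := by
  rw [← hI.cnt]
  congr 1
  exact Set.ext fun u => ⟨fun hu => ⟨H9.mul_self_of_orderOf_two (H6.orderOf_eq_of_isConj hu.1 ▸ h.ht), hu.2⟩,
    fun hu => ⟨hI.fus u hu.1 hu.2, hu.2⟩⟩

theorem rho_sq : I * σ * (I * σ) = τ := by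
  rw [show I * σ * (I * σ) = I * σ * I⁻¹⁻¹ * σ by group, inv_eq_of_mul_eq_one_left hI.ii, hI.is, mul_assoc,
    h.hs.sq, mul_one]

theorem rho_sq' : I * (τ * σ) * (I * (τ * σ)) = τ := by
  rw [← mul_assoc I τ, hI.it, mul_assoc τ I, mul_assoc, ← mul_assoc (I * σ), mul_assoc I σ, h.hs.2.1, ← mul_assoc I,
    hI.it, mul_assoc τ I, mul_assoc, h.rho_sq hI, h.tt, mul_one]

theorem swapA {u : G} (hu : u * τ = τ * u) (h1 : u • α = β) (h2 : u • β = α) :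
    u = I ∨ u = I * τ ∨ u = I * σ ∨ u = I * (τ * σ) :=
  h.swap_mem hI.it hu (hI.ia.trans h1.symm) ((swap_of_sq hI.ii hI.ia).trans h2.symm)

theorem swapA' {u : G} (hu : u * τ = τ * u) (h1 : u • α = β) (h2 : u * u = 1) : u = I ∨ u = τ * I := by
  rcases h.swapA hI hu h1 (swap_of_sq h2 h1) with e | e | rfl | rfl
  exacts [Or.inl e, Or.inr (e.trans hI.it), (h.t1 ((h.rho_sq hI).symm.trans h2)).elim,
    (h.t1 ((h.rho_sq' hI).symm.trans h2)).elim]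

theorem D0_leA : {u | u ∈ D0 τ σ ∧ u • α = β}.ncard ≤ 2 :=
  (Set.ncard_le_ncard (t := {I, τ * I}) fun _ hu =>
    h.swapA' hI (h.refl_of_D0 hu.1).2.1 hu.2 (h.refl_of_D0 hu.1).sq).trans
    ((Set.ncard_insert_le _ _).trans (by rw [Set.ncard_singleton]))

variable (hn : Nat.card Ω % 2 = 1)
include hn

theorem dsA : DS G := by
  have tt := h.tt
  have r1 := h.rho_sq hI
  have r2 : I * σ * τ = τ * (I * σ) := by rw [mul_assoc, h.hs.2.1, ← mul_assoc, hI.it, mul_assoc]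
  have r3 : (I * σ) • α = β := by rw [mul_smul, h.sa, hI.ia]
  have r4 : I * (τ * σ) = τ * (I * σ) := by rw [← mul_assoc, hI.it, mul_assoc]
  have is := mul_inv_eq_iff_eq_mul.mp hI.is
  have r5 : σ * (I * σ) * σ⁻¹ = τ * (I * σ) := by
    rw [← mul_assoc σ, mul_inv_cancel_right, is, ← mul_assoc, ← mul_assoc, tt, one_mul]
  have r6 : I * (I * σ) * I⁻¹ = τ * (I * σ) := by
    rw [← mul_assoc I, hI.ii, one_mul, inv_eq_of_mul_eq_one_left hI.ii, is, ← mul_assoc, ← mul_assoc, tt, one_mul]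
  have hX : ∀ u : G, u * τ = τ * u → u • α = β → u • β = α → u * u = τ → u = I * σ ∨ u = τ * (I * σ) :=
    fun u e e1 e2 e3 => by
      rcases h.swapA hI e e1 e2 with rfl | rfl | e | e
      exacts [(h.t1 (e3.symm.trans hI.ii)).elim, (h.t1 (by
        rw [← e3, mul_assoc, ← mul_assoc τ, ← hI.it, mul_assoc I, tt, mul_one, hI.ii])).elim, Or.inl e,
        Or.inr (e.trans r4)]
  generalize I * σ = ρ at r1 r2 r3 r4 r5 r6 hX
  have cm : ∀ u : G, u * u = τ → u * τ = τ * u := fun u e => by rw [← e, mul_assoc]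
  have f1 : ∀ u ∈ {u : G | u * u = τ}, (fx (fx (Set.univ : Set Ω) τ) u).ncard = 1 := fun u hu =>
    ncard_eq_one_of_odd ((h.mod_C (cm u hu) (Or.inr hu)).trans hn) fun x hx y hy => by
      by_contra e
      exact h.t1 (Eq.symm hu |>.trans (h.sq_of_fix (cm u hu) hx.1.2 hy.1.2 e hx.2 hy.2))
  obtain ⟨γ, hγ, f2⟩ := exists_unique_of_ncard (f1 ρ r1)
  have cj : ∀ y : G, y * τ = τ * y → ∀ d : G, d * d = τ → y * d * y⁻¹ * (y * d * y⁻¹) = τ := fun y hy d hd => by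
    rw [show y * d * y⁻¹ * (y * d * y⁻¹) = y * (d * d) * y⁻¹ by group, hd, hy, mul_inv_cancel_right]
  have n1 : ρ ≠ τ * ρ := (Refl.mul_ne h.ht).symm
  have f3 : ∀ u : G, u * u = τ → u • γ = γ → u = ρ ∨ u = τ * ρ := fun u e1 e2 => by
    have f4 := (h.tC.c5 (D := {u : G | u * u = τ}) (fun y hy d hd => cj y (mem_Cz.mp hy) d hd)
      (fun d hd => mem_Cz.mpr (cm d hd)) f1 hγ.1).1
    have f5 : {ρ, τ * ρ} = {d | d ∈ {u : G | u * u = τ} ∧ d • γ = γ} := Set.eq_of_subset_of_ncard_le (by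
      rintro _ (rfl | rfl)
      · exact ⟨r1, hγ.2⟩
      · refine ⟨?_, by rw [mul_smul, hγ.2, hγ.1.2]⟩
        change τ * ρ * (τ * ρ) = τ
        rw [mul_assoc, ← mul_assoc ρ, r2, mul_assoc, r1, tt, mul_one])
      (f4.trans_le (Set.ncard_le_ncard fun d hd => hX d (cm d hd.1) hd.2
        (by rw [← hd.2, ← mul_smul, show d * d = τ from hd.1, h.ta]) hd.1))
    exact (f5 ▸ ⟨e1, e2⟩ : u ∈ ({ρ, τ * ρ} : Set G))
  have f4 : ∀ y : G, y * τ = τ * y → y • γ = γ → y * ρ * y⁻¹ = ρ ∨ y * ρ * y⁻¹ = τ * ρ := fun y e1 e2 =>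
    f3 _ (cj y e1 ρ r1) (by have := conj_smul_eq (g := y) hγ.2; rwa [e2] at this)
  have f5 : ∀ y : G, y * τ = τ * y → y * ρ * y⁻¹ = τ * ρ → y • γ = γ := fun y e1 e2 => by
    have e3 := h.tC.inv y (mem_Cz.mpr e1) γ hγ.1
    have := conj_smul_eq (g := y) hγ.2
    rw [e2, ← r2, mul_smul, e3.2] at this
    exact f2 _ ⟨e3, this⟩
  have mulτ : ∀ y : G, y * τ = τ * y → y * ρ * y⁻¹ = τ * ρ → τ * y * ρ * (τ * y)⁻¹ = τ * ρ := fun y e1 e2 => by
    rw [show τ * y * ρ * (τ * y)⁻¹ = τ * (y * ρ * y⁻¹) * τ⁻¹ by group, e2, ← r2, ← mul_assoc, mul_inv_cancel_right,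
      r2]
  have ga : γ ≠ α := fun e => h.t2.ne (by rw [← r3, ← e, hγ.2])
  have gΓ : γ ∈ fx (fx Set.univ τ) σ := ⟨hγ.1, f5 σ h.hs.2.1 r5⟩
  have f6 : ∀ u : G, Refl τ u → u • γ = γ → u * ρ ≠ ρ * u := fun u hu e1 e2 => by
    obtain ⟨c, hc, c1, c2⟩ : ∃ c : G, c * τ = τ * c ∧ c • γ = γ ∧ c⁻¹ * u * c * ρ * (c⁻¹ * u * c)⁻¹ = τ * ρ := by
      by_cases e3 : ∀ x ∈ fx (fx Set.univ τ) u, x = γ
      · obtain ⟨c, hc, c1, -⟩ := h.swap_C hu.2.1 (Or.inl hu.sq) h.ta fun e => ga (e3 α ⟨h.tC.ha, e⟩).symm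
        have c3 : c⁻¹ * u * c * ρ * (c⁻¹ * u * c)⁻¹ = τ * ρ := by
          rcases h.swapA' hI (comm_conj hc hu.2.1) c1 (by simpa using conj_sq (g := c⁻¹) hu.sq) with e | e <;> rw [e]
          exacts [r6, mulτ I hI.it r6]
        refine ⟨c, hc, e3 _ ⟨h.tC.inv c (mem_Cz.mpr hc) γ hγ.1, ?_⟩, c3⟩
        have := f5 _ (comm_conj hc hu.2.1) c3
        rwa [mul_smul, mul_smul, inv_smul_eq_iff] at this
      · push Not at e3
        obtain ⟨δ, hδ, e3⟩ := e3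
        obtain ⟨c, hc, c1, c2⟩ := (h.tC.rebase hγ.1 h.tC.ha ga).ex γ hγ.1 δ hδ.1 e3.symm
        have c3 := hu.conj_of_comm (mem_Cz.mp (inv_mem hc))
        rw [inv_inv] at c3
        refine ⟨c, mem_Cz.mp hc, c1, ?_⟩
        rcases h.mv.mp (h.stabX c3.2.1 gΓ h.aΓ ga (conj_smul_eq' (by rw [c1, e1]))
          (conj_smul_eq' (by rw [c2, hδ.2]))) with e | e | e | e
        exacts [(H9.ne_one_of_orderOf_two c3.1 e).elim, (c3.2.2 e).elim, by rw [e, r5],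
          by rw [e, mulτ σ h.hs.2.1 r5]]
    have c3 := comm_conj hc hu.2.1
    have c4 : c⁻¹ * u * c * (c⁻¹ * ρ * c⁻¹⁻¹) = c⁻¹ * ρ * c⁻¹⁻¹ * (c⁻¹ * u * c) := by
      rw [show c⁻¹ * u * c * (c⁻¹ * ρ * c⁻¹⁻¹) = c⁻¹ * (u * ρ) * c by group, e2]; group
    have c5 := f4 c⁻¹ (mem_Cz.mp (inv_mem (mem_Cz.mpr hc))) (by rw [inv_smul_eq_iff, c1])
    generalize c⁻¹ * u * c = v at c2 c3 c4
    refine n1 (c2.symm.trans ?_).symm
    rcases c5 with e | e <;> rw [e] at c4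
    · rw [c4, mul_inv_cancel_right]
    · rw [← mul_assoc, c3, mul_assoc, mul_assoc] at c4
      rw [mul_left_cancel c4, mul_inv_cancel_right]
  have f7 : ∀ u : G, u * τ = τ * u → u • γ = γ → (∃ k, u ^ 2 ^ k = 1) → u * ρ ≠ ρ * u → u * u = 1 :=
    fun u e1 e2 e3 e4 => by
      by_contra e
      obtain ⟨n, e5⟩ := exists_sq_of_two_elt e3 e
      have e6 := (f4 u e1 e2).resolve_left fun e' => e4 (mul_inv_eq_iff_eq_mul.mp e')
      have e7 : u * u * ρ = ρ * (u * u) := by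
        rw [← mul_inv_eq_iff_eq_mul, show u * u * ρ * (u * u)⁻¹ = u * (u * ρ * u⁻¹) * u⁻¹ by group, e6,
          ← mul_assoc u τ, e1, mul_assoc τ, mul_assoc τ, e6, ← mul_assoc, tt, one_mul]
      have e8 : u ^ n • γ = γ := pow_mem (mem_stabilizer_iff.mpr e2) n
      have e9 : u ^ n * u ^ n = τ := by
        by_contra e'
        refine f6 _ ⟨e5, mem_Cz.mp (mul_mem (pow_mem (mem_Cz.mpr e1) n) (pow_mem (mem_Cz.mpr e1) n)), e'⟩
          (by rw [mul_smul, e8, e8]) ?_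
        rw [← Commute.mul_pow rfl]
        exact mem_Cz.mp (pow_mem (mem_Cz.mpr e7) n)
      have e10 : u * u ^ n = u ^ n * u := (Commute.self_pow u n).eq
      rcases f3 _ e9 e8 with e' | e' <;> rw [e'] at e10
      · exact e4 e10
      · rw [← mul_assoc, e1, mul_assoc, mul_assoc] at e10
        exact e4 (mul_left_cancel e10)
  obtain ⟨S, hS, hσ⟩ := exists_isSylowIn_ge (K := Cz τ ⊓ stabilizer G γ) (isPGroup_four h.ht h.hs)
    fun v hv => ⟨four_le_Cz h.hs hv, h.fixV hv gΓ⟩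
  have s1 : ∀ s ∈ S, s ∉ Cz ρ → s * s = 1 := fun s hs e => f7 s (mem_Cz.mp (hS.le hs).1) (hS.le hs).2
    (H9.exists_pow_eq_one_of_mem hS.pgroup hs) fun e' => e (mem_Cz.mpr e')
  have s2 : σ ∉ Cz ρ := fun e => f6 σ h.hs gΓ.2 (mem_Cz.mp e)
  have s3 : IsCyclic ↥(S ⊓ Cz ρ) := by
    by_contra e
    obtain ⟨z, hz, c, hc, e1, e2, e3⟩ := H5.exists_order_prime_not_mem_of_comm (hS.pgroup.to_le inf_le_left)
      ⟨⟨fun a b => Subtype.ext (H9.comm_of_inverted (u := σ) (fun a ha => by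
        have := s1 _ (mul_mem (hσ (right_mem_four τ σ)) ha.1) fun e =>
          s2 ((mul_mem_cancel_right (mem_inf.mp ha).2).mp e)
        rw [inv_eq_of_mul_eq_one_left h.hs.sq]
        exact eq_inv_of_mul_eq_one_left (by rw [← this]; group)) a a.2 b b.2)⟩⟩ e
    have k : ∀ z ∈ S ⊓ Cz ρ, orderOf z = 2 → z = τ := fun z hz e => by
      by_contra e'
      exact f6 z ⟨e, mem_Cz.mp (hS.le hz.1).1, e'⟩ (hS.le hz.1).2 (mem_Cz.mp hz.2)
    refine e3 ?_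
    rw [k z hz e1, k c hc (orderOf_eq_prime e2 fun e' => e3 (e' ▸ one_mem _))]
    exact mem_zpowers τ
  obtain ⟨g, hg⟩ := (Subgroup.isCyclic_iff_exists_zpowers_eq_top _).mp s3
  refine ds_of_sylow (S := S) (IsSylowIn.of_not_dvd_relIndex le_top hS.pgroup ?_) ⟨g, (hg ▸ mem_zpowers g : g ∈ S ⊓ Cz ρ).1,
    fun x hx e => s1 x hx fun e' => e (hg ▸ ⟨hx, e'⟩), fun x hx y hy e1 e2 => hg ▸ ⟨mul_mem hx hy, mem_Cz.mpr ?_⟩⟩
  · have e1 := (Cz τ ⊓ stabilizer G γ).index_mul_card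
    rw [← (Cz τ).index_mul_card, (h.tC.rebase hγ.1 h.tC.ha ga).card_eq, ← mul_assoc] at e1
    rw [relIndex_top_right, ← relIndex_mul_index hS.le, Nat.eq_of_mul_eq_mul_right Nat.card_pos e1,
      Nat.prime_two.dvd_mul, Nat.prime_two.dvd_mul]
    have := h.mod_i
    exact not_or.mpr ⟨hS.not_dvd_relIndex, not_or.mpr ⟨(h.fusA hI).odd_index h.ht, by omega⟩⟩
  · have k : ∀ x ∈ S, x ∉ zpowers g → x * ρ * x⁻¹ = τ * ρ := fun x hx e =>
      (f4 x (mem_Cz.mp (hS.le hx).1) (hS.le hx).2).resolve_left fun e' =>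
        e (hg ▸ ⟨hx, mem_Cz.mpr (mul_inv_eq_iff_eq_mul.mp e')⟩)
    rw [← mul_inv_eq_iff_eq_mul, show x * y * ρ * (x * y)⁻¹ = x * (y * ρ * y⁻¹) * x⁻¹ by group, k y hy e2,
      ← mul_assoc x τ, mem_Cz.mp (hS.le hx).1, mul_assoc τ, mul_assoc τ, k x hx e1, ← mul_assoc, tt, one_mul]

theorem normA {c : G} (hc : c * τ = τ * c) : c * σ * c⁻¹ = σ ∨ c * σ * c⁻¹ = τ * σ := by
  have h1 : I ∉ D0 τ σ := fun e => by
    obtain ⟨ρ, f⟩ := (h.dsA hI hn).exists_frm h.ht h.hs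
    have hu := f.refl_mul
    have h2 : ρ * σ ∈ D0 τ σ := by
      by_cases e3 : (ρ * σ) • α = α ∧ (ρ * σ) • β = β
      · exact h.mem_D0 hu.2.1 (H9.ne_one_of_orderOf_two hu.1) hu.2.2 h.ta h.tb h.t2.ne e3.1 e3.2
      obtain ⟨c, hc, c1, -⟩ : ∃ c : G, c * τ = τ * c ∧ (c⁻¹ * (ρ * σ) * c) • α = β ∧ (c⁻¹ * (ρ * σ) * c) • β = α :=
        (not_and_or.mp e3).elim (h.swap_C hu.2.1 (Or.inl hu.sq) h.ta) (h.swap_C hu.2.1 (Or.inl hu.sq) h.tb)
      refine h.D0_conj hc ?_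
      rcases h.swapA' hI (comm_conj hc hu.2.1) c1 (by simpa using conj_sq (g := c⁻¹) hu.sq) with e' | e' <;> rw [e']
      exacts [e, h.mul_D0 e]
    obtain ⟨c, hc, e' | e'⟩ := h2
    · exact f.conj_ne hc e'
    · exact f.conj_ne (c := c * I) (mem_Cz.mp (mul_mem (mem_Cz.mpr hc) (mem_Cz.mpr hI.it)))
        (by rw [← e', ← hI.is]; group)
  obtain ⟨j, hj, -⟩ := h.exists_j
  have h2 := h.D0_cnt hj
  rw [show {u | u ∈ D0 τ σ ∧ u • α = β} = ∅ from Set.eq_empty_of_forall_notMem fun u hu => by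
    rcases h.swapA' hI (h.refl_of_D0 hu.1).2.1 hu.2 (h.refl_of_D0 hu.1).sq with rfl | rfl
    · exact h1 hu.1
    · exact h1 (by simpa [← mul_assoc, h.tt] using h.mul_D0 hu.1), Set.ncard_empty] at h2
  have hΓ : fx (fx (Set.univ : Set Ω) τ) σ = fx Set.univ τ :=
    Set.eq_of_subset_of_ncard_le (fun x hx => hx.1) (by omega)
  have k : ∀ x : Ω, τ • x = x → (c * σ * c⁻¹) • x = x := fun x hx => by
    have := conj_smul_eq (g := c) (hΓ.ge (h.tC.inv _ (inv_mem (mem_Cz.mpr hc)) x ⟨trivial, hx⟩)).2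
    rwa [smul_inv_smul] at this
  have h3 := h.hs.conj_of_comm hc
  exact ((h.mv.mp (h.cent _ (k α h.ta) (k β h.tb) h3.2.1)).resolve_left (H9.ne_one_of_orderOf_two h3.1)).resolve_left
    h3.2.2

theorem coreA : pPrimeCore 2 G = ⊥ := by
  by_contra h0
  have hO : ¬ 2 ∣ Nat.card (pPrimeCore 2 G) := L0.not_dvd_card_pPrimeCore
  have h1 : ∀ x ∈ pPrimeCore 2 G, x * τ = τ * x → ∀ v ∈ four τ σ, x * v = v * x := fun x hx e v hv => by
    have e1 : x * v * x⁻¹ * v⁻¹ ∈ pPrimeCore 2 G := by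
      rw [mul_assoc, mul_assoc, ← mul_assoc v]
      exact mul_mem hx (Normal.conj_mem inferInstance _ (inv_mem hx) v)
    have e2 := mul_mem (H9.conj_mem_of_mem_normalizer (h.mem_N e (h.mv.mpr (Or.inr (Or.inr (h.normA hI hn e))))).2 hv)
      (inv_mem hv)
    by_contra e3
    exact not_dvd_orderOf_of_mem hO e1 (dvd_of_eq (H9.orderOf_two_of
      (fun e4 => e3 (mul_inv_eq_iff_eq_mul.mp (mul_inv_eq_one.mp e4))) (four_sq h.ht h.hs e2)).symm)
  have hc : IsMulCommutative (four τ σ) := (elemAb_four h.ht h.hs).1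
  have h2 : pPrimeCore 2 G ≤ Cz τ := CopAct.le_of_not_isCyclic (A := four τ σ)
    ⟨by rw [normalizer_eq_top]; exact le_top, by
      rw [card_four h.ht h.hs]
      exact ((Nat.Prime.coprime_iff_not_dvd Nat.prime_two).mpr hO).pow_left 2, Or.inr (solvable_of_odd hO)⟩ hc
    (fun e => h.hs.2.2 (H9.eq_of_isCyclic_of_mul_self e (right_mem_four τ σ) (left_mem_four τ σ) h.hs.sq h.tt
      (H9.ne_one_of_orderOf_two h.hs.1) h.t1))
    fun a ha a1 x hx => by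
      obtain ⟨k, k1, k2, rfl⟩ := h.fus a (H9.orderOf_two_of a1 (four_sq h.ht h.hs ha)) (h.fixV ha h.aΓ) (h.fixV ha h.bΓ)
      have e1 : ∀ y, y * (k * τ * k⁻¹) = k * τ * k⁻¹ * y → k⁻¹ * y * k * τ = τ * (k⁻¹ * y * k) := fun y e => by
        rw [show k⁻¹ * y * k * τ = k⁻¹ * (y * (k * τ * k⁻¹)) * k by group, e]; group
      have e2 := h1 _ (Normal.conj_mem' inferInstance x hx.1 k) (e1 x (mem_Cz.mp hx.2)) _
        (h.cent _ (conj_smul_eq' (by rw [k1, h.ta])) (conj_smul_eq' (by rw [k2, h.tb]))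
          (e1 τ (mem_Cz.mp (four_le_Cz h.hs ha)).symm))
      refine mem_Cz.mpr ?_
      rw [show x * τ = k * (k⁻¹ * x * k * (k⁻¹ * τ * k)) * k⁻¹ by group, e2]; group
  refine h.t1 (h.faith τ fun x => ?_)
  obtain ⟨k, hk, rfl⟩ := h.normal_trans inferInstance h0 x
  exact smul_fix (mem_Cz.mp (h2 hk)).symm h.ta

theorem oddA (hmb : (m = 3 ∧ b = 6) ∨ (m = 15 ∧ b = 10)) :
    ((m = 3 ∧ Nat.card Ω = 15) ∨ (m = 15 ∧ Nat.card Ω = 7)) ∧ Nonempty (G ≃* alternatingGroup (Fin 7)) := by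
  have hf := h.fusA hI
  obtain ⟨i, hi, i0⟩ := h.exists_i
  obtain ⟨n, hn1⟩ : ∃ n, Nat.card Ω = n + 1 := ⟨Nat.card Ω - 1, by omega⟩
  have h1 := h.t2.c1 (ci_cl ⊤ τ) fun d hd => (h.fx_cl hd).trans hi
  have h2 := h.t2.c2 (ci_cl ⊤ τ) fun d hd _ => (h.fx_cl hd).trans hi
  have h3 := h.main_cnt hi
  have h4 := h.mod_i
  rw [h.cntA hI, hn1] at h3
  rw [h.cl_stab, Set.ncard_univ, hn1, Nat.add_sub_cancel, Nat.add_sub_cancel] at h2
  rw [Set.ncard_univ, hn1] at h1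
  obtain ⟨h5, h6⟩ := num_A hmb (by omega) h1 h2 h3
  rw [H6.ncard_cl_eq_index, ← hf.ncard h.ht] at h5 h6
  rcases ds_base (h.dsA hI hn) (h.coreA hI hn) h.ht hf with ⟨Q, hQ, q1, q2⟩ | ⟨t, K, k1, k2, k3, k4, k5, -, -, k6⟩ |
    ⟨L, l1, l2, l3⟩
  · obtain ⟨a, ha⟩ := IsPGroup.iff_card.mp q1
    obtain ⟨c, -, hc⟩ := (Nat.dvd_prime_pow Nat.prime_two).mp
      (ha ▸ h.normal_card hQ fun e => h.t1 (mem_bot.mp (e ▸ q2)))
    have := h.t2.two_le
    rw [Set.ncard_univ] at this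
    rw [hc] at hn this
    rcases c with _ | c
    · simp at this
    · rw [pow_succ] at hn; omega
  · obtain ⟨g, rfl⟩ := isConj_iff.mp (hf t k1)
    have := card_le_four k2 k3 fun x hx => by
      have e1 := k5 _ (h.hs.conj g) _ (inv_mem hx)
      have e2 := h.normA hI hn (c := g⁻¹ * x * g) (by
        rw [show g⁻¹ * x * g * τ = g⁻¹ * (x * (g * τ * g⁻¹)) * g by group, k4 x hx]; group)
      have e3 : x * x = g * (g⁻¹ * x * g * σ * (g⁻¹ * x * g)⁻¹ * σ⁻¹) * g⁻¹ := by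
        nth_rewrite 2 [← inv_inv x]
        rw [← e1]
        group
      refine e2.imp (fun e => ?_) fun e => ?_ <;> rw [e3, e] <;> group
    rcases k6 with e | ⟨a, e1, e⟩ <;> rw [e] at h5 <;> nlinarith
  · have h7 := h6 l3 (by omega)
    have h8 : Nat.card G = 2520 := by rcases h7 with ⟨rfl, rfl⟩ | ⟨rfl, rfl⟩ <;> rw [h.cardG, hn1]
    obtain rfl : L = ⊤ := eq_top_of_card_eq L (l2.trans h8.symm)
    have := topEquiv.symm.isSimpleGroup (G := G)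
    exact ⟨h7.imp (fun e => ⟨e.1, by omega⟩) fun e => ⟨e.1, by omega⟩, A7.nonempty_equiv h8⟩

end St

end Cfsg.Agent.H3.Km
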