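import Cfsg.Agent.H3.Km10

/-! Doubly transitive groups with two-point stabilizer `A₄` or `A₅`: the classification. -/

set_option autoImplicit false

namespace Cfsg.Agent.H3.Km

open Subgroup MulAction GW H8

variable {G Ω : Type*} [Group G] [MulAction G Ω] [Finite G] [Finite Ω]

theorem St.main {α β : Ω} {τ σ : G} {m b : ℕ} (h : St α β τ σ m)
    (hd : (∃ I, CA α β τ σ I b) ∨ ∃ J : G, CB α β J) (hmb : (m = 3 ∧ b = 6) ∨ (m = 15 ∧ b = 10)) :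
    (m = 3 ∧ Nat.card Ω = 6) ∨
    (((m = 3 ∧ Nat.card Ω = 15) ∨ (m = 15 ∧ Nat.card Ω = 7)) ∧ Nonempty (G ≃* alternatingGroup (Fin 7))) ∨
    (m = 3 ∧ Nat.card Ω = 16 ∧ Nonempty (G ≃* ((Fin 2 → F4) ≃ᵃ[F4] (Fin 2 → F4)))) ∨
    (∃ J : G, orderOf J = 2 ∧ H7.Isolated J ∧ J ∉ center G) ∨
    (m = 15 ∧ Nat.card Ω = 12 ∧ IsSimpleGroup G) := by
  have hl : (m, b) ∈ [(3, 6), (3, 1), (3, 3), (3, 4), (15, 10), (15, 1), (15, 15), (15, 16)] ∧
      (m, m) ∈ [(3, 6), (3, 1), (3, 3), (3, 4), (15, 10), (15, 1), (15, 15), (15, 16)] ∧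
      (m, 1) ∈ [(3, 6), (3, 1), (3, 3), (3, 4), (15, 10), (15, 1), (15, 15), (15, 16)] ∧
      (m, m + 1) ∈ [(3, 6), (3, 1), (3, 3), (3, 4), (15, 10), (15, 1), (15, 15), (15, 16)] := by
    rcases hmb with ⟨rfl, rfl⟩ | ⟨rfl, rfl⟩ <;> decide
  rcases Nat.mod_two_eq_zero_or_one (Nat.card Ω) with hn | hn
  · rcases hd with ⟨I, hI⟩ | ⟨J, hJ⟩
    · rcases h.even_num hn (h.cntA hI) hl.1 fun _ => h.D0_leA hI with e | e | e | e
      · exact Or.inl ⟨e.1, e.2.2⟩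
      · exact (h.not_28 e.1 e.2.2.1 e.2.2.2 (h.fusA hI)).elim
      · omega
      · exact Or.inr (Or.inr (Or.inr (Or.inr ⟨e.1, e.2.2, h.simple_12 e.1 e.2.2 (h.fusA hI)⟩)))
    · rcases h.cntB hJ with ⟨-, e | e⟩ | ⟨h1, h2, e⟩
      · have := h.even_num hn e hl.2.2.1 (by omega)
        omega
      · have := h.even_num hn e hl.2.2.2 (by omega)
        omega
      · rcases h.even_num hn e hl.2.1 (by omega) with e | e | e | e
        · omega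
        · omega
        · exact Or.inr (Or.inr (Or.inl ⟨e.1, e.2.2.1, h.sixteen hJ h1 h2 e.1 e.2.2.1 e.2.2.2.1 e.2.2.2.2⟩))
        · omega
  · rcases hd with ⟨I, hI⟩ | ⟨J, hJ⟩
    · exact Or.inr (Or.inl (h.oddA hI hn hmb))
    · rcases h.cntB hJ with ⟨e, -⟩ | ⟨h1, h2, -⟩
      · exact (h.not_conj hn hJ e).elim
      · exact Or.inr (Or.inr (Or.inr (Or.inl ⟨J, h.j2 hJ, h.isolated hn hJ h1 h2⟩)))

omit [Finite G] [Finite Ω] in
theorem exists_St' [FaithfulSMul G Ω] (h2 : IsMultiplyPretransitive G Ω 2) {α β : Ω} (hab : α ≠ β)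
    {A : Type*} [Group A] {t s : A} {m b : ℕ} (h : AF t s m b) (e : ↥(stabilizer G α ⊓ stabilizer G β) ≃* A) :
    ∃ τ σ : G, St α β τ σ m ∧ ((∃ I, CA α β τ σ I b) ∨ ∃ J : G, CB α β J) :=
  ⟨_, _, exists_St ⟨hab, trivial, trivial, fun _ _ _ _ => trivial, fun _ _ _ _ e =>
    (is_two_pretransitive_iff.mp h2 hab e).imp fun _ h => ⟨trivial, h⟩⟩
    (fun g hg => eq_of_smul_eq_smul (α := Ω) fun x => by rw [hg, one_smul]) (h.map e.symm)⟩

end Cfsg.Agent.H3.Km
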