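import Cfsg.Agent.H5.A5Facts
import Mathlib.GroupTheory.SpecificGroups.Alternating.Simple

/-! Facts about `A₄`, `A₅` and their automorphisms of order at most two. -/

set_option autoImplicit false
set_option maxRecDepth 100000

namespace Cfsg.Agent.H3.Km

open Subgroup Equiv Equiv.Perm

/-- The facts about `A₄` (`m = 3`, `b = 6`) and `A₅` (`m = 15`, `b = 10`) that are used. -/
structure AF {A : Type*} [Group A] (τ σ : A) (m b : ℕ) : Prop where
  t1 : τ ≠ 1
  tt : τ * τ = 1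
  s1 : σ ≠ 1
  ss : σ * σ = 1
  st : σ * τ = τ * σ
  ne : σ ≠ τ
  fus : ∀ u, u ≠ 1 → u * u = 1 → ∃ k, k * τ * k⁻¹ = u
  cent : ∀ c, c * τ = τ * c → c = 1 ∨ c = τ ∨ c = σ ∨ c = τ * σ
  inv : {u : A | u ≠ 1 ∧ u * u = 1}.ncard = m
  card : Nat.card A = 4 * m
  z : ∀ z : A, (∀ k, z * k = k * z) → z = 1
  gen : m = 15 → ∀ N : Subgroup A, N.Normal → τ ∈ N → N = ⊤
  dich : ∀ φ : A ≃* A, (∀ k, φ (φ k) = k) → (∃ a, ∀ k, φ k = a * k * a⁻¹) ∨
    ({k | φ k * k = 1}.ncard = b ∧ (∀ k, φ k * k = 1 → ∃ l, φ l * l⁻¹ = k) ∧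
      ∃ k, φ k * k = 1 ∧ φ (k * τ * k⁻¹) = τ ∧ φ (k * σ * k⁻¹) = τ * σ)

theorem AF.map {A B : Type*} [Group A] [Group B] {τ σ : A} {m b : ℕ} (h : AF τ σ m b) (e : A ≃* B) :
    AF (e τ) (e σ) m b := by
  have inj := e.injective
  refine ⟨e.map_ne_one_iff.mpr h.t1, by rw [← map_mul, h.tt, map_one], e.map_ne_one_iff.mpr h.s1,
    by rw [← map_mul, h.ss, map_one], by rw [← map_mul, h.st, map_mul], fun e' => h.ne (inj e'),
    fun u h1 h2 => ?_, fun c hc => ?_, ?_, by rw [← h.card, Nat.card_congr e.toEquiv], fun z hz => ?_,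
    fun hm N hN ht => ?_, fun φ hφ => ?_⟩
  · obtain ⟨u, rfl⟩ := e.surjective u
    obtain ⟨k, rfl⟩ := h.fus u (e.map_ne_one_iff.mp h1) (inj (by rw [map_mul, h2, map_one]))
    exact ⟨e k, by simp⟩
  · obtain ⟨c, rfl⟩ := e.surjective c
    rcases h.cent c (inj (by rw [map_mul, hc, map_mul])) with rfl | rfl | rfl | rfl <;> simp
  · rw [← h.inv]
    refine Eq.symm (Set.ncard_congr (fun u _ => e u) (fun u hu => ⟨e.map_ne_one_iff.mpr hu.1, ?_⟩)
      (fun _ _ _ _ e' => inj e') fun u hu => ⟨e.symm u, ⟨e.symm.map_ne_one_iff.mpr hu.1, ?_⟩, by simp⟩)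
    · rw [← map_mul, hu.2, map_one]
    · rw [← map_mul, hu.2, map_one]
  · obtain ⟨z, rfl⟩ := e.surjective z
    rw [h.z z fun k => inj (by rw [map_mul, hz, map_mul]), map_one]
  · have := h.gen hm (N.comap e.toMonoidHom) (hN.comap _) ht
    refine eq_top_iff.mpr fun x _ => ?_
    obtain ⟨x, rfl⟩ := e.surjective x
    exact (this ▸ mem_top x : x ∈ N.comap e.toMonoidHom)
  · have k : ∀ x, ((e.trans φ).trans e.symm) x = e.symm (φ (e x)) := fun _ => rfl
    have k2 : ∀ x y, ((e.trans φ).trans e.symm) x * y = 1 ↔ φ (e x) * e y = 1 := fun x y => by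
      rw [← inj.eq_iff, map_mul, k, e.apply_symm_apply, map_one]
    rcases h.dich ((e.trans φ).trans e.symm) (fun x => by simp [hφ]) with ⟨a, ha⟩ | ⟨h1, h2, x, h3, h4, h5⟩
    · refine Or.inl ⟨e a, fun x => ?_⟩
      obtain ⟨x, rfl⟩ := e.surjective x
      rw [← map_inv, ← map_mul, ← map_mul, ← ha, k, e.apply_symm_apply]
    · refine Or.inr ⟨?_, fun x hx => ?_, e x, (k2 x x).mp h3, ?_, ?_⟩
      · rw [← h1]
        exact (Set.ncard_congr (fun u _ => e u) (fun u hu => (k2 u u).mp hu) (fun _ _ _ _ e' => inj e')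
          fun u hu => ⟨e.symm u, (k2 _ _).mpr (by simpa using hu), by simp⟩).symm
      · obtain ⟨x, rfl⟩ := e.surjective x
        obtain ⟨l, rfl⟩ := h2 x ((k2 x x).mpr hx)
        exact ⟨e l, by simp⟩
      · rw [k, e.symm_apply_eq] at h4
        simpa using h4
      · rw [k, e.symm_apply_eq] at h5
        simpa using h5

theorem dich_of {n : ℕ} {τ σ : alternatingGroup (Fin n)} {b : ℕ} {φ : alternatingGroup (Fin n) ≃* alternatingGroup (Fin n)}
    (hφ : ∀ k, φ (φ k) = k) {s : Perm (Fin n)} (hs : ∀ k, (φ k : Perm (Fin n)) = s * k * s⁻¹)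
    (h1 : ∀ s : Perm (Fin n), (∀ k : alternatingGroup (Fin n), s * s * k = k * (s * s)) → s * s = 1)
    (h2 : ∀ s : Perm (Fin n), sign s ≠ 1 ∧ s * s = 1 →
      (Finset.univ.filter fun k : alternatingGroup (Fin n) => s * k * s * k = 1).card = b ∧
      (∀ k : alternatingGroup (Fin n), s * k * s * k = 1 → ∃ l : alternatingGroup (Fin n), s * l * s = k * l) ∧
      ∃ k : alternatingGroup (Fin n), s * k * s * k = 1 ∧ s * k * τ = τ * (s * k) ∧
        s * k * σ = τ * σ * (s * k)) :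
    (∃ a, ∀ k, φ k = a * k * a⁻¹) ∨
    ({k | φ k * k = 1}.ncard = b ∧ (∀ k, φ k * k = 1 → ∃ l, φ l * l⁻¹ = k) ∧
      ∃ k, φ k * k = 1 ∧ φ (k * τ * k⁻¹) = τ ∧ φ (k * σ * k⁻¹) = τ * σ) := by
  by_cases e : sign s = 1
  · exact Or.inl ⟨⟨s, mem_alternatingGroup.mpr e⟩, fun k => Subtype.ext (hs k)⟩
  have h3 : s * s = 1 := h1 s fun k => by
    have := congrArg Subtype.val (hφ k)
    rw [hs, hs] at this
    nth_rewrite 2 [← this]
    group
  have h4 := inv_eq_of_mul_eq_one_left h3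
  obtain ⟨h5, h6, x, h7, h8, h9⟩ := h2 s ⟨e, h3⟩
  have k : ∀ k, φ k * k = 1 ↔ s * k * s * k = 1 := fun k => by
    rw [Subtype.ext_iff, Subgroup.coe_mul, hs, h4]; rfl
  refine Or.inr ⟨?_, fun y hy => ?_, x, (k x).mpr h7, Subtype.ext ?_, Subtype.ext ?_⟩
  · rw [← h5, ← Set.ncard_coe_finset]
    congr 1
    ext y
    simp [k]
  · obtain ⟨l, hl⟩ := h6 y ((k y).mp hy)
    exact ⟨l, Subtype.ext (by rw [Subgroup.coe_mul, hs, h4, hl, Subgroup.coe_inv, mul_inv_cancel_right])⟩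
  · rw [hs, Subgroup.coe_mul, Subgroup.coe_mul, Subgroup.coe_inv, show s * (x * τ * (x : Perm (Fin n))⁻¹) * s⁻¹ = s * x * τ * (s * x)⁻¹ by group,
      h8, mul_inv_cancel_right]
  · rw [hs, Subgroup.coe_mul, Subgroup.coe_mul, Subgroup.coe_inv, show s * (x * σ * (x : Perm (Fin n))⁻¹) * s⁻¹ = s * x * σ * (s * x)⁻¹ by group,
      h9, mul_inv_cancel_right, Subgroup.coe_mul]

/-- the elements on which `φ` agrees with conjugation by `s` -/
def eqz {n : ℕ} (φ : alternatingGroup (Fin n) ≃* alternatingGroup (Fin n)) (s : Perm (Fin n)) :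
    Subgroup (alternatingGroup (Fin n)) :=
  ((alternatingGroup (Fin n)).subtype.comp φ.toMonoidHom).eqLocus
    ((MulAut.conj s).toMonoidHom.comp (alternatingGroup (Fin n)).subtype)

theorem mem_eqz {n : ℕ} {φ : alternatingGroup (Fin n) ≃* alternatingGroup (Fin n)} {s : Perm (Fin n)}
    {k : alternatingGroup (Fin n)} : k ∈ eqz φ s ↔ (φ k : Perm (Fin n)) = s * k * s⁻¹ := Iff.rfl

def t4 : alternatingGroup (Fin 4) := ⟨swap 0 1 * swap 2 3, mem_alternatingGroup.mpr (by decide)⟩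
def s4 : alternatingGroup (Fin 4) := ⟨swap 0 2 * swap 1 3, mem_alternatingGroup.mpr (by decide)⟩
def a4 : alternatingGroup (Fin 4) := ⟨swap 0 1 * swap 1 2, mem_alternatingGroup.mpr (by decide)⟩
def t5 : alternatingGroup (Fin 5) := ⟨swap 2 3 * swap 0 4, mem_alternatingGroup.mpr (by decide)⟩
def s5 : alternatingGroup (Fin 5) := ⟨swap 2 0 * swap 3 4, mem_alternatingGroup.mpr (by decide)⟩
def a5 : alternatingGroup (Fin 5) := ⟨swap 0 1 * swap 1 2, mem_alternatingGroup.mpr (by decide)⟩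

theorem aut4 : ∀ a : alternatingGroup (Fin 4), a ≠ 1 ∧ a * a * a = 1 → ∀ b : alternatingGroup (Fin 4),
    b ≠ 1 ∧ b * b = 1 → ∃ s : Perm (Fin 4), s * a4 = a * s ∧ s * t4 = b * s := by decide +kernel

theorem aut5 : ∀ a : alternatingGroup (Fin 5), a ≠ 1 ∧ a * a * a = 1 → ∀ b : alternatingGroup (Fin 5),
    b ≠ 1 ∧ b * b = 1 → (a * b) ^ 5 = 1 → ∃ s : Perm (Fin 5), s * a5 = a * s ∧ s * t5 = b * s := by
  decide +kernel

theorem ncard_of_filter {A : Type*} [Fintype A] (p : A → Prop) [DecidablePred p] {n : ℕ}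
    (h : (Finset.univ.filter p).card = n) : {x | p x}.ncard = n := by
  rw [← h, ← Set.ncard_coe_finset]
  congr 1
  ext y
  simp

theorem af4 : AF t4 s4 3 6 := by
  refine ⟨by decide, by decide, by decide, by decide, by decide, by decide, by decide +kernel,
    by decide +kernel, ncard_of_filter _ (by decide +kernel), ?_, by decide +kernel, fun h => absurd h (by decide),
    fun φ hφ => ?_⟩
  · rw [Nat.card_eq_fintype_card]; decide +kernel
  obtain ⟨s, h1, h2⟩ := aut4 (φ a4) ⟨φ.map_ne_one_iff.mpr (by decide), by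
    rw [← map_mul, ← map_mul, φ.map_eq_one_iff]; decide⟩ (φ t4) ⟨φ.map_ne_one_iff.mpr (by decide), by
    rw [← map_mul, φ.map_eq_one_iff]; decide⟩
  have h3 : a4 ∈ eqz φ s := mem_eqz.mpr (by rw [h1, mul_inv_cancel_right])
  have h4 : t4 ∈ eqz φ s := mem_eqz.mpr (by rw [h2, mul_inv_cancel_right])
  refine dich_of hφ (s := s) (fun k => ?_) (by decide +kernel) (by decide +kernel)
  obtain ⟨i, j, l, rfl⟩ := (by decide +kernel : ∀ k : alternatingGroup (Fin 4), ∃ i j l : Fin 3,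
    k = a4 ^ i.1 * t4 ^ j.1 * a4 ^ l.1) k
  exact mem_eqz.mp (mul_mem (mul_mem (pow_mem h3 _) (pow_mem h4 _)) (pow_mem h3 _))

theorem af5 : AF t5 s5 15 10 := by
  have hs : IsSimpleGroup (alternatingGroup (Fin 5)) := alternatingGroup.isSimpleGroup (by simp)
  refine ⟨by decide, by decide, by decide, by decide, by decide, by decide, by decide +kernel,
    by decide +kernel, ncard_of_filter _ H5.a5_card_invol, H5.a5_card, by decide +kernel,
    fun _ N hN ht => hN.eq_bot_or_eq_top.resolve_left fun e => absurd (mem_bot.mp (e ▸ ht)) (by decide),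
    fun φ hφ => ?_⟩
  obtain ⟨s, h1, h2⟩ := aut5 (φ a5) ⟨φ.map_ne_one_iff.mpr (by decide), by
    rw [← map_mul, ← map_mul, φ.map_eq_one_iff]; decide⟩ (φ t5) ⟨φ.map_ne_one_iff.mpr (by decide), by
    rw [← map_mul, φ.map_eq_one_iff]; decide⟩ (by rw [← map_mul, ← map_pow, φ.map_eq_one_iff]; decide)
  have h3 : a5 ∈ eqz φ s := mem_eqz.mpr (by rw [h1, mul_inv_cancel_right])
  have h4 : t5 ∈ eqz φ s := mem_eqz.mpr (by rw [h2, mul_inv_cancel_right])
  have key : ∀ (p : ℕ) [Fact p.Prime] (x : alternatingGroup (Fin 5)), x ∈ eqz φ s → x ^ p = 1 → x ≠ 1 →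
      p ∣ Nat.card (eqz φ s) := fun p _ x hx e1 e2 => orderOf_eq_prime e1 e2 ▸ (eqz φ s).orderOf_dvd_natCard hx
  have := Fact.mk Nat.prime_five
  have h5 := key 2 _ h4 (by decide) (by decide)
  have h6 := key 3 _ h3 (by decide) (by decide)
  have h7 := key 5 _ (mul_mem h3 h4) (by decide) (by decide)
  have h8 := (eqz φ s).card_mul_index
  rw [H5.a5_card] at h8
  obtain ⟨c, hc⟩ : 30 ∣ Nat.card (eqz φ s) := by omega
  have h9 : eqz φ s = ⊤ := by
    have h10 : c * (eqz φ s).index = 2 := by rw [hc, mul_assoc] at h8; omega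
    rcases (Nat.dvd_prime Nat.prime_two).mp (Dvd.intro_left c h10) with e | e
    · exact index_eq_one.mp e
    · exact (normal_of_index_eq_two e).eq_bot_or_eq_top.resolve_left fun e =>
        absurd (mem_bot.mp (e ▸ h4)) (by decide)
  exact dich_of hφ (s := s) (fun k => mem_eqz.mp (h9 ▸ mem_top k)) (by decide +kernel) (by decide +kernel)

end Cfsg.Agent.H3.Km
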