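import Cfsg.Agent.H6.Count

/-! Counting in doubly transitive actions. -/

set_option autoImplicit false

namespace Cfsg.Agent.H3.Km

open Subgroup MulAction

variable {G Ω : Type*} [Group G] [MulAction G Ω]

/-- `Y` acts doubly transitively on `Δ`, with base pair `α ≠ β`. -/
structure T2 (Y : Subgroup G) (Δ : Set Ω) (α β : Ω) : Prop where
  ne : α ≠ β
  ha : α ∈ Δ
  hb : β ∈ Δ
  inv : ∀ y ∈ Y, ∀ x ∈ Δ, y • x ∈ Δ
  ex : ∀ x ∈ Δ, ∀ y ∈ Δ, x ≠ y → ∃ g ∈ Y, g • α = x ∧ g • β = y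

/-- fixed points of `g` in `Δ` -/
def fx (Δ : Set Ω) (g : G) : Set Ω := {x | x ∈ Δ ∧ g • x = x}

/-- `D` is invariant under conjugation by `Y` -/
def CI (Y : Subgroup G) (D : Set G) : Prop := ∀ y ∈ Y, ∀ d ∈ D, y * d * y⁻¹ ∈ D

theorem conj_smul (g d : G) (x : Ω) : (g * d * g⁻¹) • g • x = g • d • x := by
  rw [mul_smul, mul_smul, inv_smul_smul]

theorem conj_smul_eq {g d : G} {x y : Ω} (h : d • x = y) : (g * d * g⁻¹) • g • x = g • y := by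
  rw [conj_smul, h]

theorem conj_smul_eq' {g d : G} {x y : Ω} (h : d • g • x = g • y) : (g⁻¹ * d * g) • x = y := by
  rw [mul_smul, mul_smul, h, inv_smul_smul]

theorem smul_fix {g d : G} {x : Ω} (hc : d * g = g * d) (h : d • x = x) : d • g • x = g • x := by
  rw [← mul_smul, hc, mul_smul, h]

variable [Finite G] [Finite Ω]

theorem cnt {Y : Subgroup G} {D : Set G} (hD : CI Y D) {P : Set Ω} {p : Ω}
    (hP : ∀ x ∈ P, ∃ g ∈ Y, g • p = x) (r : G → Ω → Prop)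
    (hr : ∀ g ∈ Y, ∀ d x, r d x → r (g * d * g⁻¹) (g • x)) {m : ℕ}
    (hm : ∀ d ∈ D, {x | x ∈ P ∧ r d x}.ncard = m) :
    D.ncard * m = P.ncard * {d | d ∈ D ∧ r d p}.ncard := by
  refine H6.ncard_mul_eq_of_rel D P r hm fun x hx => ?_
  obtain ⟨g, hg, rfl⟩ := hP x hx
  refine Eq.symm (Set.ncard_congr (fun d _ => g * d * g⁻¹) (fun d hd => ⟨hD g hg d hd.1, hr g hg d p hd.2⟩)
    (fun a b _ _ e => by simpa using e) fun d hd => ⟨g⁻¹ * d * g⁻¹⁻¹, ⟨hD _ (inv_mem hg) d hd.1, ?_⟩, by group⟩)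
  have := hr _ (inv_mem hg) d _ hd.2
  rwa [inv_smul_smul] at this

theorem card_eq_of_trans {Y : Subgroup G} {P : Set Ω} {p : Ω} (h1 : ∀ g ∈ Y, g • p ∈ P)
    (h2 : ∀ x ∈ P, ∃ g ∈ Y, g • p = x) : Nat.card Y = P.ncard * Nat.card ↥(Y ⊓ stabilizer G p) := by
  refine H6.ncard_eq_mul_of_fibers (fun g : G => g • p) Y P h1 fun x hx => ?_
  obtain ⟨g, hg, rfl⟩ := h2 x hx
  rw [← H6.ncard_subgroup]
  refine Eq.symm (Set.ncard_congr (fun d _ => g * d) (fun d hd => ⟨Y.mul_mem hg hd.1, ?_⟩)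
    (fun a b _ _ e => mul_left_cancel e) fun d hd => ⟨g⁻¹ * d, ⟨Y.mul_mem (Y.inv_mem hg) hd.1, ?_⟩, by group⟩)
  · rw [mul_smul, mem_stabilizer_iff.mp hd.2]
  · exact mem_stabilizer_iff.mpr (by rw [mul_smul, show d • p = g • p from hd.2, inv_smul_smul])

omit [Finite G] in
theorem fx_modEq {Δ : Set Ω} {g : G} (h1 : ∀ x ∈ Δ, g • x ∈ Δ) {p : ℕ} [Fact p.Prime]
    (h2 : ∀ x ∈ Δ, g ^ p • x = x) : (fx Δ g).ncard ≡ Δ.ncard [MOD p] := by
  classical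
  have := Fintype.ofFinite Δ
  let f : Function.End Δ := fun x => ⟨g • x.1, h1 _ x.2⟩
  have k : ∀ n (x : Δ), ((f ^ n) x : Ω) = g ^ n • x.1 := fun n => by
    induction n with
    | zero => intro x; rw [pow_zero, pow_zero, one_smul]; rfl
    | succ n ih => intro x; rw [pow_succ, pow_succ, mul_smul]; exact ih (f x)
  have h3 := Equiv.Perm.card_fixedPoints_modEq (f := f) (p := p) (n := 1)
    (funext fun x => Subtype.ext (by rw [pow_one, k, h2 _ x.2]; rfl))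
  rw [← Nat.card_eq_fintype_card, ← Nat.card_eq_fintype_card, Nat.card_coe_set_eq, Nat.card_coe_set_eq] at h3
  refine Nat.ModEq.trans (by
    rw [Set.ncard_congr (s := f.fixedPoints) (t := fx Δ g) (fun x _ => x.1)
      (fun x hx => ⟨x.2, congrArg Subtype.val hx⟩) (fun _ _ _ _ e => Subtype.ext e)
      fun x hx => ⟨⟨x, hx.1⟩, Subtype.ext hx.2, rfl⟩]) h3.symm

omit [Finite G] in
theorem fx_mod_two {Δ : Set Ω} {g : G} (h1 : ∀ x ∈ Δ, g • x ∈ Δ) (h2 : ∀ x ∈ Δ, g • g • x = x) :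
    (fx Δ g).ncard % 2 = Δ.ncard % 2 :=
  fx_modEq h1 fun x hx => by rw [pow_two, mul_smul, h2 x hx]

omit [Finite G] [Finite Ω] in
theorem fx_conj {Δ : Set Ω} {g : G} (h1 : ∀ x ∈ Δ, g • x ∈ Δ) (h2 : ∀ x ∈ Δ, g⁻¹ • x ∈ Δ) (d : G) :
    (fx Δ (g * d * g⁻¹)).ncard = (fx Δ d).ncard :=
  Eq.symm (Set.ncard_congr (fun x _ => g • x) (fun x hx => ⟨h1 x hx.1, conj_smul_eq hx.2⟩)
    (fun _ _ _ _ e => smul_left_cancel g e) fun x hx => ⟨g⁻¹ • x, ⟨h2 x hx.1, by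
      rw [← mul_smul, ← smul_left_cancel_iff g, ← mul_smul, ← mul_assoc, hx.2, smul_inv_smul]⟩,
      smul_inv_smul g x⟩)

namespace T2

variable {Y : Subgroup G} {Δ : Set Ω} {α β : Ω} (h : T2 Y Δ α β)
include h

omit [Finite G] [Finite Ω] in
theorem rebase {x y : Ω} (hx : x ∈ Δ) (hy : y ∈ Δ) (hne : x ≠ y) : T2 Y Δ x y := by
  obtain ⟨g, hg, rfl, rfl⟩ := h.ex x hx y hy hne
  refine ⟨hne, hx, hy, h.inv, fun u hu v hv e => ?_⟩
  obtain ⟨k, hk, rfl, rfl⟩ := h.ex u hu v hv e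
  exact ⟨k * g⁻¹, mul_mem hk (inv_mem hg), by rw [mul_smul, inv_smul_smul], by rw [mul_smul, inv_smul_smul]⟩

omit [Finite G] [Finite Ω] in
theorem exists_ne (x : Ω) : ∃ y ∈ Δ, x ≠ y := by
  by_cases e : x = α
  exacts [⟨β, h.hb, e ▸ h.ne⟩, ⟨α, h.ha, e⟩]

omit [Finite G] [Finite Ω] in
theorem trans (x : Ω) (hx : x ∈ Δ) : ∃ g ∈ Y, g • α = x := by
  obtain ⟨y, hy, e⟩ := h.exists_ne x
  obtain ⟨g, hg, h1, -⟩ := h.ex x hx y hy e
  exact ⟨g, hg, h1⟩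

omit [Finite G] [Finite Ω] in
theorem trans2 (x : Ω) (hx : x ∈ Δ \ {α}) : ∃ g ∈ Y ⊓ stabilizer G α, g • β = x := by
  obtain ⟨g, hg, h1, h2⟩ := h.ex α h.ha x hx.1 (Ne.symm hx.2)
  exact ⟨g, ⟨hg, h1⟩, h2⟩

omit [Finite G] in
theorem two_le : 2 ≤ Δ.ncard := (Set.one_lt_ncard (Set.toFinite _)).mpr ⟨α, h.ha, β, h.hb, h.ne⟩

omit [Finite G] [Finite Ω] in
theorem ncard_diff : (Δ \ {α}).ncard = Δ.ncard - 1 := Set.ncard_sdiff_singleton_of_mem h.ha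

omit [Finite G] [Finite Ω] in
theorem fx_conj {g : G} (hg : g ∈ Y) (d : G) : (fx Δ (g * d * g⁻¹)).ncard = (fx Δ d).ncard :=
  Km.fx_conj (h.inv g hg) (h.inv _ (inv_mem hg)) d

theorem card_stab : Nat.card ↥(Y ⊓ stabilizer G α) =
    (Δ.ncard - 1) * Nat.card ↥(Y ⊓ stabilizer G α ⊓ stabilizer G β) := by
  rw [← h.ncard_diff]
  refine card_eq_of_trans (fun g hg => ⟨h.inv g hg.1 β h.hb, fun e => h.ne ?_⟩) h.trans2
  exact smul_left_cancel g ((mem_stabilizer_iff.mp hg.2).trans (Eq.symm e))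

theorem card_eq : Nat.card Y = Δ.ncard * Nat.card ↥(Y ⊓ stabilizer G α) :=
  card_eq_of_trans (fun g hg => h.inv g hg α h.ha) h.trans

variable {D : Set G} (hD : CI Y D)
include hD

theorem c1 {f : ℕ} (hf : ∀ d ∈ D, (fx Δ d).ncard = f) :
    D.ncard * f = Δ.ncard * {d | d ∈ D ∧ d • α = α}.ncard :=
  cnt hD h.trans (fun d x => d • x = x) (fun _ _ _ _ e => conj_smul_eq e) hf

theorem c2 {f : ℕ} (hf : ∀ d ∈ D, d • α = α → (fx Δ d).ncard = f) :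
    {d | d ∈ D ∧ d • α = α}.ncard * (f - 1) =
      (Δ.ncard - 1) * {d | d ∈ D ∧ d • α = α ∧ d • β = β}.ncard := by
  have := cnt (Y := Y ⊓ stabilizer G α) (D := {d | d ∈ D ∧ d • α = α}) (fun y hy d hd =>
    ⟨hD y hy.1 d hd.1, by have := conj_smul_eq (g := y) hd.2; rwa [mem_stabilizer_iff.mp hy.2] at this⟩)
    h.trans2 (fun d x => d • x = x) (fun _ _ _ _ e => conj_smul_eq e) (m := f - 1) fun d hd => by
      rw [← hf d hd.1 hd.2, ← Set.ncard_sdiff_singleton_of_mem (show α ∈ fx Δ d from ⟨h.ha, hd.2⟩)]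
      congr 1
      ext x
      exact ⟨fun e => ⟨⟨e.1.1, e.2⟩, e.1.2⟩, fun e => ⟨⟨e.1.1, e.2⟩, e.1.2⟩⟩
  rw [this, h.ncard_diff]
  simp only [Set.mem_ofPred_eq, and_assoc]

theorem c3 (hY : ∀ d ∈ D, d ∈ Y) : D.ncard = {d | d ∈ D ∧ d • α = α}.ncard +
    (Δ.ncard - 1) * {d | d ∈ D ∧ d • α = β}.ncard := by
  have := cnt (Y := Y ⊓ stabilizer G α) (D := {d | d ∈ D ∧ d • α ≠ α}) (fun y hy d hd =>
    ⟨hD y hy.1 d hd.1, fun e => hd.2 (smul_left_cancel y (by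
      rw [← conj_smul, mem_stabilizer_iff.mp hy.2, e]))⟩)
    h.trans2 (fun d x => d • α = x) (fun g hg d x e => by
      have := conj_smul_eq (g := g) e; rwa [mem_stabilizer_iff.mp hg.2] at this) (m := 1) fun d hd => by
      rw [Set.ncard_eq_one]
      exact ⟨d • α, Set.eq_singleton_iff_unique_mem.mpr
        ⟨⟨⟨h.inv d (hY d hd.1) α h.ha, hd.2⟩, rfl⟩, fun x hx => hx.2.symm⟩⟩
  rw [mul_one, h.ncard_diff] at this
  rw [← Set.ncard_inter_add_ncard_sdiff_eq_ncard D {d | d • α = α}]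
  congr 1
  refine this.trans ?_
  congr 2
  ext d
  exact ⟨fun e => ⟨e.1.1, e.2⟩, fun e => ⟨⟨e.1, fun e' => h.ne (e'.symm.trans e.2)⟩, e.2⟩⟩

/-- `E f (f - 1) = (N - f) B` -/
theorem c4 (hY : ∀ d ∈ D, d ∈ Y) {f : ℕ} (hf : ∀ d ∈ D, (fx Δ d).ncard = f + 1) :
    {d | d ∈ D ∧ d • α = β}.ncard * ((f + 1) * f) + (f + 1) * {d | d ∈ D ∧ d • α = α ∧ d • β = β}.ncard =
      Δ.ncard * {d | d ∈ D ∧ d • α = α ∧ d • β = β}.ncard := by
  have h1 := h.c1 hD hf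
  have h2 := h.c2 hD fun d hd _ => hf d hd
  have h3 := h.c3 hD hY
  obtain ⟨N, hN⟩ : ∃ N, Δ.ncard = N + 1 + 1 := ⟨Δ.ncard - 2, by have := h.two_le; omega⟩
  rw [hN] at h1 h2 h3 ⊢
  rw [h3] at h1
  simp only [Nat.add_sub_cancel] at h1 h2
  refine Nat.eq_of_mul_eq_mul_left (Nat.succ_pos N) ?_
  zify at h1 h2 ⊢
  linear_combination f * h1 + (N + 1 - f) * h2

/-- elements with exactly one fixed point -/
theorem c5 (hY : ∀ d ∈ D, d ∈ Y) (hf : ∀ d ∈ D, (fx Δ d).ncard = 1) {x : Ω} (hx : x ∈ Δ) :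
    {d | d ∈ D ∧ d • x = x}.ncard = {d | d ∈ D ∧ d • α = β}.ncard ∧
      D.ncard = Δ.ncard * {d | d ∈ D ∧ d • α = β}.ncard := by
  have h1 := h.c1 hD hf
  have h3 := h.c3 hD hY
  obtain ⟨y, hy, e⟩ := h.exists_ne x
  have h4 := (h.rebase hx hy e).c1 hD hf
  obtain ⟨N, hN⟩ : ∃ N, Δ.ncard = N + 1 + 1 := ⟨Δ.ncard - 2, by have := h.two_le; omega⟩
  rw [hN] at h1 h3 h4 ⊢
  rw [Nat.add_sub_cancel] at h3
  have h5 : {d | d ∈ D ∧ d • α = α}.ncard = {d | d ∈ D ∧ d • α = β}.ncard :=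
    Nat.eq_of_mul_eq_mul_left (Nat.succ_pos N) (by linarith)
  exact ⟨Nat.eq_of_mul_eq_mul_left (Nat.succ_pos (N + 1)) (by rw [← h5]; linarith), by rw [← h5]; linarith⟩

end T2

omit [Finite G] [Finite Ω] in
/-- a nontrivial normal subgroup of a doubly transitive group is transitive -/
theorem T2.normal_trans {α β : Ω} (h : T2 (⊤ : Subgroup G) Set.univ α β) {N : Subgroup G} (hN : N.Normal)
    {g : G} (hg : g ∈ N) {z : Ω} (hz : g • z ≠ z) (x : Ω) : ∃ k ∈ N, k • α = x := by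
  by_cases e : x = α
  · exact ⟨1, one_mem _, by rw [one_smul, e]⟩
  obtain ⟨k, -, h1, h2⟩ := (h.rebase trivial trivial hz.symm).ex α trivial x trivial (Ne.symm e)
  exact ⟨k * g * k⁻¹, hN.conj_mem g hg k, by rw [← h1, conj_smul, h2]⟩

/-- sharply doubly transitive of even degree: the degree is prime to three -/
theorem T2.not_three_dvd {Y : Subgroup G} {Δ : Set Ω} {α β : Ω} (h : T2 Y Δ α β)
    (hs : ∀ y ∈ Y, y • α = α → y • β = β → y * y = 1 ∧ ∀ x ∈ Δ, y • x = x) (h2 : Δ.ncard % 2 = 0) :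
    ¬ 3 ∣ Δ.ncard := by
  intro h3
  have hs' : ∀ y ∈ Y, ∀ u ∈ Δ, ∀ v ∈ Δ, u ≠ v → y • u = u → y • v = v → y * y = 1 ∧ ∀ x ∈ Δ, y • x = x := by
    intro y hy u hu v hv e e1 e2
    obtain ⟨g, hg, rfl, rfl⟩ := h.ex u hu v hv e
    obtain ⟨h4, h5⟩ := hs _ (mul_mem (mul_mem (inv_mem hg) hy) hg) (conj_smul_eq' e1) (conj_smul_eq' e2)
    refine ⟨?_, fun x hx => ?_⟩
    · rw [show y * y = g * (g⁻¹ * y * g * (g⁻¹ * y * g)) * g⁻¹ by group, h4]; group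
    · have := conj_smul_eq (g := g) (h5 _ (h.inv _ (inv_mem hg) x hx))
      rwa [smul_inv_smul, show g * (g⁻¹ * y * g) * g⁻¹ = y by group] at this
  have nf : ∀ y ∈ Y, (∃ x ∈ Δ, y • x ≠ x) → (fx Δ y).ncard ≠ 1 → ∀ x ∈ Δ, y • x ≠ x := by
    rintro y hy ⟨z, hz, e⟩ h4 x hx e1
    refine h4 (Set.ncard_eq_one.mpr ⟨x, Set.eq_singleton_iff_unique_mem.mpr ⟨⟨hx, e1⟩, fun v hv => ?_⟩⟩)
    by_contra e2
    exact e ((hs' y hy v hv.1 x hx e2 hv.2 e1).2 z hz)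
  obtain ⟨⟨g, hg⟩, hg3⟩ := exists_prime_orderOf_dvd_card' (G := Y) 3 (h.card_eq ▸ h3.mul_right _)
  rw [← orderOf_coe] at hg3
  have g3 : g ^ 3 = 1 := hg3 ▸ pow_orderOf_eq_one g
  have g2 : g * g ≠ 1 := fun e => by
    have := orderOf_dvd_of_pow_eq_one (show g ^ 2 = 1 by rw [pow_two, e])
    rw [show orderOf g = 3 from hg3] at this
    omega
  have h4 : ∀ x ∈ Δ, g • x ≠ x := nf g hg (by
    by_contra e
    push Not at e
    exact g2 (hs g hg (e α h.ha) (e β h.hb)).1) fun e => by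
      have := fx_modEq (p := 3) (h.inv g hg) fun x _ => by rw [g3, one_smul]
      rw [e, Nat.ModEq] at this
      omega
  have hδ := h.inv g hg α h.ha
  have h5 := h4 α h.ha
  have h' := h.rebase h.ha hδ h5.symm
  obtain ⟨x, hx, x1, x2⟩ := h'.ex _ hδ α h.ha h5
  have h6 : ∀ z ∈ Δ, x • z ≠ z := nf x hx ⟨α, h.ha, x1 ▸ h5⟩ fun e => by
    have := fx_mod_two (h.inv x hx) fun z hz => by
      rw [← mul_smul]
      exact (hs' _ (mul_mem hx hx) α h.ha _ hδ h5.symm (by rw [mul_smul, x1, x2])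
        (by rw [mul_smul, x2, x1])).2 z hz
    omega
  have agree : ∀ a ∈ Y, ∀ b ∈ Y, a • α = b • α → a • g • α = b • g • α → ∀ z ∈ Δ, a • z = b • z :=
    fun a ha b hb e1 e2 z hz => by
      have := (hs' _ (mul_mem (inv_mem hb) ha) α h.ha _ hδ h5.symm (by rw [mul_smul, e1, inv_smul_smul])
        (by rw [mul_smul, e2, inv_smul_smul])).2 z hz
      rwa [mul_smul, inv_smul_eq_iff] at this
  have h7 : g • g • α ≠ α := fun e => h5 (by
    have : g • g • g • α = α := by rw [← mul_smul, ← mul_smul, ← pow_three', g3, one_smul]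
    rwa [e] at this)
  have h8 : ∀ z ∈ Δ \ {α, g • α}, ∃ p ∈ Y, p • α = g • α ∧ p • z = z := fun z hz => by
    simp only [Set.mem_sdiff, Set.mem_insert_iff, Set.mem_singleton_iff, not_or] at hz
    exact (h.rebase h.ha hz.1 (Ne.symm hz.2.1)).ex _ hδ z hz.1 (Ne.symm hz.2.2)
  choose! p hp p1 p2 using h8
  have h9 : g • g • α ∈ Δ \ {α, g • α} := ⟨h.inv g hg _ hδ, by
    simp only [Set.mem_insert_iff, Set.mem_singleton_iff, not_or]
    exact ⟨h7, h4 _ hδ⟩⟩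
  refine absurd (Set.ncard_le_ncard_of_injOn (s := Δ \ {α, g • α}) (t := (Δ \ {α, g • α}) \ {g • g • α})
    (fun z => p z • g • α) (fun z hz => ⟨⟨h.inv _ (hp z hz) _ hδ, ?_⟩, fun e => ?_⟩) fun z hz w hw e => ?_)
    (not_le.mpr (Set.ncard_sdiff_singleton_lt_of_mem h9))
  · rintro (e | e)
    · exact h6 z hz.1 ((agree _ (hp z hz) x hx ((p1 z hz).trans x1.symm) (e.trans x2.symm) z hz.1).symm.trans
        (p2 z hz))
    · exact h5 (smul_left_cancel (p z) (e.trans (p1 z hz).symm))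
  · exact h4 z hz.1 ((agree _ (hp z hz) g hg (p1 z hz) e z hz.1).symm.trans (p2 z hz))
  · by_contra e1
    have e2 := agree _ (hp z hz) _ (hp w hw) ((p1 z hz).trans (p1 w hw).symm) e w hw.1
    exact h5 ((p1 z hz).symm.trans
      ((hs' _ (hp z hz) z hz.1 w hw.1 e1 (p2 z hz) (e2.trans (p2 w hw))).2 α h.ha))

end Cfsg.Agent.H3.Km
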