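import Cfsg.Agent.H3.Km1

/-! Arithmetic for doubly transitive groups with two-point stabilizer `A₄` or `A₅`. -/

set_option autoImplicit false

namespace Cfsg.Agent.H3.Km

theorem Nm.eq {k w r u : ℕ} (h : Nm k w) (hu : k * r = 2 * u) :
    r ∣ u ∧ (w * (r * r) = 8 * u * u + 6 * r * u + r * r ∨ w * (r * r) + 6 * r * u = 8 * u * u + r * r) := by
  obtain ⟨⟨k, rfl⟩, h⟩ := h
  obtain rfl : u = k * r := by linarith
  refine ⟨Dvd.intro_left k rfl, h.imp (fun e => by rw [e]; ring) ?_⟩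
  rintro ⟨m, e, rfl⟩
  zify at e ⊢
  rw [show (m : ℤ) = 2 * k - 1 by linarith]
  ring

set_option synthInstance.maxSize 2000 in
theorem num_fin : ∀ mb ∈ [(3, 6), (3, 1), (3, 3), (3, 4), (15, 10), (15, 1), (15, 15), (15, 16)], ∀ c < 3,
    ∀ r < 32, r ∣ mb.1 + mb.2 → ∀ j < 200, ((j + 1) % 2 = 0 ∧ (j + 1) % 3 ≠ 0 ∧ (mb.2 = 10 → c ≤ 1) ∧ r ∣ 1 + c * (j + 1)) →
    (mb.1 + mb.2 * (j + 1 + c * (j + 1) * j) =
      8 * (1 + c * (j + 1)) * (1 + c * (j + 1)) + 6 * r * (1 + c * (j + 1)) + r * r ∨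
    mb.1 + mb.2 * (j + 1 + c * (j + 1) * j) + 6 * r * (1 + c * (j + 1)) =
      8 * (1 + c * (j + 1)) * (1 + c * (j + 1)) + r * r) →
    (mb = (3, 6) ∧ j = 1 ∧ c ≤ 1) ∨ (mb = (3, 3) ∧ j = 3 ∧ c = 0) ∨ (mb = (15, 10) ∧ j = 1 ∧ c = 1) := by
  decide +kernel

theorem num_even {m b c j r k w : ℕ}
    (hmb : (m, b) ∈ [(3, 6), (3, 1), (3, 3), (3, 4), (15, 10), (15, 1), (15, 15), (15, 16)]) (hc : c < 3)
    (h2 : (j + 1) % 2 = 0) (h3 : (j + 1) % 3 ≠ 0) (hc' : b = 10 → c ≤ 1) (hN : Nm k w)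
    (hk : k * r = 2 * (1 + c * (j + 1))) (hw : w * (r * r) = m + b * (j + 1 + c * (j + 1) * j)) :
    (m = 3 ∧ b = 6 ∧ j = 1 ∧ c ≤ 1) ∨ (m = 3 ∧ b = 3 ∧ j = 3 ∧ c = 0) ∨ (m = 15 ∧ b = 10 ∧ j = 1 ∧ c = 1) := by
  obtain ⟨h4, h5⟩ := hN.eq hk
  have h6 : r ∣ m + b := by
    refine (Nat.dvd_add_left (h4.mul_left (b * j))).mp ?_
    rw [show m + b + b * j * (1 + c * (j + 1)) = m + b * (j + 1 + c * (j + 1) * j) by ring, ← hw]
    exact Dvd.intro_left (w * r) (by ring)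
  have h7 : r < 32 := by
    have := Nat.le_of_dvd (show 0 < m + b by simp at hmb; omega) h6
    simp at hmb
    omega
  rw [hw] at h5
  have h8 : j < 200 := by
    by_contra e
    have e1 : r * j ≤ 31 * j := Nat.mul_le_mul_right j (by omega)
    have e2 : 200 * j ≤ j * j := Nat.mul_le_mul_right j (by omega)
    have e3 : r * r ≤ 31 * 31 := Nat.mul_le_mul (by omega) (by omega)
    simp only [List.mem_cons, Prod.mk.injEq, List.not_mem_nil, or_false] at hmb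
    by_cases e4 : b = 16 ∧ c = 2
    · obtain ⟨rfl, rfl⟩ := e4
      obtain rfl : m = 15 := by omega
      rcases (Nat.dvd_prime (by norm_num)).mp h6 with rfl | rfl <;> rcases h5 with h5 | h5 <;> nlinarith
    by_cases e5 : c = 0
    · subst e5
      obtain rfl : r = 1 := by simpa using h4
      rcases hmb with ⟨rfl, rfl⟩ | ⟨rfl, rfl⟩ | ⟨rfl, rfl⟩ | ⟨rfl, rfl⟩ | ⟨rfl, rfl⟩ | ⟨rfl, rfl⟩ | ⟨rfl, rfl⟩ |
        ⟨rfl, rfl⟩ <;> omega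
    clear hw hk h4 h6 h2 h3
    obtain rfl | rfl : c = 1 ∨ c = 2 := by omega
    all_goals
      rcases hmb with ⟨rfl, rfl⟩ | ⟨rfl, rfl⟩ | ⟨rfl, rfl⟩ | ⟨rfl, rfl⟩ | ⟨rfl, rfl⟩ | ⟨rfl, rfl⟩ | ⟨rfl, rfl⟩ |
        ⟨rfl, rfl⟩ <;> ring_nf at h5 e1 e2 e3 <;> omega
  simpa [and_assoc] using num_fin (m, b) hmb c hc r h7 h6 j h8 ⟨h2, h3, hc', h4⟩ h5

theorem num_odd {j r k w : ℕ} (hj : 2 ≤ j) (hN : Nm k w) (hk : k * r = 2 * j)
    (hw : w * (r * r) + 1 = 4 * j * j) : False := by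
  obtain ⟨⟨s, rfl⟩, h5⟩ := hN.eq hk
  have h6 : r ∣ 1 := (Nat.dvd_add_right (show r ∣ w * (r * r) from ⟨w * r, by ring⟩)).mp
    ⟨4 * s * (r * s), by rw [hw]; ring⟩
  obtain rfl := Nat.dvd_one.mp h6
  rcases h5 with h5 | h5 <;> nlinarith

end Cfsg.Agent.H3.Km
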