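import Cfsg.Agent.H3.Km2
import Cfsg.Agent.H3.Km3
import Cfsg.Agent.H3.Km4

/-! Doubly transitive groups with two-point stabilizer `A₄` or `A₅`: the set-up. -/

set_option autoImplicit false
set_option linter.unusedSectionVars false

namespace Cfsg.Agent.H3.Km

open Subgroup MulAction GW H8

variable {G Ω : Type*} [Group G] [MulAction G Ω]

/-- the set-up -/
structure St (α β : Ω) (τ σ : G) (m : ℕ) : Prop where
  t2 : T2 (⊤ : Subgroup G) Set.univ α β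
  faith : ∀ g : G, (∀ x : Ω, g • x = x) → g = 1
  ht : orderOf τ = 2
  hs : Refl τ σ
  ta : τ • α = α
  tb : τ • β = β
  sa : σ • α = α
  sb : σ • β = β
  fus : ∀ u : G, orderOf u = 2 → u • α = α → u • β = β → ∃ k, k • α = α ∧ k • β = β ∧ k * τ * k⁻¹ = u
  cent : ∀ c : G, c • α = α → c • β = β → c * τ = τ * c → c ∈ four τ σ
  inv : {u : G | orderOf u = 2 ∧ u • α = α ∧ u • β = β}.ncard = m
  card : Nat.card ↥(stabilizer G α ⊓ stabilizer G β) = 4 * m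
  gen : m = 15 → ∀ N : Subgroup G, N.Normal → τ ∈ N → stabilizer G α ⊓ stabilizer G β ≤ N

/-- the stabilizer of `{α, β}` is a symmetric group -/
structure CA (α β : Ω) (τ σ I : G) (b : ℕ) : Prop where
  ia : I • α = β
  ii : I * I = 1
  it : I * τ = τ * I
  is : I * σ * I⁻¹ = τ * σ
  fus : ∀ u : G, u * u = 1 → u • α = β → IsConj τ u
  cnt : {u : G | u * u = 1 ∧ u • α = β}.ncard = b

/-- the stabilizer of `{α, β}` is a direct product -/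
structure CB (α β : Ω) (J : G) : Prop where
  ja : J • α = β
  jj : J * J = 1
  cent : ∀ k : G, k • α = α → k • β = β → J * k = k * J

theorem swap_of_sq {u : G} {x y : Ω} (h : u * u = 1) (e : u • x = y) : u • y = x := by
  rw [← e, ← mul_smul, h, one_smul]

theorem T2.exists_swap {α β : Ω} {Y : Subgroup G} {Δ : Set Ω} (h : T2 Y Δ α β) {u : G} (hu : u ∈ Y) {x : Ω}
    (hx : x ∈ Δ) (e : u • x ≠ x) : ∃ c ∈ Y, (c⁻¹ * u * c) • α = β := by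
  obtain ⟨c, hc, h1, h2⟩ := h.ex x hx _ (h.inv u hu x hx) e.symm
  exact ⟨c, hc, conj_smul_eq' (by rw [h1, h2])⟩

theorem exists_St {α β : Ω} (t2 : T2 (⊤ : Subgroup G) Set.univ α β) (faith : ∀ g : G, (∀ x : Ω, g • x = x) → g = 1)
    {τ σ : ↥(stabilizer G α ⊓ stabilizer G β)} {m b : ℕ} (h : AF τ σ m b) :
    St α β (τ : G) σ m ∧ ((∃ I, CA α β (τ : G) σ I b) ∨ ∃ J : G, CB α β J) := by
  have o2 : ∀ u : ↥(stabilizer G α ⊓ stabilizer G β), orderOf (u : G) = 2 ↔ u ≠ 1 ∧ u * u = 1 := fun u =>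
    ⟨fun e => ⟨fun e' => H9.ne_one_of_orderOf_two e (congrArg Subtype.val e'),
      Subtype.ext (H9.mul_self_of_orderOf_two e)⟩,
      fun e => H9.orderOf_two_of (fun e' => e.1 (Subtype.ext e')) (congrArg Subtype.val e.2)⟩
  have ht := (o2 τ).mpr ⟨h.t1, h.tt⟩
  have hs : Refl (τ : G) σ := ⟨(o2 σ).mpr ⟨h.s1, h.ss⟩, congrArg Subtype.val h.st, fun e => h.ne (Subtype.ext e)⟩
  refine ⟨⟨t2, faith, ht, hs, τ.2.1, τ.2.2, σ.2.1, σ.2.2, fun u hu h1 h2 => ?_, fun c h1 h2 hc => ?_, ?_, h.card,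
    fun hm N hN hτ x hx => ?_⟩, ?_⟩
  · obtain ⟨k, hk⟩ := h.fus ⟨u, h1, h2⟩ ((o2 ⟨u, h1, h2⟩).mp hu).1 ((o2 ⟨u, h1, h2⟩).mp hu).2
    exact ⟨k, k.2.1, k.2.2, congrArg Subtype.val hk⟩
  · exact (mem_four ht hs).mpr ((h.cent ⟨c, h1, h2⟩ (Subtype.ext hc)).imp (congrArg Subtype.val)
      (Or.imp (congrArg Subtype.val) (Or.imp (congrArg Subtype.val) (congrArg Subtype.val))))
  · rw [← h.inv]
    exact Eq.symm (Set.ncard_congr (fun u _ => (u : G)) (fun u hu => ⟨(o2 u).mpr hu, u.2.1, u.2.2⟩)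
      (fun _ _ _ _ e => Subtype.ext e) fun u hu => ⟨⟨u, hu.2.1, hu.2.2⟩, (o2 ⟨u, hu.2.1, hu.2.2⟩).mp hu.1, rfl⟩)
  · exact ((h.gen hm (N.subgroupOf _) (hN.subgroupOf _) hτ) ▸ mem_top (⟨x, hx⟩ : ↥(stabilizer G α ⊓ stabilizer G β)) :
      _ ∈ N.subgroupOf _)
  obtain ⟨z, hz⟩ : ∃ z : Ω, (τ : G) • z ≠ z := by
    by_contra e
    push Not at e
    exact H9.ne_one_of_orderOf_two ht (faith _ e)
  obtain ⟨c, -, hc⟩ := t2.exists_swap (mem_top (τ : G)) (Set.mem_univ z) hz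
  have hxc : IsConj (τ : G) (c⁻¹ * τ * c) := isConj_iff.mpr ⟨c⁻¹, by rw [inv_inv]⟩
  have xx : c⁻¹ * τ * c * (c⁻¹ * τ * c) = 1 :=
    H9.mul_self_of_orderOf_two (H6.orderOf_eq_of_isConj hxc ▸ ht)
  generalize c⁻¹ * τ * c = x at hc hxc xx
  have xb := swap_of_sq xx hc
  have xi := inv_eq_of_mul_eq_one_left xx
  have mk : ∀ u : G, u • α = β → u • β = α → x * u ∈ stabilizer G α ⊓ stabilizer G β := fun u h1 h2 =>
    ⟨show (x * u) • α = α by rw [mul_smul, h1, xb], show (x * u) • β = β by rw [mul_smul, h2, hc]⟩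
  have hn : ∀ k ∈ stabilizer G α ⊓ stabilizer G β, x * k * x⁻¹ ∈ stabilizer G α ⊓ stabilizer G β := fun k hk => by
    rw [xi, mul_assoc]
    exact mk _ (by rw [mul_smul, hc, hk.2]) (by rw [mul_smul, xb, hk.1])
  let φ : ↥(stabilizer G α ⊓ stabilizer G β) ≃* ↥(stabilizer G α ⊓ stabilizer G β) :=
    normalizerMonoidHom _ ⟨x, mem_normalizer_iff.mpr fun k => ⟨hn k, fun hk => by
      have := hn _ hk
      rwa [show x * (x * k * x⁻¹) * x⁻¹ = x * x * k * (x * x)⁻¹ by group, xx, one_mul, inv_one, mul_one] at this⟩⟩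
  have hφ : ∀ k, (φ k : G) = x * k * x⁻¹ := fun _ => rfl
  have sq : ∀ k, φ k * k = 1 ↔ x * k * (x * k) = 1 := fun k => by
    rw [Subtype.ext_iff, coe_mul, hφ, xi, mul_assoc (x * k)]; rfl
  have xka : ∀ k : ↥(stabilizer G α ⊓ stabilizer G β), (x * k) • α = β := fun k => by
    rw [mul_smul, show (k : G) • α = α from k.2.1, hc]
  rcases h.dich φ (fun k => Subtype.ext (by
    rw [hφ, hφ, show x * (x * k * x⁻¹) * x⁻¹ = x * x * k * (x * x)⁻¹ by group, xx]; group)) with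
    ⟨a, ha⟩ | ⟨h1, h2, k, h3, h4, h5⟩
  · have key : ∀ k : G, k • α = α → k • β = β → x * (a : G)⁻¹ * k = k * (x * (a : G)⁻¹) := fun k h1 h2 => by
      have := congrArg Subtype.val (ha (a⁻¹ * ⟨k, h1, h2⟩ * a))
      rw [hφ] at this
      simp only [coe_mul, coe_inv] at this
      rw [← mul_inv_eq_iff_eq_mul]
      calc _ = x * ((a : G)⁻¹ * k * a) * x⁻¹ := by group
        _ = _ := by rw [this]; group
    have hm : x * (a : G)⁻¹ * (x * (a : G)⁻¹) ∈ stabilizer G α ⊓ stabilizer G β := by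
      rw [show x * (a : G)⁻¹ * (x * (a : G)⁻¹) = x * (a : G)⁻¹ * x⁻¹⁻¹ * (a : G)⁻¹ by group, xi]
      exact mul_mem (hn _ (inv_mem a.2)) (inv_mem a.2)
    refine Or.inr ⟨x * (a : G)⁻¹, xka a⁻¹, congrArg Subtype.val (h.z ⟨_, hm⟩ fun k => Subtype.ext ?_), key⟩
    change x * (a : G)⁻¹ * (x * (a : G)⁻¹) * k = k * (x * (a : G)⁻¹ * (x * (a : G)⁻¹))
    rw [mul_assoc, key k k.2.1 k.2.2, ← mul_assoc, key k k.2.1 k.2.2, mul_assoc]
  · have h4' := congrArg Subtype.val h4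
    have h5' := congrArg Subtype.val h5
    simp only [hφ, coe_mul, coe_inv] at h4' h5'
    refine Or.inl ⟨x * k, xka k, (sq k).mp h3, ?_, by rw [← h5']; group, fun u hu hu' => ?_, ?_⟩
    · rw [← mul_inv_eq_iff_eq_mul]
      nth_rewrite 2 [← h4']
      group
    · have e : u = x * (x * u) := by rw [← mul_assoc, xx, one_mul]
      obtain ⟨l, hl⟩ := h2 ⟨_, mk u hu' (swap_of_sq hu hu')⟩ ((sq _).mpr (by rw [← e, hu]))
      refine hxc.trans (isConj_iff.mpr ⟨l, mul_left_cancel (a := x) ?_⟩)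
      have := congrArg Subtype.val hl
      simp only [hφ, coe_mul, coe_inv, xi] at this
      rw [← this]
      group
    · rw [← h1]
      exact Eq.symm (Set.ncard_congr (fun k _ => x * k) (fun k hk => ⟨(sq k).mp hk, xka k⟩)
        (fun _ _ _ _ e => Subtype.ext (mul_left_cancel e)) fun u hu => by
          have e : x * (x * u) = u := by rw [← mul_assoc, xx, one_mul]
          exact ⟨⟨_, mk u hu.2 (swap_of_sq hu.1 hu.2)⟩, (sq _).mpr (by rw [e, hu.1]), e⟩)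

/-- the `C(τ)`-conjugates of `σ` and `τ σ` -/
def D0 (τ σ : G) : Set G := {u | ∃ c, c * τ = τ * c ∧ (c * σ * c⁻¹ = u ∨ c * (τ * σ) * c⁻¹ = u)}

theorem ci_cl (Y : Subgroup G) (x : G) : CI Y (H6.cl x) := fun y _ _ hd => hd.trans (isConj_iff.mpr ⟨y, rfl⟩)

theorem ci_D0 (τ σ : G) : CI (Cz τ) (D0 τ σ) := by
  rintro y hy _ ⟨c, hc, h⟩
  refine ⟨y * c, mem_Cz.mp (mul_mem hy (mem_Cz.mpr hc)), h.imp ?_ ?_⟩ <;> rintro rfl <;> group

theorem conj_sq {g u : G} (h : u * u = 1) : g * u * g⁻¹ * (g * u * g⁻¹) = 1 := by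
  rw [show g * u * g⁻¹ * (g * u * g⁻¹) = g * (u * u) * g⁻¹ by group, h]; group

theorem comm_conj {c u τ : G} (hc : c * τ = τ * c) (hu : u * τ = τ * u) : c⁻¹ * u * c * τ = τ * (c⁻¹ * u * c) :=
  mem_Cz.mp (mul_mem (mul_mem (inv_mem (mem_Cz.mpr hc)) (mem_Cz.mpr hu)) (mem_Cz.mpr hc))

namespace St

variable {α β : Ω} {τ σ : G} {m : ℕ} (h : St α β τ σ m)
include h

theorem tt : τ * τ = 1 := H9.mul_self_of_orderOf_two h.ht

theorem t1 : τ ≠ 1 := H9.ne_one_of_orderOf_two h.ht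

theorem mv {x : G} : x ∈ four τ σ ↔ x = 1 ∨ x = τ ∨ x = σ ∨ x = τ * σ := mem_four h.ht h.hs

theorem hts : Refl τ (τ * σ) := h.hs.mul h.ht

theorem exists_moved {u : G} (hu : u ≠ 1) : ∃ x : Ω, u • x ≠ x := by
  by_contra e
  push Not at e
  exact hu (h.faith u e)

theorem conj_of_fix {u : G} (hu : orderOf u = 2) {x y : Ω} (e : x ≠ y) (hx : u • x = x) (hy : u • y = y) :
    ∃ g : G, g • α = x ∧ g • β = y ∧ g * τ * g⁻¹ = u := by
  obtain ⟨g, -, rfl, rfl⟩ := h.t2.ex x trivial y trivial e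
  obtain ⟨k, h1, h2, h3⟩ := h.fus (g⁻¹ * u * g) (by simpa using (H9.orderOf_conj g⁻¹ u).trans hu)
    (conj_smul_eq' hx) (conj_smul_eq' hy)
  exact ⟨g * k, by rw [mul_smul, h1], by rw [mul_smul, h2], by
    rw [show g * k * τ * (g * k)⁻¹ = g * (k * τ * k⁻¹) * g⁻¹ by group, h3]; group⟩

theorem tC : T2 (Cz τ) (fx Set.univ τ) α β :=
  ⟨h.t2.ne, ⟨trivial, h.ta⟩, ⟨trivial, h.tb⟩, fun _ hy _ hx => ⟨trivial, smul_fix (mem_Cz.mp hy).symm hx.2⟩,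
    fun _ hx _ hy e => by
      obtain ⟨g, h1, h2, h3⟩ := h.conj_of_fix h.ht e hx.2 hy.2
      exact ⟨g, mem_Cz.mpr (mul_inv_eq_iff_eq_mul.mp h3), h1, h2⟩⟩

theorem fixV {v : G} (hv : v ∈ four τ σ) {x : Ω} (hx : x ∈ fx (fx Set.univ τ) σ) : v • x = x := by
  rcases h.mv.mp hv with rfl | rfl | rfl | rfl
  exacts [one_smul _ _, hx.1.2, hx.2, by rw [mul_smul, hx.2, hx.1.2]]

theorem aΓ : α ∈ fx (fx Set.univ τ) σ := ⟨⟨trivial, h.ta⟩, h.sa⟩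

theorem bΓ : β ∈ fx (fx Set.univ τ) σ := ⟨⟨trivial, h.tb⟩, h.sb⟩

theorem conj_mem_V {u : G} (hu : u * τ = τ * u) {x y : Ω} (hx : τ • x = x) (hy : τ • y = y) (e : x ≠ y)
    (ux : u • x = x) (uy : u • y = y) : ∃ c : G, c * τ = τ * c ∧ c • α = x ∧ c • β = y ∧ c⁻¹ * u * c ∈ four τ σ := by
  obtain ⟨c, hc, rfl, rfl⟩ := h.tC.ex x ⟨trivial, hx⟩ y ⟨trivial, hy⟩ e
  exact ⟨c, mem_Cz.mp hc, rfl, rfl, h.cent _ (conj_smul_eq' ux) (conj_smul_eq' uy) (comm_conj (mem_Cz.mp hc) hu)⟩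

theorem sq_of_fix {u : G} (hu : u * τ = τ * u) {x y : Ω} (hx : τ • x = x) (hy : τ • y = y) (e : x ≠ y)
    (ux : u • x = x) (uy : u • y = y) : u * u = 1 := by
  obtain ⟨c, -, -, -, h1⟩ := h.conj_mem_V hu hx hy e ux uy
  have := conj_sq (g := c) (four_sq h.ht h.hs h1)
  rwa [show c * (c⁻¹ * u * c) * c⁻¹ = u by group] at this

theorem mem_D0 {u : G} (hu : u * τ = τ * u) (h1 : u ≠ 1) (h2 : u ≠ τ) {x y : Ω} (hx : τ • x = x) (hy : τ • y = y)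
    (e : x ≠ y) (ux : u • x = x) (uy : u • y = y) : u ∈ D0 τ σ := by
  obtain ⟨c, hc, -, -, h3⟩ := h.conj_mem_V hu hx hy e ux uy
  refine ⟨c, hc, ?_⟩
  rcases h.mv.mp h3 with e | e | e | e
  · exact (h1 (by simpa [mul_assoc, inv_mul_eq_one] using e)).elim
  · refine (h2 ?_).elim
    rw [show u = c * (c⁻¹ * u * c) * c⁻¹ by group, e, hc, mul_inv_cancel_right]
  · left; rw [← e]; group
  · right; rw [← e]; group

theorem refl_of_D0 {u : G} (hu : u ∈ D0 τ σ) : Refl τ u := by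
  obtain ⟨c, hc, rfl | rfl⟩ := hu
  exacts [h.hs.conj_of_comm hc, h.hts.conj_of_comm hc]

theorem mul_D0 {u : G} (hu : u ∈ D0 τ σ) : τ * u ∈ D0 τ σ := by
  obtain ⟨c, hc, rfl | rfl⟩ := hu
  · exact ⟨c, hc, Or.inr (by rw [← mul_assoc c, hc]; group)⟩
  · refine ⟨c, hc, Or.inl ?_⟩
    rw [← mul_assoc c, hc, show τ * (τ * c * σ * c⁻¹) = τ * τ * c * σ * c⁻¹ by group, h.tt, one_mul]

theorem isConj_of_D0 {u : G} (hu : u ∈ D0 τ σ) : IsConj τ u := by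
  obtain ⟨c, -, rfl | rfl⟩ := hu
  · obtain ⟨k, -, -, e⟩ := h.fus σ h.hs.1 h.sa h.sb
    exact (isConj_iff.mpr ⟨k, e⟩).trans (isConj_iff.mpr ⟨c, rfl⟩)
  · obtain ⟨k, -, -, e⟩ := h.fus _ h.hts.1 (h.fixV (mul_mem_four τ σ) h.aΓ) (h.fixV (mul_mem_four τ σ) h.bΓ)
    exact (isConj_iff.mpr ⟨k, e⟩).trans (isConj_iff.mpr ⟨c, rfl⟩)

theorem fx_tau_mul {u : G} (hu : u * τ = τ * u) : fx (fx (Set.univ : Set Ω) τ) (τ * u) = fx (fx Set.univ τ) u := by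
  ext x
  refine and_congr_right fun hx => ?_
  rw [← hu, mul_smul, hx.2]

theorem fx_D0 {u : G} (hu : u ∈ D0 τ σ) :
    (fx (fx (Set.univ : Set Ω) τ) u).ncard = (fx (fx (Set.univ : Set Ω) τ) σ).ncard := by
  obtain ⟨c, hc, rfl | rfl⟩ := hu <;> rw [h.tC.fx_conj (mem_Cz.mpr hc)]
  rw [h.fx_tau_mul h.hs.2.1]

theorem fx_cl {u : G} (hu : IsConj τ u) : (fx (Set.univ : Set Ω) u).ncard = (fx (Set.univ : Set Ω) τ).ncard := by
  obtain ⟨c, rfl⟩ := isConj_iff.mp hu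
  exact h.t2.fx_conj (mem_top c) τ

theorem D0_stab : {u | u ∈ D0 τ σ ∧ u • α = α ∧ u • β = β}.ncard = 2 := by
  refine Set.ncard_eq_two.mpr ⟨σ, τ * σ, (Refl.mul_ne h.ht).symm, Set.ext fun u => ⟨fun hu => ?_, ?_⟩⟩
  · have h1 := h.refl_of_D0 hu.1
    exact ((h.mv.mp (h.cent u hu.2.1 hu.2.2 h1.2.1)).resolve_left (H9.ne_one_of_orderOf_two h1.1)).resolve_left h1.2.2
  · rintro (rfl | rfl)
    · exact ⟨⟨1, by simp, Or.inl (by simp)⟩, h.sa, h.sb⟩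
    · exact ⟨⟨1, by simp, Or.inr (by simp)⟩, h.fixV (mul_mem_four τ σ) h.aΓ, h.fixV (mul_mem_four τ σ) h.bΓ⟩

theorem cl_stab : {u | u ∈ H6.cl τ ∧ u • α = α ∧ u • β = β}.ncard = m := by
  rw [← h.inv]
  congr 1
  ext u
  refine ⟨fun hu => ⟨H6.orderOf_eq_of_isConj hu.1 ▸ h.ht, hu.2⟩, fun hu => ⟨?_, hu.2⟩⟩
  obtain ⟨k, -, -, e⟩ := h.fus u hu.1 hu.2.1 hu.2.2
  exact isConj_iff.mpr ⟨k, e⟩

theorem swap_mem {x u : G} (hx : x * τ = τ * x) (hu : u * τ = τ * u) (h1 : x • α = u • α) (h2 : x • β = u • β) :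
    u = x ∨ u = x * τ ∨ u = x * σ ∨ u = x * (τ * σ) := by
  have := h.mv.mp (h.cent (x⁻¹ * u) (by rw [mul_smul, ← h1, inv_smul_smul]) (by rw [mul_smul, ← h2, inv_smul_smul])
    (mem_Cz.mp (mul_mem (inv_mem (mem_Cz.mpr hx)) (mem_Cz.mpr hu))))
  simpa only [inv_mul_eq_iff_eq_mul, mul_one] using this

variable [Finite G]

theorem mem_N {c : G} (hc : c * τ = τ * c) (h1 : c * σ * c⁻¹ ∈ four τ σ) :
    c ∈ Cz τ ⊓ normalizer (four τ σ : Set G) := by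
  refine ⟨mem_Cz.mpr hc, H9.mem_normalizer_of_conj_mem fun v hv => ?_⟩
  rcases h.mv.mp hv with rfl | rfl | rfl | rfl
  · simp
  · rw [hc, mul_inv_cancel_right]; exact hv
  · exact h1
  · rw [← mul_assoc c, hc, mul_assoc τ, mul_assoc τ]
    exact mul_mem (left_mem_four τ σ) h1

theorem tX : T2 (Cz τ ⊓ normalizer (four τ σ : Set G)) (fx (fx Set.univ τ) σ) α β := by
  refine ⟨h.t2.ne, h.aΓ, h.bΓ, fun y hy x hx => ⟨h.tC.inv y hy.1 x hx.1, ?_⟩, fun x hx y hy e => ?_⟩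
  · have := conj_smul_eq (g := y) (h.fixV (H9.conj_mem_of_mem_normalizer (inv_mem hy.2) (right_mem_four τ σ)) hx)
    rwa [show y * (y⁻¹ * σ * y⁻¹⁻¹) * y⁻¹ = σ by group] at this
  · obtain ⟨c, hc, h1, h2, h3⟩ := h.conj_mem_V h.hs.2.1 hx.1.2 hy.1.2 e hx.2 hy.2
    have := h.mem_N (c := c⁻¹) (mem_Cz.mp (inv_mem (mem_Cz.mpr hc))) (by rwa [inv_inv])
    exact ⟨c, (inv_mem_iff (x := c)).mp this, h1, h2⟩

variable [Finite Ω]

theorem cardG : Nat.card G = Nat.card Ω * ((Nat.card Ω - 1) * (4 * m)) := by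
  have h1 := h.t2.card_eq
  rw [h.t2.card_stab, top_inf_eq, h.card, Set.ncard_univ, card_top] at h1
  exact h1

theorem cardH : Nat.card (stabilizer G α) = (Nat.card Ω - 1) * (4 * m) := by
  have h1 := h.t2.card_stab
  rwa [top_inf_eq, h.card, Set.ncard_univ] at h1

theorem stabC : Cz τ ⊓ stabilizer G α ⊓ stabilizer G β = four τ σ :=
  le_antisymm (fun c hc => h.cent c hc.1.2 hc.2 (mem_Cz.mp hc.1.1))
    fun _ hv => ⟨⟨four_le_Cz h.hs hv, h.fixV hv h.aΓ⟩, h.fixV hv h.bΓ⟩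

theorem cardC : Nat.card (Cz τ) =
    (fx (Set.univ : Set Ω) τ).ncard * (((fx (Set.univ : Set Ω) τ).ncard - 1) * 4) := by
  rw [h.tC.card_eq, h.tC.card_stab, h.stabC, card_four h.ht h.hs]

theorem mod_i : (fx (Set.univ : Set Ω) τ).ncard % 2 = Nat.card Ω % 2 := by
  rw [← Set.ncard_univ]
  exact fx_mod_two (fun _ _ => trivial) fun x _ => by rw [← mul_smul, h.tt, one_smul]

theorem mod_C {u : G} (hu : u * τ = τ * u) (h2 : u * u = 1 ∨ u * u = τ) :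
    (fx (fx (Set.univ : Set Ω) τ) u).ncard % 2 = Nat.card Ω % 2 := by
  rw [← h.mod_i]
  refine fx_mod_two (h.tC.inv u (mem_Cz.mpr hu)) fun x hx => ?_
  rw [← mul_smul]
  rcases h2 with e | e <;> rw [e]
  exacts [one_smul _ _, hx.2]

theorem main_cnt {i : ℕ} (hi : (fx (Set.univ : Set Ω) τ).ncard = i + 1) :
    {u | u ∈ H6.cl τ ∧ u • α = β}.ncard * ((i + 1) * i) + (i + 1) * m = Nat.card Ω * m := by
  have := h.t2.c4 (ci_cl ⊤ τ) (fun d _ => mem_top d) fun d hd => (h.fx_cl hd).trans hi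
  rwa [h.cl_stab, Set.ncard_univ] at this

theorem D0_cnt {j : ℕ} (hj : (fx (fx (Set.univ : Set Ω) τ) σ).ncard = j + 1) :
    {u | u ∈ D0 τ σ ∧ u • α = β}.ncard * ((j + 1) * j) + (j + 1) * 2 = (fx (Set.univ : Set Ω) τ).ncard * 2 := by
  have := h.tC.c4 (ci_D0 τ σ) (fun d hd => mem_Cz.mpr (h.refl_of_D0 hd).2.1) fun d hd => (h.fx_D0 hd).trans hj
  rwa [h.D0_stab] at this

theorem D0_swap {x : G} (hx : x * τ = τ * x) (h1 : x • α = β) (h2 : x • β = α) :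
    {u | u ∈ D0 τ σ ∧ u • α = β} ⊆ {x, x * τ, x * σ, x * (τ * σ)} := fun u hu =>
  h.swap_mem hx (h.refl_of_D0 hu.1).2.1 (h1.trans hu.2.symm)
    (h2.trans (swap_of_sq (h.refl_of_D0 hu.1).sq hu.2).symm)

theorem D0_even : 2 ∣ {u | u ∈ D0 τ σ ∧ u • α = β}.ncard := by
  refine H6.dvd_ncard_of_fibers (QuotientGroup.mk (s := zpowers τ)) _ fun a ha => dvd_of_eq (Eq.symm ?_)
  have hc := (h.refl_of_D0 ha.1).2.1
  refine Set.ncard_eq_two.mpr ⟨a, τ * a, (Refl.mul_ne h.ht).symm, Set.ext fun u => ⟨fun hu => ?_, ?_⟩⟩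
  · rcases (H9.mem_zpowers_of_mul_self h.tt).mp (QuotientGroup.eq.mp hu.2.symm) with e | e
    · exact Or.inl (inv_mul_eq_one.mp e).symm
    · exact Or.inr (by rw [← hc]; exact inv_mul_eq_iff_eq_mul.mp e)
  · rintro (rfl | rfl)
    · exact ⟨ha, rfl⟩
    · exact ⟨⟨h.mul_D0 ha.1, by rw [mul_smul, ha.2, h.tb]⟩,
        (QuotientGroup.eq.mpr (by rw [← hc, inv_mul_cancel_left]; exact mem_zpowers τ)).symm⟩

end St

end Cfsg.Agent.H3.Km
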