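import Cfsg.Agent.H3.Km5

/-! Doubly transitive groups with two-point stabilizer `A₄` or `A₅`: even degree. -/

set_option autoImplicit false
set_option linter.unusedSectionVars false

namespace Cfsg.Agent.H3.Km

open Subgroup MulAction GW H8

theorem exists_other {Ω : Type*} [Finite Ω] {s : Set Ω} (h : s.ncard % 2 = 0) {a : Ω} (ha : a ∈ s) :
    ∃ b ∈ s, a ≠ b := by
  by_contra e
  push Not at e
  rw [Set.eq_singleton_iff_unique_mem.mpr ⟨ha, fun b hb => (e b hb).symm⟩, Set.ncard_singleton] at h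
  omega

theorem index_normalCore_dvd {G : Type*} [Group G] [Finite G] (H : Subgroup G) :
    H.normalCore.index ∣ H.index.factorial := by
  rw [normalCore_eq_ker, index_ker, index_eq_card, ← Nat.card_perm]
  exact card_subgroup_dvd_card _

variable {G Ω : Type*} [Group G] [MulAction G Ω] [Finite G] [Finite Ω]

namespace St

variable {α β : Ω} {τ σ : G} {m : ℕ} (h : St α β τ σ m)
include h

theorem normal_trans {N : Subgroup G} (hN : N.Normal) (h0 : N ≠ ⊥) (x : Ω) : ∃ k ∈ N, k • α = x := by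
  obtain ⟨⟨g, hg⟩, h1⟩ := ne_bot_iff_exists_ne_one.mp h0
  obtain ⟨z, hz⟩ := h.exists_moved (u := g) fun e => h1 (Subtype.ext e)
  exact h.t2.normal_trans hN hg hz x

theorem normal_card {N : Subgroup G} (hN : N.Normal) (h0 : N ≠ ⊥) : Nat.card Ω ∣ Nat.card N := by
  rw [card_eq_of_trans (P := Set.univ) (p := α) (fun _ _ => trivial) fun x _ => h.normal_trans hN h0 x,
    Set.ncard_univ]
  exact dvd_mul_right _ _

theorem exists_i : ∃ i, (fx (Set.univ : Set Ω) τ).ncard = i + 1 ∧ 0 < i :=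
  ⟨(fx (Set.univ : Set Ω) τ).ncard - 1, by have := h.tC.two_le; omega⟩

theorem exists_j : ∃ j, (fx (fx (Set.univ : Set Ω) τ) σ).ncard = j + 1 ∧ 0 < j :=
  ⟨(fx (fx (Set.univ : Set Ω) τ) σ).ncard - 1, by have := h.tX.two_le; omega⟩

theorem D0_le : {u | u ∈ D0 τ σ ∧ u • α = β}.ncard ≤ 4 := by
  obtain ⟨x, hx, h1, h2⟩ := h.tC.ex β h.tC.hb α h.tC.ha h.t2.ne.symm
  exact (Set.ncard_le_ncard (h.D0_swap (mem_Cz.mp hx) h1 h2)).trans
    ((Set.ncard_insert_le _ _).trans (Nat.succ_le_succ ((Set.ncard_insert_le _ _).trans (Nat.succ_le_succ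
      ((Set.ncard_insert_le _ _).trans (by rw [Set.ncard_singleton]))))))

theorem mod_sq {u : G} (hu : u * u = 1) : (fx (Set.univ : Set Ω) u).ncard % 2 = Nat.card Ω % 2 := by
  rw [← Set.ncard_univ]
  exact fx_mod_two (fun _ _ => trivial) fun x _ => by rw [← mul_smul, hu, one_smul]

theorem fus_even (hn : Nat.card Ω % 2 = 0) {u : G} (hu : orderOf u = 2) (ha : u • α = α) :
    ∃ g : G, g • α = α ∧ g * τ * g⁻¹ = u := by
  obtain ⟨y, hy, e⟩ := exists_other ((h.mod_sq (H9.mul_self_of_orderOf_two hu)).trans hn) ⟨trivial, ha⟩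
  obtain ⟨g, h1, -, h2⟩ := h.conj_of_fix hu e ha hy.2
  exact ⟨g, h1, h2⟩

theorem even_num (hn : Nat.card Ω % 2 = 0) {b : ℕ} (hb : {u | u ∈ H6.cl τ ∧ u • α = β}.ncard = b)
    (hmb : (m, b) ∈ [(3, 6), (3, 1), (3, 3), (3, 4), (15, 10), (15, 1), (15, 15), (15, 16)])
    (hc : b = 10 → {u | u ∈ D0 τ σ ∧ u • α = β}.ncard ≤ 2) :
    (m = 3 ∧ b = 6 ∧ Nat.card Ω = 6) ∨
    (m = 3 ∧ b = 6 ∧ Nat.card Ω = 28 ∧ (fx (Set.univ : Set Ω) τ).ncard = 4) ∨
    (m = 3 ∧ b = 3 ∧ Nat.card Ω = 16 ∧ (fx (Set.univ : Set Ω) τ).ncard = 4 ∧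
      (fx (fx (Set.univ : Set Ω) τ) σ).ncard = 4) ∨ (m = 15 ∧ b = 10 ∧ Nat.card Ω = 12) := by
  obtain ⟨i, hi, i0⟩ := h.exists_i
  obtain ⟨j, hj, j0⟩ := h.exists_j
  obtain ⟨c, hc2⟩ := h.D0_even
  have h1 := h.D0_cnt hj
  have h2 := h.main_cnt hi
  have h3 := h.D0_le
  rw [hc2] at h1 h3 hc
  rw [hb] at h2
  rw [hi] at h1
  have h4 : i + 1 = j + 1 + c * (j + 1) * j := by linarith
  have hj2 := (h.mod_C h.hs.2.1 (Or.inl h.hs.sq)).trans hn
  have hj3 := h.tX.not_three_dvd (fun y hy e1 e2 => have := h.cent y e1 e2 (mem_Cz.mp hy.1)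
    ⟨four_sq h.ht h.hs this, fun x hx => h.fixV this hx⟩) hj2
  rw [hj] at hj2 hj3
  have hm : m % 2 = 1 := by simp at hmb; omega
  obtain ⟨n, hn1⟩ : ∃ n, Nat.card Ω = n + 1 := ⟨Nat.card Ω - 1, by
    have := h.t2.two_le; rw [Set.ncard_univ] at this; omega⟩
  have h8 : ¬ 8 ∣ Nat.card (stabilizer G α) := by
    rw [h.cardH, hn1, Nat.add_sub_cancel, show n * (4 * m) = 4 * (n * m) by ring]
    have : n * m % 2 = 1 := by rw [Nat.mul_mod, hm, show n % 2 = 1 by omega]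
    omega
  have o2 : ∀ u : stabilizer G α, orderOf u = 2 ↔ orderOf (u : G) = 2 := fun u => by rw [orderOf_coe]
  have rf : ∀ u : stabilizer G α, Refl (⟨τ, h.ta⟩ : stabilizer G α) u ↔ Refl τ u := fun u =>
    ⟨refl_coe, fun e => ⟨(o2 u).mpr e.1, Subtype.ext e.2.1, fun e' => e.2.2 (congrArg Subtype.val e')⟩⟩
  obtain ⟨r, k, w, hN, h5, h6⟩ := four_count h8 (τ := ⟨τ, h.ta⟩) (σ := ⟨σ, h.sa⟩) ((o2 _).mpr h.ht)
    ((rf _).mpr h.hs) fun u hu => by
      obtain ⟨g, h1, h2⟩ := h.fus_even hn ((o2 u).mp hu) u.2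
      exact isConj_iff.mpr ⟨⟨g, h1⟩, Subtype.ext h2⟩
  rw [Set.ncard_congr (s := {u : stabilizer G α | orderOf u = 2})
    (t := {u | u ∈ {u : G | orderOf u = 2} ∧ u • α = α}) (fun u _ => (u : G))
    (fun u hu => ⟨(o2 u).mp hu, u.2⟩) (fun _ _ _ _ e => Subtype.ext e)
    fun u hu => ⟨⟨u, hu.2⟩, (o2 ⟨u, hu.2⟩).mpr hu.1, rfl⟩] at h6
  rw [nJ, Set.ncard_congr (s := {u | Refl (⟨τ, h.ta⟩ : stabilizer G α) u}) (t := {u | u ∈ {u : G | Refl τ u} ∧ u • α = α}) (fun u _ => (u : G))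
    (fun u hu => ⟨(rf u).mp hu, u.2⟩) (fun _ _ _ _ e => Subtype.ext e)
    fun u hu => ⟨⟨u, hu.2⟩, (rf ⟨u, hu.2⟩).mpr hu.1, rfl⟩] at h5
  have h7 := h.t2.c2 (D := {u : G | orderOf u = 2}) (fun y _ d hd => (H9.orderOf_conj y d).trans hd)
    (f := i + 1) fun d hd e => by
      obtain ⟨g, -, h2⟩ := h.fus_even hn hd e
      rw [h.fx_cl (isConj_iff.mpr ⟨g, h2⟩), hi]
  have key : ∀ d, Refl τ d → d • α = α → d ∈ D0 τ σ := fun d hd e => by
    obtain ⟨y, hy, e'⟩ := exists_other ((h.mod_C hd.2.1 (Or.inl hd.sq)).trans hn) ⟨h.tC.ha, e⟩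
    exact h.mem_D0 hd.2.1 (H9.ne_one_of_orderOf_two hd.1) hd.2.2 h.ta hy.1.2 e' e hy.2
  have h9 := h.tC.c2 (D := {u : G | Refl τ u}) (fun y hy d hd => Refl.conj_of_comm hd (mem_Cz.mp hy))
    (f := j + 1) fun d hd e => by rw [h.fx_D0 (key d hd e), hj]
  rw [show {d | d ∈ {u : G | Refl τ u} ∧ d • α = α ∧ d • β = β} = {u | u ∈ D0 τ σ ∧ u • α = α ∧ u • β = β} from
    Set.ext fun u => ⟨fun e => ⟨key u e.1 e.2.1, e.2⟩, fun e => ⟨h.refl_of_D0 e.1, e.2⟩⟩, h.D0_stab, h5, hi] at h9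
  rw [h6, Set.ncard_univ, hn1] at h7
  erw [h.inv] at h7
  rw [hn1] at h2 ⊢
  simp only [Nat.add_sub_cancel] at h7 h9
  have h10 : k * r = 2 * (1 + c * (j + 1)) := Nat.eq_of_mul_eq_mul_right j0 (by linarith)
  have h11 : w * (r * r) = m + b * (i + 1) := Nat.eq_of_mul_eq_mul_right i0 (by linarith)
  rw [h4] at h11
  rw [hi, hj]
  rcases num_even hmb (by omega) hj2 (by omega) (fun e => by have := hc e; omega) hN h10 h11 with
    ⟨rfl, rfl, rfl, e⟩ | ⟨rfl, rfl, rfl, rfl⟩ | ⟨rfl, rfl, rfl, rfl⟩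
  · obtain rfl | rfl : c = 0 ∨ c = 1 := by omega
    · obtain rfl : i = 1 := by omega
      omega
    · obtain rfl : i = 3 := by omega
      omega
  · obtain rfl : i = 3 := by omega
    omega
  · obtain rfl : i = 3 := by omega
    omega

theorem six (hm : m = 3) (hn : Nat.card Ω = 6) : Nonempty (G ≃* alternatingGroup (Fin 6)) := by
  let e : Ω ≃ Fin 6 := Finite.equivFinOfCardEq hn
  let f : G →* Equiv.Perm (Fin 6) := (Equiv.permCongrHom e).toMonoidHom.comp (toPermHom G Ω)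
  have hf : Function.Injective f := (Equiv.permCongrHom e).injective.comp
    ((injective_iff_map_eq_one _).mpr fun g hg => h.faith g fun x => DFunLike.congr_fun hg x)
  have h1 := f.range.card_mul_index
  rw [← Nat.card_congr (MonoidHom.ofInjective hf).toEquiv, h.cardG, hn, hm, Nat.card_perm, Nat.card_fin] at h1
  rw [← Equiv.Perm.eq_alternatingGroup_of_index_eq_two (G := f.range) (by
    simp only [Nat.factorial] at h1; omega)]
  exact ⟨MonoidHom.ofInjective hf⟩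

theorem not_28 (hm : m = 3) (hn : Nat.card Ω = 28) (hi : (fx (Set.univ : Set Ω) τ).ncard = 4) (hf : Fus τ) :
    False := by
  have := Fact.mk (show Nat.Prime 7 by norm_num)
  have hG := h.cardG
  have hC := h.cardC
  rw [hn, hm] at hG
  rw [hi] at hC
  obtain ⟨P⟩ : Nonempty (Sylow 7 G) := inferInstance
  have hP : Nat.card (P : Subgroup G) = 7 := by rw [P.card_eq_multiplicity, hG]; simp; decide +kernel
  have h1 : ¬ 2 ∣ Nat.card (centralizer ((P : Subgroup G) : Set G)) := fun e => by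
    obtain ⟨u, hu, hu2⟩ := exists_inv_of_dvd e
    have h2 := card_dvd_of_le (show (P : Subgroup G) ≤ Cz u from fun x hx => mem_Cz.mpr (hu x hx))
    rw [hP, ← H6.card_centralizer_eq_of_isConj (hf u hu2), hC] at h2
    omega
  have h2 := H6.relIndex_centralizer_dvd_sub_one hP
  have h3 := H6.relIndex_centralizer_mul_card (P : Subgroup G)
  have h4 := H6.card_sylow_mul_card_normalizer P
  have h5 := card_sylow_modEq_one 7 G
  have h6 := card_dvd_of_le (le_normalizer (H := (P : Subgroup G)))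
  have h7 : ¬ 4 ∣ Nat.card (normalizer ((P : Subgroup G) : Set G)) := by
    rw [← h3]
    exact fun e => absurd (((Nat.coprime_two_left.mpr (Nat.odd_iff.mpr (Nat.two_dvd_ne_zero.mp h1))).pow_left 2
      ).dvd_of_dvd_mul_right e |>.trans h2) (by norm_num)
  have h8 : ∀ M : Subgroup G, M.Normal → M ≠ ⊥ → 28 ∣ Nat.card M := fun M h1 h2 => hn ▸ h.normal_card h1 h2
  rw [hP] at h6
  obtain ⟨t, ht⟩ := h6
  rw [ht, hG] at h4
  rw [ht] at h7
  have h9 : t = 1 ∨ t = 162 := by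
    have h10 : t ∣ 1296 := Dvd.intro_left _ (show Nat.card (Sylow 7 G) * t = 1296 by linarith)
    have h11 : t % 7 = 1 := by
      have := h5.mul_right t
      rw [show Nat.card (Sylow 7 G) * t = 1296 by linarith, Nat.ModEq] at this
      omega
    have := Nat.mem_divisors.mpr ⟨h10, by norm_num⟩
    have h12 : t % 4 ≠ 0 := by omega
    exact (by decide +kernel : ∀ t ∈ Nat.divisors 1296, t % 7 = 1 → t % 4 ≠ 0 → t = 1 ∨ t = 162) t this h11 h12
  rcases h9 with rfl | rfl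
  · obtain ⟨Q, M, hM, hc⟩ := H6.hasNormalPComplement_of_normalizer_le_centralizer P (by
      rw [← eq_of_le_of_card_ge (le_normalizer (H := (P : Subgroup G))) (by rw [ht, hP])]
      have : IsCyclic (P : Subgroup G) := isCyclic_of_prime_card hP
      exact fun x hx y hy => setLike_mul_comm hy hx)
    have h10 := hc.card_mul_card
    rw [H6.sylow_card_eq Q P, hP, hG] at h10
    have := h8 M hM fun e => by rw [e, card_bot] at h10; omega
    omega
  · have h10 := index_normalCore_dvd (normalizer ((P : Subgroup G) : Set G))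
    rw [show (normalizer ((P : Subgroup G) : Set G)).index = 8 from
      P.card_eq_index_normalizer.symm.trans (by omega)] at h10
    have := (h8 _ inferInstance fun e => by rw [e, index_bot, hG] at h10; revert h10; decide).trans
      (card_dvd_of_le (normalCore_le _))
    omega

theorem simple_12 (hm : m = 15) (hn : Nat.card Ω = 12) (hf : Fus τ) : IsSimpleGroup G := by
  have : Nontrivial G := ⟨⟨τ, 1, h.t1⟩⟩
  refine ⟨fun N hN => or_iff_not_imp_left.mpr fun h0 => ?_⟩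
  obtain ⟨u, hu, hu2⟩ := exists_inv_of_dvd ((show 2 ∣ 12 by norm_num).trans (hn ▸ h.normal_card hN h0))
  obtain ⟨c, rfl⟩ := isConj_iff.mp (hf u hu2)
  have hτ : τ ∈ N := by simpa [mul_assoc] using hN.conj_mem _ hu c⁻¹
  have h1 : stabilizer G α ⊓ stabilizer G β ≤ N ⊓ stabilizer G α := le_inf (h.gen hm N hN hτ) inf_le_left
  have h2 := card_dvd_of_le h1
  have h3 := card_dvd_of_le (inf_le_right : N ⊓ stabilizer G α ≤ _)
  have hH := h.cardH
  rw [hn, hm] at hH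
  rw [h.card, hm] at h2
  obtain ⟨d, hd⟩ := h2
  rw [hH, hd, mul_comm] at h3
  rcases (Nat.dvd_prime (by norm_num)).mp (Nat.dvd_of_mul_dvd_mul_right (by norm_num) h3) with rfl | rfl
  · refine (h.t1 (h.faith τ fun x => ?_)).elim
    by_cases e : x = α
    · rw [e, h.ta]
    obtain ⟨g, hg, rfl⟩ := h.t2.trans2 x ⟨trivial, e⟩
    have h4 : g⁻¹ * τ * g⁻¹⁻¹ ∈ stabilizer G α ⊓ stabilizer G β := by
      rw [eq_of_le_of_card_ge h1 (by rw [hd, h.card, hm])]
      have hg' : g⁻¹ ∈ stabilizer G α := inv_mem (mem_inf.mp hg).2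
      exact mem_inf.mpr ⟨hN.conj_mem τ hτ _, mul_mem (mul_mem hg' h.ta) (inv_mem hg')⟩
    have := conj_smul_eq (g := g) (mem_stabilizer_iff.mp h4.2)
    rwa [show g * (g⁻¹ * τ * g⁻¹⁻¹) * g⁻¹ = τ by group] at this
  · have h4 : N ⊓ stabilizer G α = stabilizer G α := eq_of_le_of_card_ge inf_le_right (by rw [hd, hH])
    refine eq_top_iff.mpr fun g _ => ?_
    obtain ⟨k, hk, e⟩ := h.normal_trans hN h0 (g • α)
    have h5 : k⁻¹ * g ∈ N ⊓ stabilizer G α := by
      rw [h4, mem_stabilizer_iff, mul_smul, ← e, inv_smul_smul]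
    exact (mul_mem_cancel_left (inv_mem hk)).mp h5.1

end St

end Cfsg.Agent.H3.Km
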