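import Mathlib.Algebra.QuadraticAlgebra.Basic
import Mathlib.Algebra.Module.ZMod
import Mathlib.LinearAlgebra.AffineSpace.AffineEquiv
import Mathlib.LinearAlgebra.Matrix.GeneralLinearGroup.Card
import Mathlib.FieldTheory.Finite.Basic

/-! Recognition of `AGL(2, 4)`. -/

set_option autoImplicit false

namespace Cfsg.Agent.H3.Km

open Subgroup

instance f4fact : Fact (∀ r : ZMod 2, r ^ 2 ≠ 1 + 1 * r) := ⟨by decide⟩

/-- the field with four elements -/
abbrev F4 : Type := QuadraticAlgebra (ZMod 2) 1 1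

noncomputable instance : Fintype F4 := Fintype.ofEquiv _ (QuadraticAlgebra.equivProd 1 1).symm

theorem card_F4 : Fintype.card F4 = 4 := by
  rw [Fintype.card_congr (QuadraticAlgebra.equivProd (1 : ZMod 2) 1)]; rfl

theorem card_agl_le : Finite ((Fin 2 → F4) ≃ᵃ[F4] (Fin 2 → F4)) ∧
    Nat.card ((Fin 2 → F4) ≃ᵃ[F4] (Fin 2 → F4)) ≤ 2880 := by
  classical
  have e : GL (Fin 2) F4 ≃ ((Fin 2 → F4) ≃ₗ[F4] (Fin 2 → F4)) :=
    Matrix.GeneralLinearGroup.toLin.toEquiv.trans (LinearMap.GeneralLinearGroup.generalLinearEquiv _ _).toEquiv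
  have : Finite ((Fin 2 → F4) ≃ₗ[F4] (Fin 2 → F4)) := Finite.of_equiv _ e
  have h : Function.Injective fun f : (Fin 2 → F4) ≃ᵃ[F4] (Fin 2 → F4) => (f 0, f.linear) := fun f g h =>
    AffineEquiv.ext fun v => by
      have h1 := f.map_vadd 0 v
      have h2 := g.map_vadd 0 v
      simp only [vadd_eq_add, add_zero, Prod.mk.injEq] at h1 h2 h
      rw [h1, h2, h.1, h.2]
  refine ⟨Finite.of_injective _ h, (Nat.card_le_card_of_injective _ h).trans (le_of_eq ?_)⟩
  rw [Nat.card_prod, ← Nat.card_congr e, Matrix.card_GL_field, Nat.card_fun, Nat.card_eq_fintype_card (α := F4),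
    card_F4]
  simp [Fin.prod_univ_two]

theorem agl {G : Type*} [Group G] [Finite G] {N : Subgroup G} [hN : N.Normal] (h2 : ∀ n ∈ N, n * n = 1)
    (h16 : Nat.card N = 16) {ζ : G} (h3 : ζ * ζ * ζ = 1) (hf : ∀ n ∈ N, n * ζ = ζ * n → n = 1)
    (hc : ∀ g, g * ζ * g⁻¹ * ζ⁻¹ ∈ N) (hi : ∀ g, g * ζ = ζ * g → (∀ n ∈ N, g * n = n * g) → g = 1)
    (hG : Nat.card G = 2880) : Nonempty (G ≃* ((Fin 2 → F4) ≃ᵃ[F4] (Fin 2 → F4))) := by
  have inv : ∀ n ∈ N, n⁻¹ = n := fun n hn => inv_eq_of_mul_eq_one_left (h2 n hn)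
  have comm : ∀ a ∈ N, ∀ b ∈ N, a * b = b * a := fun a ha b hb => by
    rw [← inv _ (mul_mem ha hb), mul_inv_rev, inv a ha, inv b hb]
  let : CommGroup N := { (inferInstance : Group N) with mul_comm := fun a b => Subtype.ext (comm a a.2 b b.2) }
  let : Module (ZMod 2) (Additive N) := AddCommGroup.zmodModule fun x =>
    Additive.toMul.injective (Subtype.ext (by rw [two_nsmul]; exact h2 _ x.toMul.2))
  let L : G → Additive N ≃+ Additive N := fun g => MulEquiv.toAdditive (MulAut.conjNormal (H := N) g)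
  have hL : ∀ g (x : Additive N), ((L g x).toMul : G) = g * x.toMul * g⁻¹ := fun _ _ => rfl
  have ext : ∀ x y : Additive N, (x.toMul : G) = y.toMul → x = y := fun x y e =>
    Additive.toMul.injective (Subtype.ext e)
  let φ : Module.End (ZMod 2) (Additive N) := (L ζ).toAddMonoidHom.toZModLinearMap 2
  have hφ : φ * φ = (1 : ZMod 2) • 1 + (1 : ZMod 2) • φ := by
    refine LinearMap.ext fun x => ext _ _ ?_
    rw [one_smul, one_smul]
    change ζ * (ζ * x.toMul * ζ⁻¹) * ζ⁻¹ = x.toMul * (ζ * x.toMul * ζ⁻¹)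
    have hx := x.toMul.2
    generalize (x.toMul : G) = n at hx
    have h4 := hN.conj_mem n hx ζ
    have h5 := hN.conj_mem _ h4 ζ
    have h6 := hf _ (mul_mem (mul_mem hx h4) h5) (by
      refine (mul_inv_eq_iff_eq_mul.mp ?_).symm
      calc _ = ζ * n * ζ⁻¹ * (ζ * (ζ * n * ζ⁻¹) * ζ⁻¹) * (ζ * ζ * ζ * n * (ζ * ζ * ζ)⁻¹) := by group
        _ = _ := by rw [h3, one_mul, inv_one, mul_one, comm _ (mul_mem h4 h5) n hx, ← mul_assoc n])
    rw [eq_inv_of_mul_eq_one_right h6, inv _ (mul_mem hx h4)]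
  let : Module F4 (Additive N) := Module.compHom _ (QuadraticAlgebra.lift ⟨φ, hφ⟩).toRingHom
  have hs : ∀ (z : F4) (x : Additive N), z • x = z.re • x + z.im • L ζ x := fun _ _ => rfl
  have hcomm : ∀ g x, L g (L ζ x) = L ζ (L g x) := fun g x => ext _ _ (by
    have := comm _ (hc g) _ (hN.conj_mem _ (hN.conj_mem _ x.toMul.2 g) ζ)
    rw [hL, hL, hL, hL, ← mul_inv_eq_iff_eq_mul.mpr this]
    group)
  let L' : G → Additive N ≃ₗ[F4] Additive N := fun g =>
    (L g).toLinearEquiv fun z x => by rw [hs, hs, map_add, ZMod.map_smul, ZMod.map_smul, hcomm]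
  have : Module.Finite F4 (Additive N) := Module.Finite.of_finite
  have hr : Module.finrank F4 (Additive N) = Module.finrank F4 (Fin 2 → F4) := by
    have := Module.natCard_eq_pow_finrank (K := F4) (V := Additive N)
    rw [Nat.card_congr Additive.toMul, h16, Nat.card_eq_fintype_card, card_F4] at this
    rw [Module.finrank_fin_fun]
    exact Nat.pow_right_injective (show 2 ≤ 4 by norm_num) this.symm
  let b := LinearEquiv.ofFinrankEq _ _ hr
  let c : G → Additive N := fun g => Additive.ofMul ⟨_, hc g⟩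
  let Φ : G → (Fin 2 → F4) ≃ᵃ[F4] (Fin 2 → F4) := fun g =>
    ((b.symm.trans (L' g)).trans b).toAffineEquiv.trans (AffineEquiv.constVAdd F4 _ (b (c g)))
  have hΦ : ∀ g v, Φ g v = b (c g + L g (b.symm v)) := fun g v => by rw [map_add]; rfl
  let f : G →* (Fin 2 → F4) ≃ᵃ[F4] (Fin 2 → F4) := MonoidHom.mk' Φ fun g h => AffineEquiv.ext fun v => by
    rw [AffineEquiv.coe_mul, Function.comp_apply, hΦ, hΦ, hΦ, b.symm_apply_apply]
    refine congrArg b (ext _ _ ?_)
    change g * h * ζ * (g * h)⁻¹ * ζ⁻¹ * (g * h * (b.symm v).toMul * (g * h)⁻¹) =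
      g * ζ * g⁻¹ * ζ⁻¹ * (g * (h * ζ * h⁻¹ * ζ⁻¹ * (h * (b.symm v).toMul * h⁻¹)) * g⁻¹)
    have := comm _ (hc g) _ (hN.conj_mem _ (hc h) g)
    calc _ = g * (h * ζ * h⁻¹ * ζ⁻¹) * g⁻¹ * (g * ζ * g⁻¹ * ζ⁻¹) * (g * h * (b.symm v).toMul * (g * h)⁻¹) := by group
      _ = _ := by rw [← this]; group
  have hinj : Function.Injective f := (injective_iff_map_eq_one f).mpr fun g hg => by
    have k : ∀ x, c g + L g x = x := fun x => b.injective (by
      have := hΦ g (b x)
      rw [b.symm_apply_apply] at this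
      rw [← this, show Φ g = 1 from hg]; rfl)
    have h0 : c g = 0 := by simpa using k 0
    refine hi g (mul_inv_eq_iff_eq_mul.mp (mul_inv_eq_one.mp (congrArg (fun x : Additive N => (x.toMul : G)) h0)))
      fun n hn => mul_inv_eq_iff_eq_mul.mp ?_
    have := k (Additive.ofMul ⟨n, hn⟩)
    rw [h0, zero_add] at this
    exact congrArg (fun x : Additive N => (x.toMul : G)) this
  have := card_agl_le.1
  exact ⟨MulEquiv.ofBijective f (hinj.bijective_of_nat_card_le (hG ▸ card_agl_le.2))⟩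

end Cfsg.Agent.H3.Km
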