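import Cfsg.Agent.H3.Km6
import Cfsg.Agent.H3.Km7

/-! Doubly transitive groups with two-point stabilizer `A₄` or `A₅`: the direct product case, degree 16. -/

set_option autoImplicit false
set_option linter.unusedSectionVars false

namespace Cfsg.Agent.H3.Km

open Subgroup MulAction GW H8

variable {G Ω : Type*} [Group G] [MulAction G Ω] [Finite G] [Finite Ω]

namespace St

variable {α β : Ω} {τ σ J : G} {m : ℕ} (h : St α β τ σ m)
include h

theorem center_K {c : G} (h1 : c • α = α) (h2 : c • β = β)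
    (hc : ∀ k : G, k • α = α → k • β = β → c * k = k * c) : c = 1 := by
  by_contra e
  have h3 := H9.orderOf_two_of e (four_sq h.ht h.hs (h.cent c h1 h2 (hc τ h.ta h.tb)))
  obtain ⟨k, k1, k2, k3⟩ := h.fus c h3 h1 h2
  obtain ⟨l, l1, l2, l3⟩ := h.fus σ h.hs.1 h.sa h.sb
  have h4 : c = τ := mul_left_cancel ((hc k k1 k2).symm.trans (mul_inv_eq_iff_eq_mul.mp k3).symm)
  exact h.hs.2.2 (by rw [← l3, ← h4, ← hc l l1 l2, mul_inv_cancel_right])

theorem exists_swap {u : G} (hu : u ≠ 1) : ∃ c : G, (c⁻¹ * u * c) • α = β := by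
  obtain ⟨x, hx⟩ := h.exists_moved hu
  obtain ⟨c, -, hc⟩ := h.t2.exists_swap (mem_top u) (Set.mem_univ x) hx
  exact ⟨c, hc⟩

variable (hJ : CB α β J)
include hJ

theorem jb : J • β = α := swap_of_sq hJ.jj hJ.ja

theorem j2 : orderOf J = 2 :=
  H9.orderOf_two_of (fun e => h.t2.ne (by rw [← hJ.ja, e, one_smul])) hJ.jj

theorem jt : J * τ = τ * J := hJ.cent τ h.ta h.tb

theorem js : J * σ = σ * J := hJ.cent σ h.sa h.sb

theorem inv_X {u : G} : u * u = 1 ∧ u • α = β ↔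
    u = J ∨ u ∈ (J * ·) '' {k | orderOf k = 2 ∧ k • α = α ∧ k • β = β} := by
  have key : ∀ k : G, k • α = α → k • β = β → J * k * (J * k) = k * k := fun k h1 h2 => by
    rw [show J * k * (J * k) = J * (k * J) * k by group, ← hJ.cent k h1 h2, ← mul_assoc, hJ.jj, one_mul]
  constructor
  · rintro ⟨h1, h2⟩
    have e : J * (J * u) = u := by rw [← mul_assoc, hJ.jj, one_mul]
    have h3 : (J * u) • α = α := by rw [mul_smul, h2, h.jb hJ]
    have h4 : (J * u) • β = β := by rw [mul_smul, swap_of_sq h1 h2, hJ.ja]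
    by_cases e1 : J * u = 1
    · left; rw [← e, e1, mul_one]
    · exact Or.inr ⟨J * u, ⟨H9.orderOf_two_of e1 (by rw [← key _ h3 h4, e, h1]), h3, h4⟩, e⟩
  · rintro (rfl | ⟨k, ⟨h1, h2, h3⟩, rfl⟩)
    · exact ⟨hJ.jj, hJ.ja⟩
    · exact ⟨(key k h2 h3).trans (H9.mul_self_of_orderOf_two h1), by rw [mul_smul, h2, hJ.ja]⟩

theorem conj_jt {u : G} (hu : u ∈ (J * ·) '' {k | orderOf k = 2 ∧ k • α = α ∧ k • β = β}) : IsConj (J * τ) u := by
  obtain ⟨_, ⟨h1, h2, h3⟩, rfl⟩ := hu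
  obtain ⟨k, k1, k2, rfl⟩ := h.fus _ h1 h2 h3
  exact isConj_iff.mpr ⟨k, by rw [← mul_assoc k, ← hJ.cent k k1 k2]; group⟩

theorem conj_or {u : G} (hu : orderOf u = 2) : IsConj J u ∨ IsConj (J * τ) u := by
  obtain ⟨c, hc⟩ := h.exists_swap (H9.ne_one_of_orderOf_two hu)
  have e : IsConj (c⁻¹ * u * c) u := isConj_iff.mpr ⟨c, by group⟩
  exact ((h.inv_X hJ).mp ⟨H9.mul_self_of_orderOf_two ((H6.orderOf_eq_of_isConj e).trans hu), hc⟩).imp
    (fun e' : _ = J => e' ▸ e) fun e' => (h.conj_jt hJ e').trans e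

theorem cntB : (IsConj τ J ∧ ({u | u ∈ H6.cl τ ∧ u • α = β}.ncard = 1 ∨ {u | u ∈ H6.cl τ ∧ u • α = β}.ncard = m + 1)) ∨
    (¬ IsConj τ J ∧ IsConj τ (J * τ) ∧ {u | u ∈ H6.cl τ ∧ u • α = β}.ncard = m) := by
  have h1 : ((J * ·) '' {k | orderOf k = 2 ∧ k • α = α ∧ k • β = β}).ncard = m := by
    rw [Set.ncard_image_of_injective _ (mul_right_injective J), h.inv]
  have h2 : ∀ u, u ∈ H6.cl τ ∧ u • α = β → u = J ∨ u ∈ (J * ·) '' {k | orderOf k = 2 ∧ k • α = α ∧ k • β = β} :=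
    fun u hu => (h.inv_X hJ).mp ⟨H9.mul_self_of_orderOf_two (H6.orderOf_eq_of_isConj hu.1 ▸ h.ht), hu.2⟩
  by_cases e1 : IsConj τ J
  · refine Or.inl ⟨e1, ?_⟩
    by_cases e2 : IsConj τ (J * τ)
    · right
      rw [← h1, ← Set.ncard_insert_of_notMem (a := J) (by
        rintro ⟨k, hk, e⟩
        exact H9.ne_one_of_orderOf_two hk.1 (by simpa using e))]
      congr 1
      exact Set.ext fun u => ⟨h2 u, fun hu => ⟨hu.elim (fun e => e ▸ e1) fun e => e2.trans (h.conj_jt hJ e),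
        ((h.inv_X hJ).mpr hu).2⟩⟩
    · exact Or.inl (Set.ncard_eq_one.mpr ⟨J, Set.eq_singleton_iff_unique_mem.mpr ⟨⟨e1, hJ.ja⟩, fun u hu =>
        (h2 u hu).resolve_right fun e => e2 (hu.1.trans (h.conj_jt hJ e).symm)⟩⟩)
  · have e2 : IsConj τ (J * τ) := ((h.conj_or hJ h.ht).resolve_left fun e => e1 e.symm).symm
    refine Or.inr ⟨e1, e2, h1 ▸ congrArg _ (Set.ext fun u => ⟨fun hu => (h2 u hu).resolve_left
      fun e => e1 (e ▸ hu.1), fun hu => ⟨e2.trans (h.conj_jt hJ hu), ((h.inv_X hJ).mpr (Or.inr hu)).2⟩⟩)⟩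

variable (h1 : ¬ IsConj τ J) (h2 : IsConj τ (J * τ))
include h1 h2

theorem cl_swap : {u | u ∈ H6.cl J ∧ u • α = β} = {J} :=
  Set.eq_singleton_iff_unique_mem.mpr ⟨⟨IsConj.refl J, hJ.ja⟩, fun _ hu =>
    ((h.inv_X hJ).mp ⟨H9.mul_self_of_orderOf_two (H6.orderOf_eq_of_isConj hu.1 ▸ h.j2 hJ), hu.2⟩).resolve_right
      fun e => h1 ((h2.trans (h.conj_jt hJ e)).trans hu.1.symm)⟩

omit h2 in
theorem cl_fix {u : G} (hu : IsConj J u) {x y : Ω} (hx : u • x = x) (hy : u • y = y) : x = y := by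
  by_contra e
  obtain ⟨g, -, -, h3⟩ := h.conj_of_fix (H6.orderOf_eq_of_isConj hu ▸ h.j2 hJ) e hx hy
  exact h1 ((isConj_iff.mpr ⟨g, h3⟩).trans hu.symm)

theorem cl_eq {u v : G} (hu : IsConj J u) (hv : IsConj J v) {x : Ω} (hx : u • x ≠ x) (e : u • x = v • x) : u = v := by
  obtain ⟨c, -, c1, c2⟩ := h.t2.ex x trivial _ trivial hx.symm
  have k : ∀ w, IsConj J w → w • x = u • x → c⁻¹ * w * c = J := fun w hw e' =>
    Set.mem_singleton_iff.mp (h.cl_swap hJ h1 h2 ▸ ⟨hw.trans (isConj_iff.mpr ⟨c⁻¹, by rw [inv_inv]⟩),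
      conj_smul_eq' (by rw [c1, c2, e'])⟩)
  simpa using (k u hu rfl).trans (k v hv e.symm).symm

omit hJ h1 h2 in
theorem exists_zeta (hm : m = 3) (hn : Nat.card Ω = 16) (hi : (fx (Set.univ : Set Ω) τ).ncard = 4)
    (hj : (fx (fx (Set.univ : Set Ω) τ) σ).ncard = 4) :
    ∃ ζ : G, orderOf ζ = 3 ∧ ζ • α = α ∧ ∀ g : G, g • α = α → g * ζ = ζ * g := by
  have hΓ : fx (fx (Set.univ : Set Ω) τ) σ = fx Set.univ τ :=
    Set.eq_of_subset_of_ncard_le (fun x hx => hx.1) (by rw [hi, hj])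
  have hV : ∀ v ∈ four τ σ, ∀ x : Ω, τ • x = x → v • x = x := fun v hv x hx => h.fixV hv (by rw [hΓ]; exact ⟨trivial, hx⟩)
  have hK : ∀ u : G, orderOf u = 2 → u • α = α → u • β = β → u ∈ four τ σ := fun u e1 e2 e3 => by
    have : {τ, σ, τ * σ} = {u : G | orderOf u = 2 ∧ u • α = α ∧ u • β = β} := Set.eq_of_subset_of_ncard_le (by
      rintro _ (rfl | rfl | rfl)
      exacts [⟨h.ht, h.ta, h.tb⟩, ⟨h.hs.1, h.sa, h.sb⟩, ⟨h.hts.1, hV _ (mul_mem_four τ σ) _ h.ta,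
        hV _ (mul_mem_four τ σ) _ h.tb⟩]) (by
      rw [h.inv, hm, Set.ncard_eq_three.mpr ⟨τ, σ, τ * σ, h.hs.2.2.symm, h.hts.2.2.symm, (Refl.mul_ne h.ht).symm, rfl⟩])
    exact h.mv.mpr (Or.inr (this ▸ ⟨e1, e2, e3⟩ : u ∈ ({τ, σ, τ * σ} : Set G)))
  have hH := h.cardH
  rw [hn, hm] at hH
  have hVH : four τ σ ≤ stabilizer G α := fun v hv => hV v hv α h.ta
  have hN : Nat.card ↥(normalizer (four τ σ : Set G) ⊓ stabilizer G α) = 36 := by
    refine (card_eq_of_trans (P := fx Set.univ τ \ {α}) (p := β)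
      (fun g hg => ⟨⟨trivial, ?_⟩, fun e => h.t2.ne ?_⟩) fun x hx => ?_).trans ?_
    · have := conj_smul_eq (g := g) (hV _ (H9.conj_mem_of_mem_normalizer (inv_mem (mem_inf.mp hg).1)
        (left_mem_four τ σ)) β h.tb)
      rwa [show g * (g⁻¹ * τ * g⁻¹⁻¹) * g⁻¹ = τ by group] at this
    · exact smul_left_cancel g ((mem_stabilizer_iff.mp hg.2).trans (Eq.symm e))
    · obtain ⟨g, hg, e⟩ := h.tC.trans2 x hx
      have k : ∀ x : Ω, τ • x = x → (g * σ * g⁻¹) • x = x := fun x hx => by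
        have := conj_smul_eq (g := g) (hV σ (right_mem_four τ σ) _
          (h.tC.inv _ (inv_mem (mem_inf.mp hg).1) x ⟨trivial, hx⟩).2)
        rwa [smul_inv_smul] at this
      exact ⟨g, ⟨(h.mem_N (mem_Cz.mp hg.1) (hK _ ((H9.orderOf_conj g σ).trans h.hs.1) (k α h.ta) (k β h.tb))).2,
        hg.2⟩, e⟩
    · suffices e : stabilizer G α ⊓ stabilizer G β ≤ normalizer (four τ σ : Set G) by
        rw [h.tC.ncard_diff, hi, inf_assoc, inf_eq_right.mpr e, h.card, hm]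
      refine fun k hk => H9.mem_normalizer_of_conj_mem fun v hv => ?_
      by_cases e : v = 1
      · simp [e]
      have k : ∀ x : Ω, k • x = x → τ • x = x → (k * v * k⁻¹) • x = x := fun x e1 e2 => by
        have := conj_smul_eq (g := k) (hV v hv x e2)
        rwa [e1] at this
      exact hK _ ((H9.orderOf_conj _ v).trans (H9.orderOf_two_of e (four_sq h.ht h.hs hv))) (k α hk.1 h.ta)
        (k β hk.2 h.tb)
  have hS : IsSylowIn 2 (four τ σ) (stabilizer G α) := IsSylowIn.of_card_eq hVH (by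
    rw [card_four h.ht h.hs, hH]; simp; decide +kernel)
  obtain ⟨M, hM, hMN, h3⟩ : ∃ M : Subgroup (stabilizer G α), M.Normal ∧
      (∀ x ∈ M, (x : G) ∈ normalizer (four τ σ : Set G)) ∧ 3 ∣ Nat.card M := by
    refine ⟨((normalizer (four τ σ : Set G) ⊓ stabilizer G α).subgroupOf (stabilizer G α)).normalCore, inferInstance,
      fun x hx => (normalCore_le _ hx).1, ?_⟩
    have h4 := index_normalCore_dvd ((normalizer (four τ σ : Set G) ⊓ stabilizer G α).subgroupOf (stabilizer G α))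
    have h5 := ((normalizer (four τ σ : Set G) ⊓ stabilizer G α).subgroupOf (stabilizer G α)).card_mul_index
    rw [Nat.card_congr (subgroupOfEquivOfLe inf_le_right).toEquiv, hN, hH] at h5
    rw [show ((normalizer (four τ σ : Set G) ⊓ stabilizer G α).subgroupOf (stabilizer G α)).index = 5 by omega] at h4
    have h6 := ((normalizer (four τ σ : Set G) ⊓ stabilizer G α).subgroupOf (stabilizer G α)).normalCore.card_mul_index
    by_contra e
    have : 3 ^ 2 ∣ ((normalizer (four τ σ : Set G) ⊓ stabilizer G α).subgroupOf (stabilizer G α)).normalCore.index :=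
      (((Nat.Prime.coprime_iff_not_dvd Nat.prime_three).mpr e).pow_left 2).dvd_of_dvd_mul_left
      (by rw [h6, hH]; norm_num)
    exact absurd (this.trans h4) (by decide)
  have hA : ∀ u ∈ M, u * u = 1 → u = 1 := fun u hu e => by
    by_contra e1
    obtain ⟨g, g1, g2⟩ := h.fus_even (by rw [hn]) ((orderOf_coe u).trans (H9.orderOf_two_of e1 e)) u.2
    obtain ⟨z, hz⟩ : ∃ z : Ω, z ∉ fx Set.univ τ := by
      by_contra e2
      push Not at e2
      rw [Set.eq_univ_of_forall e2, Set.ncard_univ] at hi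
      omega
    obtain ⟨k, hk, rfl⟩ := h.t2.trans2 z ⟨trivial, fun e2 => hz (Eq.symm e2 ▸ h.tC.ha)⟩
    have h4 := hMN _ (hM.conj_mem u hu (⟨k, hk.2⟩ * (⟨g, g1⟩ : stabilizer G α)⁻¹))
    simp only [coe_mul, coe_inv, ← g2] at h4
    rw [show k * g⁻¹ * (g * τ * g⁻¹) * (k * g⁻¹)⁻¹ = k * τ * k⁻¹ by group] at h4
    have h5 : k * τ * k⁻¹ ∈ four τ σ := zpowers_le.mp (hS.le_of_le_normalizer'
      (H9.isPGroup_of_pow_eq_one fun a ha => by
        rcases (H9.mem_zpowers_of_mul_self (conj_sq h.tt)).mp ha with rfl | rfl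
        exacts [one_pow 2, by rw [pow_two, conj_sq h.tt]])
      (zpowers_le.mpr (mul_mem (mul_mem (mem_inf.mp hk).2 h.ta) (inv_mem (mem_inf.mp hk).2))) (zpowers_le.mpr h4))
    have h6 : fx Set.univ τ = fx (Set.univ : Set Ω) (k * τ * k⁻¹) := Set.eq_of_subset_of_ncard_le
      (fun x hx => ⟨trivial, hV _ h5 x hx.2⟩) (h.fx_cl (isConj_iff.mpr ⟨k, rfl⟩)).le
    exact hz (h6 ▸ ⟨trivial, conj_smul_eq h.tb⟩)
  have hB : ∀ a ∈ M, ∀ v ∈ (four τ σ).subgroupOf (stabilizer G α), a * v = v * a := fun a ha v hv => by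
    have e1 : a * v * a⁻¹ * v⁻¹ ∈ M := by
      rw [mul_assoc, mul_assoc, ← mul_assoc v]
      exact mul_mem ha (hM.conj_mem _ (inv_mem ha) v)
    have e2 : ((a * v * a⁻¹ * v⁻¹ : stabilizer G α) : G) ∈ four τ σ :=
      mul_mem (H9.conj_mem_of_mem_normalizer (hMN a ha) hv) (inv_mem hv)
    exact mul_inv_eq_iff_eq_mul.mp (mul_inv_eq_one.mp (hA _ e1 (Subtype.ext (four_sq h.ht h.hs e2))))
  have h4 : Nat.card M = 3 := by
    have h5 : ¬ 2 ∣ Nat.card M := fun e => by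
      obtain ⟨u, hu, hu2⟩ := exists_inv_of_dvd e
      exact H9.ne_one_of_orderOf_two hu2 (hA u hu (H9.mul_self_of_orderOf_two hu2))
    have h6 := card_dvd_of_le (show M.map (stabilizer G α).subtype ≤ Cz τ ⊓ stabilizer G α by
      rintro _ ⟨a, ha, rfl⟩
      exact ⟨mem_Cz.mpr (congrArg Subtype.val (hB a ha ⟨τ, h.ta⟩ (left_mem_four τ σ))), a.2⟩)
    rw [card_map_of_injective Subtype.val_injective, h.tC.card_stab, h.stabC, card_four h.ht h.hs, hi] at h6
    have := Nat.le_of_dvd (by norm_num) h6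
    generalize Nat.card M = a at *
    interval_cases a <;> omega
  obtain ⟨ζ, h5, rfl⟩ := H6.exists_zpowers_of_card_prime h4
  have h6 := H6.relIndex_centralizer_dvd_sub_one h4
  rw [normalizer_eq_top, relIndex_top_right] at h6
  have h7 := index_dvd_of_le (show (four τ σ).subgroupOf (stabilizer G α) ≤ centralizer (zpowers ζ : Set _) from
    fun v hv a ha => hB a ha v hv)
  have h8 := index_eq_one.mp (Nat.eq_one_of_dvd_coprimes
    ((Nat.Prime.coprime_iff_not_dvd Nat.prime_two).mpr hS.not_dvd_relIndex) h6 h7)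
  exact ⟨ζ, (orderOf_coe ζ).trans h5, ζ.2, fun g hg => congrArg Subtype.val
    ((h8 ▸ mem_top _ : (⟨g, hg⟩ : stabilizer G α) ∈ centralizer (zpowers ζ : Set _)) ζ (mem_zpowers ζ)).symm⟩

theorem sixteen (hm : m = 3) (hn : Nat.card Ω = 16) (hi : (fx (Set.univ : Set Ω) τ).ncard = 4)
    (hj : (fx (fx (Set.univ : Set Ω) τ) σ).ncard = 4) :
    Nonempty (G ≃* ((Fin 2 → F4) ≃ᵃ[F4] (Fin 2 → F4))) := by
  obtain ⟨ζ, z3, za, zc⟩ := h.exists_zeta hm hn hi hj
  have sq : ∀ u, IsConj J u → u * u = 1 := fun u hu =>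
    H9.mul_self_of_orderOf_two (H6.orderOf_eq_of_isConj hu ▸ h.j2 hJ)
  have nf : ∀ u, IsConj J u → ∀ x : Ω, u • x ≠ x := fun u hu x e => by
    obtain ⟨y, hy, e'⟩ := exists_other ((h.mod_sq (sq u hu)).trans (by rw [hn])) ⟨trivial, e⟩
    exact e' (h.cl_fix hJ h1 hu e hy.2)
  have zf : ∀ x : Ω, ζ • x = x → x = α := fun x e => by
    by_contra e1
    obtain ⟨k, hk, rfl⟩ := h.t2.trans2 x ⟨trivial, e1⟩
    have e2 : ζ • β = β := smul_left_cancel k (by rw [← mul_smul, zc k hk.2, mul_smul, e])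
    rw [h.faith ζ fun y => ?_, orderOf_one] at z3
    · omega
    by_cases e3 : y = α
    · rw [e3, za]
    obtain ⟨l, hl, rfl⟩ := h.t2.trans2 y ⟨trivial, e3⟩
    exact smul_fix (zc l hl.2).symm e2
  have zC : ∀ g : G, g * ζ = ζ * g → g • α = α := fun g e => zf _ (smul_fix e.symm za)
  have z1 : ∀ a, IsConj ζ a → a • α = α → a = ζ := fun a ha e => by
    obtain ⟨g, rfl⟩ := isConj_iff.mp ha
    rw [mul_smul, mul_smul, ← eq_inv_smul_iff] at e
    have := zf _ e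
    rw [inv_smul_eq_iff] at this
    rw [zc g this.symm, mul_inv_cancel_right]
  have hJ' : IsConj J (ζ * J * ζ⁻¹) := isConj_iff.mpr ⟨ζ, rfl⟩
  have cK : ∀ k : G, k • α = α → k • β = β → ζ * J * ζ⁻¹ * k = k * (ζ * J * ζ⁻¹) := fun k k1 k2 =>
    mem_Cz.mp (mul_mem (mul_mem (mem_Cz.mpr (zc k k1).symm) (mem_Cz.mpr (hJ.cent k k1 k2)))
      (inv_mem (mem_Cz.mpr (zc k k1).symm)))
  have ne : ζ * J * ζ⁻¹ ≠ J := fun e => h.t2.ne ((zC J (mul_inv_eq_iff_eq_mul.mp e).symm).symm.trans hJ.ja)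
  have key : IsConj J (ζ * (J * ζ * J⁻¹)⁻¹) := by
    rw [show ζ * (J * ζ * J⁻¹)⁻¹ = ζ * J * ζ⁻¹ * J⁻¹ by group, inv_eq_of_mul_eq_one_left hJ.jj]
    generalize ζ * J * ζ⁻¹ = K at hJ' cK ne
    have d : ∀ x : Ω, K • x ≠ J • x := fun x e => ne (h.cl_eq hJ h1 h2 hJ' (IsConj.refl J) (nf K hJ' x) e)
    have ja := hJ.ja
    have jb := h.jb hJ
    have kk := sq K hJ'
    have e1 := nf K hJ' α
    have e2 : K • α ≠ β := ja ▸ d α
    have e3 := nf J (IsConj.refl J) (K • α)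
    have e4 : J • K • α ≠ α := fun e => e2 ((swap_of_sq hJ.jj e).symm.trans ja)
    have e5 : J • K • α ≠ β := fun e => e1 ((swap_of_sq hJ.jj e).symm.trans jb)
    have kt := mem_Cz.mpr (cK τ h.ta h.tb)
    have hΔ : {α, β, K • α, J • K • α} = fx Set.univ τ := Set.eq_of_subset_of_ncard_le (by
      rintro _ (rfl | rfl | rfl | rfl)
      exacts [h.tC.ha, h.tC.hb, h.tC.inv K kt _ h.tC.ha,
        h.tC.inv J (mem_Cz.mpr (h.jt hJ)) _ (h.tC.inv K kt _ h.tC.ha)]) (by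
      rw [hi, Set.ncard_insert_of_notMem (by simp [h.t2.ne, e1.symm, e4.symm]),
        Set.ncard_insert_of_notMem (by simp [e2.symm, e5.symm]), Set.ncard_pair e3.symm])
    have e6 : K • β = J • K • α := by
      rcases (hΔ ▸ h.tC.inv K kt β h.tC.hb : K • β ∈ ({α, β, K • α, J • K • α} : Set Ω)) with e | e | e | e
      exacts [(d β (e.trans jb.symm)).elim, (nf K hJ' β e).elim, (h.t2.ne (smul_left_cancel K e).symm).elim, e]
    have e7 : K * J * (K * J) = 1 := by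
      refine h.center_K ?_ ?_ fun k k1 k2 => mem_Cz.mp ?_
      · simp only [mul_smul]
        rw [ja, e6, swap_of_sq hJ.jj rfl, swap_of_sq kk rfl]
      · simp only [mul_smul]
        rw [jb, ← e6, swap_of_sq kk rfl]
      · have := mul_mem (mem_Cz.mpr (cK k k1 k2)) (mem_Cz.mpr (hJ.cent k k1 k2))
        exact mul_mem this this
    have e8 : ∀ x : Ω, (K * J) • x ≠ x := fun x e => d (J • x) (by rw [← mul_smul, e, swap_of_sq hJ.jj rfl])
    refine (h.conj_or hJ (H9.orderOf_two_of (fun e => e8 α (by rw [e, one_smul])) e7)).resolve_right fun e => ?_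
    obtain ⟨x, hx⟩ := Set.nonempty_of_ncard_ne_zero (s := fx (Set.univ : Set Ω) (K * J)) (by
      rw [h.fx_cl (h2.trans e), hi]; omega)
    exact e8 x hx.2
  have key2 : ∀ a, IsConj ζ a → ∀ b, IsConj ζ b → a * b⁻¹ = 1 ∨ IsConj J (a * b⁻¹) := fun a ha b hb => by
    obtain ⟨g, rfl⟩ := isConj_iff.mp ha
    obtain ⟨k, rfl⟩ := isConj_iff.mp hb
    by_cases e : g • α = k • α
    · left
      have := zc (k⁻¹ * g) (by rw [mul_smul, e, inv_smul_smul])
      rw [show g * ζ * g⁻¹ = k * (k⁻¹ * g * ζ) * g⁻¹ by group, this]; group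
    obtain ⟨c, -, c1, c2⟩ := h.t2.ex _ trivial _ trivial e
    have e1 := z1 (c⁻¹ * (g * ζ * g⁻¹) * c) (ha.trans (isConj_iff.mpr ⟨c⁻¹, by rw [inv_inv]⟩))
      (conj_smul_eq' (by rw [c1, conj_smul, za]))
    have e2 := z1 (J⁻¹ * (c⁻¹ * (k * ζ * k⁻¹) * c) * J) (hb.trans (isConj_iff.mpr ⟨J⁻¹ * c⁻¹, by group⟩))
      (conj_smul_eq' (by rw [hJ.ja]; exact conj_smul_eq' (by rw [c2, conj_smul, za])))
    refine Or.inr (key.trans (isConj_iff.mpr ⟨c, ?_⟩))
    nth_rewrite 1 [← e1]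
    nth_rewrite 2 [← e2]
    group
  have c15 : (H6.cl J).ncard = 15 := by
    have := h.t2.c3 (ci_cl ⊤ J) fun d _ => mem_top d
    rwa [h.cl_swap hJ h1 h2, Set.ncard_singleton, Set.ncard_univ, hn,
      show {d | d ∈ H6.cl J ∧ d • α = α} = ∅ from Set.eq_empty_of_forall_notMem fun d hd => nf d hd.1 α hd.2,
      Set.ncard_empty] at this
  have c16 : (insert 1 (H6.cl J)).ncard = 16 := by
    rw [Set.ncard_insert_of_notMem (s := H6.cl J) fun e => nf 1 e α (one_smul _ _), c15]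
  have surj : (· * ζ⁻¹) '' H6.cl ζ = insert 1 (H6.cl J) := Set.eq_of_subset_of_ncard_le (by
    rintro _ ⟨a, ha, rfl⟩
    exact key2 a ha ζ (IsConj.refl ζ)) (by
    have := h.t2.card_eq
    rw [Set.ncard_image_of_injective _ (mul_left_injective _), c16, H6.ncard_cl_eq_index,
      show centralizer {ζ} = stabilizer G α from Subgroup.ext fun g => ⟨fun e => zC g (mem_Cz.mp e),
        fun e => mem_Cz.mpr (zc g e)⟩]
    rw [Set.ncard_univ, hn, top_inf_eq, card_top, ← (stabilizer G α).index_mul_card] at this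
    exact (Nat.eq_of_mul_eq_mul_right Nat.card_pos this).ge)
  have sq' : ∀ u ∈ insert 1 (H6.cl J), u * u = 1 := fun u hu => hu.elim (fun e => by rw [e, one_mul]) (sq u)
  let N : Subgroup G :=
    { carrier := insert 1 (H6.cl J)
      one_mem' := Or.inl rfl
      inv_mem' := fun {u} hu => by rwa [inv_eq_of_mul_eq_one_left (sq' u hu)]
      mul_mem' := fun {u v} hu hv => by
        rw [← inv_eq_of_mul_eq_one_left (sq' v hv)]
        rw [← surj] at hu hv
        obtain ⟨a, ha, rfl⟩ := hu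
        obtain ⟨b, hb, rfl⟩ := hv
        rw [show a * ζ⁻¹ * (b * ζ⁻¹)⁻¹ = a * b⁻¹ by group]
        exact key2 a ha b hb }
  have hN : N.Normal := ⟨fun u hu g => hu.elim (fun e => Or.inl (by simp [e]))
    fun e => Or.inr (ci_cl ⊤ J g trivial u e)⟩
  refine agl (N := N) (ζ := ζ) sq' c16 (by rw [← pow_three', ← z3, pow_orderOf_eq_one])
    (fun n hn e => hn.elim id fun e' => (nf n e' α (zC n e)).elim)
    (fun g => key2 _ (isConj_iff.mpr ⟨g, rfl⟩) ζ (IsConj.refl ζ)) (fun g e1 e2 => h.faith g fun x => ?_)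
    (by rw [h.cardG, hn, hm])
  obtain ⟨k, hk, rfl⟩ := h.t2.normal_trans hN (Or.inr (IsConj.refl J)) (nf J (IsConj.refl J) α) x
  exact smul_fix (e2 k hk) (zC g e1)

end St

end Cfsg.Agent.H3.Km
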