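import Cfsg.Agent.H3.Km8
import Cfsg.Agent.H7.ZStar

/-! Doubly transitive groups with two-point stabilizer `A₄` or `A₅`: odd degree, direct product case. -/

set_option autoImplicit false
set_option linter.unusedSectionVars false

namespace Cfsg.Agent.H3.Km

open Subgroup MulAction GW H8

theorem ncard_eq_one_of_odd {Ω : Type*} {s : Set Ω} (h : s.ncard % 2 = 1) (h1 : ∀ x ∈ s, ∀ y ∈ s, x = y) :
    s.ncard = 1 := by
  obtain ⟨x, hx⟩ := Set.nonempty_of_ncard_ne_zero (s := s) (by omega)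
  exact Set.ncard_eq_one.mpr ⟨x, Set.eq_singleton_iff_unique_mem.mpr ⟨hx, fun y hy => h1 y hy x hx⟩⟩

theorem exists_unique_of_ncard {Ω : Type*} {s : Set Ω} (h : s.ncard = 1) : ∃ x ∈ s, ∀ y ∈ s, y = x := by
  obtain ⟨x, rfl⟩ := Set.ncard_eq_one.mp h
  exact ⟨x, rfl, fun y hy => hy⟩

theorem exists_sq_of_two_elt {G : Type*} [Group G] {u : G} (h : ∃ k, u ^ 2 ^ k = 1) (h2 : u * u ≠ 1) :
    ∃ n, orderOf (u ^ n * u ^ n) = 2 := by
  obtain ⟨k, hk⟩ := h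
  obtain ⟨a, -, ha⟩ := (Nat.dvd_prime_pow Nat.prime_two).mp (orderOf_dvd_of_pow_eq_one hk)
  obtain ⟨b, rfl⟩ : ∃ b, a = b + 2 := ⟨a - 2, by
    by_contra e
    refine h2 ?_
    rw [← pow_two, ← orderOf_dvd_iff_pow_eq_one, ha]
    obtain rfl | rfl : a = 0 ∨ a = 1 := by omega
    all_goals simp⟩
  refine ⟨2 ^ b, ?_⟩
  rw [← pow_add, orderOf_pow_of_dvd (by positivity) (by rw [ha]; exact ⟨2, by ring⟩), ha]
  exact Nat.div_eq_of_eq_mul_left (by positivity) (by ring)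

variable {G Ω : Type*} [Group G] [MulAction G Ω] [Finite G] [Finite Ω]

theorem ncard_four_le (a b c d : G) : ({a, b, c, d} : Set G).ncard ≤ 4 :=
  (Set.ncard_insert_le _ _).trans (Nat.succ_le_succ ((Set.ncard_insert_le _ _).trans (Nat.succ_le_succ
    ((Set.ncard_insert_le _ _).trans (by rw [Set.ncard_singleton])))))

namespace St

variable {α β : Ω} {τ σ J : G} {m : ℕ} (h : St α β τ σ m)
include h

theorem stabX {u : G} (hu : u * τ = τ * u) {x y : Ω} (hx : x ∈ fx (fx Set.univ τ) σ) (hy : y ∈ fx (fx Set.univ τ) σ)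
    (e : x ≠ y) (ux : u • x = x) (uy : u • y = y) : u ∈ four τ σ := by
  obtain ⟨c, hc, rfl, rfl⟩ := h.tX.ex x hx y hy e
  have := H9.conj_mem_of_mem_normalizer (mem_inf.mp hc).2
    (h.cent _ (conj_smul_eq' ux) (conj_smul_eq' uy) (comm_conj (mem_Cz.mp hc.1) hu))
  rwa [show c * (c⁻¹ * u * c) * c⁻¹ = u by group] at this

theorem D0_conj {c u : G} (hc : c * τ = τ * c) (hu : c⁻¹ * u * c ∈ D0 τ σ) : u ∈ D0 τ σ := by
  have := ci_D0 τ σ c (mem_Cz.mpr hc) _ hu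
  rwa [show c * (c⁻¹ * u * c) * c⁻¹ = u by group] at this

theorem swap_C {u : G} (hu : u * τ = τ * u) (h2 : u * u = 1 ∨ u * u = τ) {x : Ω} (hx : τ • x = x) (e : u • x ≠ x) :
    ∃ c : G, c * τ = τ * c ∧ (c⁻¹ * u * c) • α = β ∧ (c⁻¹ * u * c) • β = α := by
  obtain ⟨c, hc, h1⟩ := h.tC.exists_swap (mem_Cz.mpr hu) ⟨trivial, hx⟩ e
  refine ⟨c, mem_Cz.mp hc, h1, ?_⟩
  rw [← h1, ← mul_smul, show c⁻¹ * u * c * (c⁻¹ * u * c) = c⁻¹ * (u * u) * c by group]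
  rcases h2 with e | e <;> rw [e]
  · simp
  · exact conj_smul_eq' (h.tC.inv c hc α h.tC.ha).2

theorem no_regular {N : Subgroup G} (hN : N.Normal) (h0 : N ≠ ⊥) (hs : Group.IsSolvable N)
    (hnr : ∀ N : Subgroup G, N.Normal → IsPretransitive N Ω → (∀ x : Ω, stabilizer N x = ⊥) → False) : False := by
  obtain ⟨p, M, -, -, h1, h2, h3⟩ := L0.exists_elementary_normal_le hN h0
  have h4 : IsPretransitive M Ω := ⟨fun x y => by
    obtain ⟨a, ha, rfl⟩ := h.normal_trans h1 h2 x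
    obtain ⟨b, hb, rfl⟩ := h.normal_trans h1 h2 y
    exact ⟨⟨b * a⁻¹, mul_mem hb (inv_mem ha)⟩, show (b * a⁻¹) • a • α = _ by rw [mul_smul, inv_smul_smul]⟩⟩
  refine hnr M h1 h4 fun x => eq_bot_iff.mpr fun g hg => Subtype.ext (h.faith _ fun y => ?_)
  obtain ⟨a, rfl⟩ := h4.exists_smul_eq x y
  exact smul_fix (L0.IsElementaryAbelian.commute h3 g.2 a.2).eq hg

variable (hn : Nat.card Ω % 2 = 1) (hJ : CB α β J)
include hn hJ

theorem isolated (h1 : ¬ IsConj τ J) (h2 : IsConj τ (J * τ)) : H7.Isolated J ∧ J ∉ center G := by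
  have h3 : ∀ u ∈ H6.cl J, (fx (Set.univ : Set Ω) u).ncard = 1 := fun u hu => ncard_eq_one_of_odd
    ((h.mod_sq (H9.mul_self_of_orderOf_two (H6.orderOf_eq_of_isConj hu ▸ h.j2 hJ))).trans hn)
    fun x hx y hy => h.cl_fix hJ h1 hu hx.2 hy.2
  obtain ⟨x, hx, h4⟩ := exists_unique_of_ncard (h3 J (IsConj.refl J))
  have h5 := (h.t2.c5 (ci_cl ⊤ J) (fun d _ => mem_top d) h3 hx.1).1
  rw [h.cl_swap hJ h1 h2, Set.ncard_singleton] at h5
  obtain ⟨u, -, h6⟩ := exists_unique_of_ncard h5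
  refine ⟨H7.Isolated.of_commute hJ.jj fun g hg => (h6 _ ⟨isConj_iff.mpr ⟨g, rfl⟩,
    h4 _ ⟨trivial, smul_fix hg.eq hx.2⟩⟩).trans (h6 J ⟨IsConj.refl J, hx.2⟩).symm, fun e => ?_⟩
  obtain ⟨g, -, g1⟩ := (h.t2.rebase hx.1 trivial (h.t2.exists_ne x).choose_spec.2).trans α trivial
  exact h.t2.ne ((g1 ▸ smul_fix (mem_center_iff.mp e g).symm hx.2 : J • α = α).symm.trans hJ.ja)

theorem coset_D0 (h1 : IsConj τ J) : ∀ v ∈ four τ σ, J * v ∈ D0 τ σ := by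
  obtain ⟨g, hg⟩ := isConj_iff.mp h1.symm
  have k0 : ∀ k : G, k • α = α → k • β = β → g * k * g⁻¹ * τ = τ * (g * k * g⁻¹) := fun k k1 k2 => by
    rw [← hg, show g * J * g⁻¹ * (g * k * g⁻¹) = g * (J * k) * g⁻¹ by group, hJ.cent k k1 k2]; group
  have k1 : ∀ u : G, orderOf u = 2 → u • α = α → u • β = β → Refl τ (g * u * g⁻¹) ∧
      ∃ c, c * τ = τ * c ∧ c * (g * τ * g⁻¹) * c⁻¹ = g * u * g⁻¹ := fun u e u1 u2 => by
    refine ⟨⟨(H9.orderOf_conj g u).trans e, k0 u u1 u2, fun e' => h.t2.ne ?_⟩, ?_⟩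
    · rw [← hJ.ja, ← show u = J by simpa using e'.trans hg.symm, u1]
    · obtain ⟨k, e1, e2, rfl⟩ := h.fus u e u1 u2
      exact ⟨_, k0 k e1 e2, by group⟩
  obtain ⟨ha, -⟩ := k1 τ h.ht h.ta h.tb
  obtain ⟨hb, c1, hc1, e1⟩ := k1 σ h.hs.1 h.sa h.sb
  obtain ⟨hab, c2, hc2, e2⟩ := k1 _ h.hts.1 (h.fixV (mul_mem_four τ σ) h.aΓ) (h.fixV (mul_mem_four τ σ) h.bΓ)
  have hr := h.hs.conj g
  rw [show g * (τ * σ) * g⁻¹ = g * τ * g⁻¹ * (g * σ * g⁻¹) by group] at hab e2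
  generalize g * τ * g⁻¹ = a at *
  generalize g * σ * g⁻¹ = b at *
  have hX : ∀ u : G, u * τ = τ * u → u • α = β → u • β = α → u = J ∨ u = J * τ ∨ u = J * σ ∨ u = J * (τ * σ) :=
    fun u e e1 e2 => h.swap_mem (h.jt hJ) e (hJ.ja.trans e1.symm) ((h.jb hJ).trans e2.symm)
  have haD : a ∈ D0 τ σ := by
    by_contra e
    have f1 : (fx (fx (Set.univ : Set Ω) τ) a).ncard = 1 := ncard_eq_one_of_odd
      ((h.mod_C ha.2.1 (Or.inl ha.sq)).trans hn) fun x hx y hy => by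
        by_contra e'
        exact e (h.mem_D0 ha.2.1 (H9.ne_one_of_orderOf_two ha.1) ha.2.2 hx.1.2 hy.1.2 e' hx.2 hy.2)
    have f2 : (fx (fx (Set.univ : Set Ω) τ) b).ncard = 1 := by rw [← e1, h.tC.fx_conj (mem_Cz.mpr hc1), f1]
    have f3 : (fx (fx (Set.univ : Set Ω) τ) (a * b)).ncard = 1 := by rw [← e2, h.tC.fx_conj (mem_Cz.mpr hc2), f1]
    obtain ⟨x, hx, f4⟩ := exists_unique_of_ncard f1
    have bx : b • x = x := f4 _ ⟨h.tC.inv b (mem_Cz.mpr hb.2.1) x hx.1, smul_fix hr.2.1.symm hx.2⟩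
    have f5 := (h.tC.c5 (D := {u | Refl τ u ∧ (fx (fx (Set.univ : Set Ω) τ) u).ncard = 1})
      (fun y hy d hd => ⟨hd.1.conj_of_comm (mem_Cz.mp hy), (h.tC.fx_conj hy d).trans hd.2⟩)
      (fun d hd => mem_Cz.mpr hd.1.2.1) (fun d hd => hd.2) hx.1).1
    have f6 := f5.trans_le ((Set.ncard_le_ncard fun u hu => hX u hu.1.1.2.1 hu.2 (swap_of_sq hu.1.1.sq hu.2)).trans
      (ncard_four_le _ _ _ _))
    refine absurd ((Set.ncard_le_ncard (s := {a, b, a * b, τ * a, τ * b}) ?_).trans f6) ?_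
    · rintro _ (rfl | rfl | rfl | rfl | rfl)
      exacts [⟨⟨ha, f1⟩, hx.2⟩, ⟨⟨hb, f2⟩, bx⟩, ⟨⟨hab, f3⟩, by rw [mul_smul, bx, hx.2]⟩,
        ⟨⟨ha.mul h.ht, by rw [h.fx_tau_mul ha.2.1, f1]⟩, by rw [mul_smul, hx.2, hx.1.2]⟩,
        ⟨⟨hb.mul h.ht, by rw [h.fx_tau_mul hb.2.1, f2]⟩, by rw [mul_smul, bx, hx.1.2]⟩]
    · have n1 : a ≠ τ * b := fun e => hab.2.2 (by rw [e, mul_assoc, hb.sq, mul_one])
      have n2 : b ≠ τ * a := fun e => hab.2.2 (by rw [← hr.2.1, e, mul_assoc, ha.sq, mul_one])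
      have n3 : a * b ≠ τ * a := fun e => hb.2.2 (mul_right_cancel (hr.2.1.trans e))
      rw [Set.ncard_insert_of_notMem (by
          simp [hr.2.2.symm, H9.ne_one_of_orderOf_two hb.1, h.t1, n1]),
        Set.ncard_insert_of_notMem (by simp [H9.ne_one_of_orderOf_two ha.1, h.t1, n2]),
        Set.ncard_insert_of_notMem (by simp [n3, ha.2.2]), Set.ncard_pair (by simpa using hr.2.2.symm)]
      omega
  have hbD : b ∈ D0 τ σ := e1 ▸ ci_D0 τ σ c1 (mem_Cz.mpr hc1) a haD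
  have habD : a * b ∈ D0 τ σ := e2 ▸ ci_D0 τ σ c2 (mem_Cz.mpr hc2) a haD
  obtain ⟨s, s1, s2, s3, s4⟩ : ∃ s : G, s * τ = τ * s ∧ s * σ = σ * s ∧ s * s = 1 ∧ ∀ v ∈ four τ σ, s * v ∈ D0 τ σ := by
    obtain ⟨c, hc, e⟩ := haD
    have hc' := inv_mem (mem_Cz.mpr hc)
    have d1 := ci_D0 τ σ _ hc' _ hbD
    have d2 := ci_D0 τ σ _ hc' _ habD
    have r1 := h.refl_of_D0 d1
    have r2 := hr.conj c⁻¹
    rw [show c⁻¹ * (a * b) * c⁻¹⁻¹ = c⁻¹ * a * c⁻¹⁻¹ * (c⁻¹ * b * c⁻¹⁻¹) by group] at d2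
    generalize c⁻¹ * b * c⁻¹⁻¹ = s at *
    have d3 : σ * s ∈ D0 τ σ ∧ s * σ = σ * s := by
      rcases e with rfl | rfl
      · rw [show c⁻¹ * (c * σ * c⁻¹) * c⁻¹⁻¹ = σ by group] at d2 r2
        exact ⟨d2, r2.2.1⟩
      · rw [show c⁻¹ * (c * (τ * σ) * c⁻¹) * c⁻¹⁻¹ = τ * σ by group] at d2 r2
        have := h.mul_D0 d2
        rw [← mul_assoc, ← mul_assoc, h.tt, one_mul] at this
        exact ⟨this, mul_left_cancel (a := τ) (by rw [← mul_assoc, ← r1.2.1, mul_assoc, r2.2.1, mul_assoc])⟩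
    refine ⟨s, r1.2.1, d3.2, r1.sq, fun v hv => ?_⟩
    rcases h.mv.mp hv with rfl | rfl | rfl | rfl
    exacts [by rwa [mul_one], r1.2.1 ▸ h.mul_D0 d1, d3.2 ▸ d3.1,
      by rw [← mul_assoc, r1.2.1, mul_assoc, d3.2]; exact h.mul_D0 d3.1]
  have s5 := h.mem_N s1 (by rw [s2, mul_inv_cancel_right]; exact right_mem_four τ σ)
  obtain ⟨x, hx, e⟩ : ∃ x ∈ fx (fx (Set.univ : Set Ω) τ) σ, s • x ≠ x := by
    by_contra e
    push Not at e
    have := h.refl_of_D0 (s4 s (h.cent s (e α h.aΓ) (e β h.bΓ) s1))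
    exact H9.ne_one_of_orderOf_two this.1 s3
  obtain ⟨y, hy, y1⟩ := h.tX.exists_swap s5 hx e
  have y2 := swap_of_sq (u := y⁻¹ * s * y) (by simpa using conj_sq (g := y⁻¹) s3) y1
  have y3 : (y⁻¹ * s * y)⁻¹ * J ∈ four τ σ := h.cent _ (by rw [mul_smul, hJ.ja, inv_smul_eq_iff, y1])
    (by rw [mul_smul, h.jb hJ, inv_smul_eq_iff, y2])
    (mem_Cz.mp (mul_mem (inv_mem (mem_Cz.mpr (comm_conj (mem_Cz.mp hy.1) s1))) (mem_Cz.mpr (h.jt hJ))))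
  intro v hv
  have := ci_D0 τ σ _ (inv_mem (mem_inf.mp hy).1) _
    (s4 _ (H9.conj_mem_of_mem_normalizer (mem_inf.mp hy).2 (mul_mem y3 hv)))
  rwa [show y⁻¹ * (s * (y * ((y⁻¹ * s * y)⁻¹ * J * v) * y⁻¹)) * y⁻¹⁻¹ = J * v by group] at this

theorem not_conj : ¬ IsConj τ J := by
  intro h1
  have hD := h.coset_D0 hn hJ h1
  have hX : ∀ u : G, u * τ = τ * u → u • α = β → u • β = α → u ∈ (J * ·) '' four τ σ := fun u e e1 e2 =>
    ⟨J * u, h.cent _ (by rw [mul_smul, e1, h.jb hJ]) (by rw [mul_smul, e2, hJ.ja])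
      (mem_Cz.mp (mul_mem (mem_Cz.mpr (h.jt hJ)) (mem_Cz.mpr e))), by
        change J * (J * u) = u
        rw [← mul_assoc, hJ.jj, one_mul]⟩
  have c4 : ((J * ·) '' four τ σ).ncard = 4 := by
    rw [Set.ncard_image_of_injective _ (mul_right_injective J), H6.ncard_subgroup, card_four h.ht h.hs]
  have ja : ∀ v ∈ four τ σ, (J * v) • α = β := fun v hv => by rw [mul_smul, h.fixV hv h.aΓ, hJ.ja]
  have k1 : ∀ u : G, u * τ = τ * u → u * u = 1 ∨ u * u = τ → u ≠ 1 → u ≠ τ → u ∈ D0 τ σ := fun u e e2 u1 u2 => by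
    by_cases e3 : u • α = α ∧ u • β = β
    · exact h.mem_D0 e u1 u2 h.ta h.tb h.t2.ne e3.1 e3.2
    obtain ⟨c, hc, c1, c2⟩ : ∃ c : G, c * τ = τ * c ∧ (c⁻¹ * u * c) • α = β ∧ (c⁻¹ * u * c) • β = α :=
      (not_and_or.mp e3).elim (h.swap_C e e2 h.ta) (h.swap_C e e2 h.tb)
    obtain ⟨v, hv, e4⟩ := hX _ (comm_conj hc e) c1 c2
    exact h.D0_conj hc (e4 ▸ hD v hv)
  have hf : Fus τ := fun u hu => (h.conj_or hJ hu).elim h1.trans
    (h.isConj_of_D0 (hD τ (left_mem_four τ σ))).trans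
  have k2 : ∀ u : G, (∃ k, u ^ 2 ^ k = 1) → u * u = 1 := fun u hu => by
    by_contra e
    obtain ⟨n, e1⟩ := exists_sq_of_two_elt hu e
    obtain ⟨c, hc⟩ := isConj_iff.mp (hf _ e1).symm
    rw [show c * (u ^ n * u ^ n) * c⁻¹ = c * u ^ n * c⁻¹ * (c * u ^ n * c⁻¹) by group] at hc
    generalize c * u ^ n * c⁻¹ = w at hc
    exact h.t1 (hc.symm.trans (h.refl_of_D0 (k1 w (by rw [← hc, mul_assoc]) (Or.inr hc)
      (fun e => h.t1 (by rw [← hc, e, one_mul])) fun e => h.t1 (by rw [← hc, e, h.tt]))).sq)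
  obtain ⟨D, hD2⟩ : ∃ D : Set G, D = {u | u ∈ Cz τ ⊓ normalizer (four τ σ : Set G) ∧ u * u = 1 ∧ u ∉ four τ σ} :=
    ⟨_, rfl⟩
  have f1 : ∀ u ∈ D, (fx (fx (fx (Set.univ : Set Ω) τ) σ) u).ncard = 1 := fun u hu => by
    rw [hD2] at hu
    refine ncard_eq_one_of_odd ((fx_mod_two (h.tX.inv u hu.1) fun x _ => by rw [← mul_smul, hu.2.1, one_smul]).trans
      ((h.mod_C h.hs.2.1 (Or.inl h.hs.sq)).trans hn)) fun x hx y hy => ?_
    by_contra e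
    exact hu.2.2 (h.stabX (mem_Cz.mp hu.1.1) hx.1 hy.1 e hx.2 hy.2)
  have f2 : {d | d ∈ D ∧ d • α = β} = (J * ·) '' four τ σ := Set.ext fun u => ⟨fun hu => by
    rw [hD2] at hu
    exact hX u (mem_Cz.mp hu.1.1.1) hu.2 (swap_of_sq hu.1.2.1 hu.2), by
    rintro ⟨v, hv, rfl⟩
    rw [hD2]
    exact ⟨⟨mul_mem (h.mem_N (h.jt hJ) (by rw [h.js hJ, mul_inv_cancel_right]; exact right_mem_four τ σ))
      ⟨four_le_Cz h.hs hv, le_normalizer hv⟩, (h.refl_of_D0 (hD v hv)).sq,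
      fun e => h.t2.ne ((h.fixV e h.aΓ).symm.trans (ja v hv))⟩, ja v hv⟩⟩
  have f3 := fun (x : Ω) (hx : x ∈ fx (fx (Set.univ : Set Ω) τ) σ) => h.tX.c5 (D := D) (fun y hy d hd => by
    rw [hD2] at hd ⊢
    refine ⟨mul_mem (mul_mem hy hd.1) (inv_mem hy), conj_sq hd.2.1, fun e => hd.2.2 ?_⟩
    exact (mem_normalizer_iff.mp (mem_inf.mp hy).2 d).mpr e) (fun d hd => by rw [hD2] at hd; exact hd.1) f1 hx
  rw [f2, c4] at f3
  have h16 : ¬ 16 ∣ Nat.card (Cz τ) := by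
    obtain ⟨S, hS, hVS⟩ := exists_isSylowIn_ge (isPGroup_four h.ht h.hs) (four_le_Cz h.hs)
    have s1 : ∀ s ∈ S, s * s = 1 := fun s hs => k2 s
      ((hS.pgroup ⟨s, hs⟩).imp fun _ e => congrArg Subtype.val e)
    have s2 : ∀ s ∈ S, ∀ t ∈ S, s * t = t * s := fun s hs t ht =>
      H9.comm_of_sq_eq_one (fun a ha => by rw [pow_two, s1 a ha]) hs ht
    have s3 : ∀ s ∈ S, s ∉ four τ σ → s ∈ D := fun s hs e => hD2 ▸ ⟨h.mem_N (mem_Cz.mp (hS.le hs)) (by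
      rw [s2 s hs σ (hVS (right_mem_four τ σ)), mul_inv_cancel_right]; exact right_mem_four τ σ), s1 s hs, e⟩
    have s4 : Nat.card S ≤ 8 := by
      by_cases e : S ≤ four τ σ
      · exact (card_le_of_le e).trans (by rw [card_four h.ht h.hs]; norm_num)
      obtain ⟨s, hs, e⟩ := SetLike.not_le_iff_exists.mp e
      obtain ⟨x, hx, e1⟩ := exists_unique_of_ncard (f1 s (s3 s hs e))
      refine (Set.ncard_le_ncard (s := S) (t := four τ σ ∪ {d | d ∈ D ∧ d • x = x}) fun t ht => ?_).trans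
        ((Set.ncard_union_le _ _).trans (by rw [(f3 x hx.1).1, H6.ncard_subgroup, card_four h.ht h.hs]))
      by_cases e2 : t ∈ four τ σ
      · exact Or.inl e2
      have e3 := s3 t ht e2
      exact Or.inr ⟨e3, e1 _ ⟨h.tX.inv t (hD2 ▸ e3).1 x hx.1, smul_fix (s2 s hs t ht) hx.2⟩⟩
    intro e
    rw [← L0.relIndex_mul_card_of_le hS.le] at e
    have := Nat.le_of_dvd Nat.card_pos ((((Nat.Prime.coprime_iff_not_dvd Nat.prime_two).mpr
      hS.not_dvd_relIndex).pow_left 4).dvd_of_dvd_mul_left e)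
    omega
  let t : Cz τ := ⟨τ, mem_Cz.mpr rfl⟩
  have mz : ∀ u : Cz τ, u ∈ zpowers t ↔ (u : G) = 1 ∨ (u : G) = τ := fun u => by
    rw [H9.mem_zpowers_of_mul_self (Subtype.ext h.tt), Subtype.ext_iff, Subtype.ext_iff]; rfl
  have : (zpowers t).Normal := ⟨fun u hu g => (mz _).mpr (((mz u).mp hu).imp (fun e => by simp [e])
    fun e => by rw [coe_mul, coe_mul, e, mem_Cz.mp g.2, coe_inv, mul_inv_cancel_right])⟩
  have cz : Nat.card (zpowers t) = 2 := by rw [Nat.card_zpowers, ← orderOf_coe]; exact h.ht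
  have p1 : ∀ u : Cz τ, QuotientGroup.mk' (zpowers t) u = 1 ↔ (u : G) = 1 ∨ (u : G) = τ := fun u =>
    (QuotientGroup.eq_one_iff u).trans (mz u)
  have cq : ∀ (T : Set (Cz τ ⧸ zpowers t)) (D : Set G), (∀ u ∈ D, u ∈ Cz τ) →
      (∀ u : Cz τ, QuotientGroup.mk' (zpowers t) u ∈ T ↔ (u : G) ∈ D) → D.ncard = 2 * T.ncard := fun T D e1 e2 => by
    rw [← cz, ← Nat.card_coe_set_eq T, ← QuotientGroup.card_preimage_mk, Nat.card_coe_set_eq]
    exact Eq.symm (Set.ncard_congr (fun u _ => (u : G)) (fun u hu => (e2 u).mp hu) (fun _ _ _ _ e => Subtype.ext e)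
      fun u hu => ⟨⟨u, e1 u hu⟩, (e2 _).mpr hu, rfl⟩)
  have hs := QuotientGroup.mk'_surjective (zpowers t)
  have h8 : ¬ 8 ∣ Nat.card (Cz τ ⧸ zpowers t) := fun e => h16 (by
    rw [card_eq_card_quotient_mul_card_subgroup (zpowers t), cz]; exact mul_dvd_mul_right e 2)
  generalize QuotientGroup.mk' (zpowers t) = π at p1 cq hs
  have p2 : ∀ u : Cz τ, orderOf (π u) = 2 ↔ (u : G) ∈ D0 τ σ := fun u => ⟨fun e =>
    have e1 := not_or.mp ((p1 u).not.mp (H9.ne_one_of_orderOf_two e))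
    k1 u (mem_Cz.mp u.2) ((p1 (u * u)).mp (by rw [map_mul, H9.mul_self_of_orderOf_two e])) e1.1 e1.2,
    fun e => have e1 := h.refl_of_D0 e
      H9.orderOf_two_of ((p1 u).not.mpr (not_or.mpr ⟨H9.ne_one_of_orderOf_two e1.1, e1.2.2⟩))
        (by rw [← map_mul]; exact (p1 _).mpr (Or.inl e1.sq))⟩
  let s : Cz τ := ⟨σ, mem_Cz.mpr h.hs.2.1⟩
  have p3 : ∀ u : Cz τ, π u = π s ↔ (u : G) = σ ∨ (u : G) = τ * σ := fun u => by
    rw [← mul_inv_eq_one, ← map_inv, ← map_mul, p1, coe_mul, coe_inv, mul_inv_eq_one, mul_inv_eq_iff_eq_mul]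
  have p4 : ∀ u : Cz τ, Refl (π s) (π u) ↔ (u : G) ∈ D := fun u => by
    have e0 : π u * π s = π s * π u ↔ (u : G) * σ * (u : G)⁻¹ = σ ∨ (u : G) * σ * (u : G)⁻¹ = τ * σ := by
      rw [← mul_inv_eq_iff_eq_mul, ← map_inv, ← map_mul, ← map_mul, p3]; rfl
    rw [hD2, Refl, p2, e0, Ne, p3]
    refine ⟨fun e => have e1 := h.refl_of_D0 e.1
      ⟨h.mem_N (mem_Cz.mp u.2) (h.mv.mpr (Or.inr (Or.inr e.2.1))), e1.sq, fun e' =>
        e.2.2 (((h.mv.mp e').resolve_left (H9.ne_one_of_orderOf_two e1.1)).resolve_left e1.2.2)⟩,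
      fun e => ⟨k1 u (mem_Cz.mp u.2) (Or.inl e.2.1) (fun e' => e.2.2 (h.mv.mpr (Or.inl e')))
        fun e' => e.2.2 (h.mv.mpr (Or.inr (Or.inl e'))), ?_, fun e' => e.2.2 (h.mv.mpr (Or.inr (Or.inr e')))⟩⟩
    have e1 := h.hs.conj_of_comm (mem_Cz.mp u.2)
    exact ((h.mv.mp (H9.conj_mem_of_mem_normalizer (mem_inf.mp e.1).2 (right_mem_four τ σ))).resolve_left
      (H9.ne_one_of_orderOf_two e1.1)).resolve_left e1.2.2
  have hJD : J ∈ D := (f2 ▸ ⟨1, one_mem _, mul_one J⟩ : J ∈ {d | d ∈ D ∧ d • α = β}).1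
  obtain ⟨r, k, w, hN, q1, q2⟩ := four_count h8 ((p2 s).mpr ⟨1, by simp, Or.inl (by simp [s])⟩)
    ((p4 ⟨J, mem_Cz.mpr (h.jt hJ)⟩).mpr hJD) fun y hy => by
      obtain ⟨u, rfl⟩ := hs y
      obtain ⟨c, hc, e⟩ := (p2 u).mp hy
      obtain ⟨c', rfl⟩ : ∃ c' : Cz τ, (c' : G) = c := ⟨⟨c, mem_Cz.mpr hc⟩, rfl⟩
      rw [← (p3 (c'⁻¹ * u * c')).mpr (e.imp (fun e => by simp [← e, mul_assoc]) fun e => by simp [← e, mul_assoc])]
      exact π.map_isConj (isConj_iff.mpr ⟨c', by group⟩)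
  have q3 := cq {w | Refl (π s) w} D (fun u hu => (hD2 ▸ hu).1.1) p4
  have q4 := cq {w | orderOf w = 2} _ (fun u hu => mem_Cz.mpr (h.refl_of_D0 hu).2.1) p2
  obtain ⟨i, hi, i0⟩ := h.exists_i
  obtain ⟨j, hj, j0⟩ := h.exists_j
  have q5 := h.D0_cnt hj
  have q6 := h.tC.c1 (ci_D0 τ σ) fun d hd => (h.fx_D0 hd).trans hj
  have q7 := h.tC.c2 (ci_D0 τ σ) fun d hd _ => (h.fx_D0 hd).trans hj
  rw [show {u | u ∈ D0 τ σ ∧ u • α = β} = (J * ·) '' four τ σ from Set.ext fun u =>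
    ⟨fun hu => hX u (h.refl_of_D0 hu.1).2.1 hu.2 (swap_of_sq (h.refl_of_D0 hu.1).sq hu.2), by
      rintro ⟨v, hv, rfl⟩
      exact ⟨hD v hv, ja v hv⟩⟩, c4, hi] at q5
  rw [h.D0_stab, hi, Nat.add_sub_cancel, Nat.add_sub_cancel] at q7
  rw [q2] at q4
  rw [q4, hi] at q6
  rw [(f3 α h.aΓ).2, hj] at q3
  rw [← nJ, q1] at q3
  obtain rfl : i = (2 * j + 3) * j := by linarith
  have q8 := Nat.eq_of_mul_eq_mul_right j0 (q7.trans (show _ = (4 * j + 6) * j by ring))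
  rw [q8] at q6
  exact num_odd (j := j + 1) (r := r) (by omega) hN (by omega) (by
    have := Nat.eq_of_mul_eq_mul_right (Nat.succ_pos j) (q6.trans (show _ = (2 * j + 1) * (4 * j + 6) * (j + 1) by ring))
    linarith)

end St

end Cfsg.Agent.H3.Km
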