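import Mathlib

/-!
# Linear algebra of a large extraspecial subgroup
-/

set_option autoImplicit false

namespace Cfsg.Agent.H3

open Module

/-- Normalisation of linear identities over the field of two elements. -/
macro "ch2" : tactic => `(tactic| (refine (one_smul (ZMod 2) _).symm.trans (Eq.trans ?_ (one_smul (ZMod 2) _)); match_scalars <;> decide))

theorem z2 (x : ZMod 2) : x = 0 ∨ x = 1 := by revert x; decide

variable {K W : Type*} [Group K] [AddCommGroup W] [Module (ZMod 2) W]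

/-- The group `K = C(z)/Q` acts on `W = Q/⟨z⟩`; `A` is the set of images of conjugates `a` of `z`,
`E a` is the image of `Q ∩ Q_a` and `L a` is the image of `C(z) ∩ Q_a`. -/
structure LX (s : K →* End (ZMod 2) W) (q : W → ZMod 2) (f : LinearMap.BilinForm (ZMod 2) W)
    (A : Set W) (E : W → Submodule (ZMod 2) W) (L : W → Subgroup K) : Prop where
  q_add : ∀ v w, q (v + w) = q v + q w + f v w
  q_s : ∀ k w, q (s k w) = q w
  nondeg : ∀ w, (∀ v, f w v = 0) → w = 0
  faithful : ∀ k, (∀ w, s k w = w) → k = 1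
  ne : ∀ a ∈ A, a ≠ 0
  s_A : ∀ k, ∀ a ∈ A, s k a ∈ A
  self : ∀ a ∈ A, a ∈ E a
  sing : ∀ a ∈ A, ∀ e ∈ E a, q e = 0
  s_E : ∀ k a, ∀ e ∈ E a, s k e ∈ E (s k a)
  s_L : ∀ k a, ∀ l ∈ L a, k * l * k⁻¹ ∈ L (s k a)
  sq : ∀ a ∈ A, ∀ l ∈ L a, l * l = 1
  onE : ∀ a ∈ A, ∀ l ∈ L a, ∀ e ∈ E a, s l e = e ∨ s l e = e + a
  onP : ∀ a ∈ A, ∀ l ∈ L a, ∀ w, f a w = 0 → s l w + w ∈ E a
  inj : ∀ a ∈ A, ∀ l ∈ L a, ∀ u, f a u = 1 → s l u + u ∈ E a → l = 1
  surj : ∀ a ∈ A, ∀ u, f a u = 1 → ∀ w, f a w = 0 → ∃ l ∈ L a, s l u + u + w ∈ E a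
  good : ∀ a ∈ A, ∀ u, f a u = 1 → ∀ b ∈ A, b ∈ E a → b ≠ a → ∀ w ∈ E b,
    ∃ l ∈ L a, s l u + u + w ∈ E a ∧ s l w = w

theorem s_mul (s : K →* End (ZMod 2) W) (k l : K) (w : W) : s (k * l) w = s k (s l w) := by
  rw [map_mul, End.mul_apply]

theorem s_one (s : K →* End (ZMod 2) W) (w : W) : s 1 w = w := by rw [map_one, End.one_apply]

theorem s_s (s : K →* End (ZMod 2) W) {l : K} (h : l * l = 1) (w : W) : s l (s l w) = w := by
  rw [← s_mul, h, s_one]

theorem s_comm (s : K →* End (ZMod 2) W) {k l : K} (h : k * l = l * k) (w : W) :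
    s k (s l w) = s l (s k w) := by rw [← s_mul, h, s_mul]

theorem s_inj (s : K →* End (ZMod 2) W) (k : K) {v w : W} (h : s k v = s k w) : v = w := by
  rw [← s_one s v, ← s_one s w, ← inv_mul_cancel k, s_mul, s_mul, h]

theorem s_fix_of_cube (s : K →* End (ZMod 2) W) {r : K} (h : r ^ 3 = 1) {w : W}
    (hw : s r (s r w + w) = s r w + w) : s r w = w := by
  have h1 : s r (s r (s r w)) = w := by rw [← s_mul, ← s_mul, ← pow_three', h, s_one]
  have h2 := congrArg (s r) hw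
  rw [map_add, map_add, h1] at h2
  linear_combination (norm := ch2) h2

namespace LX

variable {s : K →* End (ZMod 2) W} {q : W → ZMod 2} {f : LinearMap.BilinForm (ZMod 2) W}
  {A : Set W} {E : W → Submodule (ZMod 2) W} {L : W → Subgroup K} (X : LX s q f A E L)
include X

theorem f_symm (v w : W) : f v w = f w v := by
  have h1 := X.q_add v w
  rw [add_comm, X.q_add] at h1
  grind

theorem f_self (v : W) : f v v = 0 := by
  have h1 := X.q_add v v
  have h2 := X.q_add 0 0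
  rw [ZModModule.add_self] at h1 h2
  rw [map_zero] at h2
  grind

theorem f_s (k : K) (v w : W) : f (s k v) (s k w) = f v w := by
  have h1 := X.q_add (s k v) (s k w)
  rw [← map_add, X.q_s, X.q_s, X.q_s, X.q_add] at h1
  grind

theorem f_invol {l : K} (h : l * l = 1) (v w : W) : f (s l v) w = f v (s l w) := by
  rw [← X.f_s l v, s_s s h]

theorem exists_u {a : W} (ha : a ∈ A) : ∃ u, f a u = 1 := by
  by_contra h
  exact X.ne a ha (X.nondeg a fun v => (z2 _).resolve_right fun h' => h ⟨v, h'⟩)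

variable {a u : W} (ha : a ∈ A)
include ha

theorem fE {e e' : W} (he : e ∈ E a) (he' : e' ∈ E a) : f e e' = 0 := by
  have := X.q_add e e'
  rw [X.sing a ha _ he, X.sing a ha _ he', X.sing a ha _ (add_mem he he')] at this
  grind

theorem fix_a {l : K} (hl : l ∈ L a) : s l a = a :=
  (X.onE a ha l hl a (X.self a ha)).resolve_right fun h => X.ne a ha
    (s_inj s l (by rw [h, map_zero, ZModModule.add_self]))

theorem comm {l m : K} (hl : l ∈ L a) (hm : m ∈ L a) : l * m = m * l := by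
  rw [← inv_eq_of_mul_eq_one_left (X.sq a ha _ (mul_mem hl hm)), mul_inv_rev,
    inv_eq_of_mul_eq_one_left (X.sq a ha _ hl), inv_eq_of_mul_eq_one_left (X.sq a ha _ hm)]

omit ha in
theorem conj_mem {k l : K} (hk : s k a = a) (h2 : k * k = 1) (hl : l ∈ L a) : k * l * k ∈ L a := by
  have := X.s_L k a l hl
  rwa [hk, inv_eq_of_mul_eq_one_left h2] at this

theorem f_del {l : K} (hl : l ∈ L a) {w : W} (hw : f a w = 0) : f (s l w + w) w = 0 := by
  have h1 := X.sing a ha _ (X.onP a ha l hl w hw)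
  rw [X.q_add, X.q_s] at h1
  rw [map_add, LinearMap.add_apply, X.f_self]
  grind

variable (hu : f a u = 1)
include hu

omit ha in
theorem perp {w : W} (h : ∀ r, f a r = 0 → f w r = 0) : w = 0 ∨ w = a := by
  have key : ∀ w, (∀ r, f a r = 0 → f w r = 0) → f w u = 0 → w = 0 := fun w h h0 =>
    X.nondeg w fun v => by
      have := h (v + f a v • u) (by simp [hu, CharTwo.add_self_eq_zero])
      simpa [h0] using this
  rcases z2 (f w u) with h0 | h0
  · exact Or.inl (key w h h0)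
  · have := key (w + a) (fun r hr => by simp [h r hr, hr]) (by simp [h0, hu]; rfl)
    exact Or.inr (by linear_combination (norm := ch2) this)

theorem fv {l : K} (hl : l ∈ L a) : f a (s l u + u) = 0 := by
  rw [map_add, ← X.f_invol (X.sq a ha l hl), X.fix_a ha hl, hu]; rfl

theorem s_e {l : K} (hl : l ∈ L a) {e : W} (he : e ∈ E a) : s l e = e + f e (s l u + u) • a := by
  have h1 : f e (s l u + u) = f (s l e + e) u := by
    rw [map_add, map_add, LinearMap.add_apply, X.f_invol (X.sq a ha l hl)]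
  rcases X.onE a ha l hl e he with h | h <;> rw [h1, h]
  · simp [ZModModule.add_self]
  · rw [show e + a + e = a by ch2, hu, one_smul]

theorem eq_of_v {l m : K} (hl : l ∈ L a) (hm : m ∈ L a) (h : s l u + u + (s m u + u) ∈ E a) :
    l = m := by
  have h1 := X.inj a ha _ (mul_mem hl hm) u hu (by
    convert add_mem h (X.onP a ha l hl _ (X.fv ha hu hm)) using 1
    rw [s_mul, map_add]; ch2)
  rw [← inv_eq_of_mul_eq_one_left (X.sq a ha _ hm), eq_inv_iff_mul_eq_one, h1]

theorem v_mul {l m : K} (hl : l ∈ L a) (hm : m ∈ L a) :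
    s (l * m) u + u + (s l u + u) + (s m u + u) ∈ E a := by
  convert X.onP a ha l hl _ (X.fv ha hu hm) using 1
  rw [s_mul, map_add]; ch2

omit X ha hu in
variable (s f u) in
/-- The trilinear form. -/
def tri (l m n : K) : ZMod 2 := f (s m (s l u + u) + (s l u + u)) (s n u + u)

omit hu in
theorem tri_swap₁ {l m : K} (hl : l ∈ L a) (hm : m ∈ L a) (n : K) :
    tri s f u l m n = tri s f u m l n := by
  rw [tri, tri, map_add (s m), map_add (s l), s_comm s (X.comm ha hl hm)]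
  congr 2; ch2

omit hu in
theorem tri_swap₂ {m : K} (hm : m ∈ L a) (l n : K) : tri s f u l m n = tri s f u n m l := by
  rw [tri, tri]
  generalize s l u + u = x
  generalize s n u + u = y
  simp only [map_add, LinearMap.add_apply]
  rw [X.f_invol (X.sq a ha m hm), X.f_symm x, X.f_symm x]

theorem tri_self {l m : K} (hl : l ∈ L a) (hm : m ∈ L a) : tri s f u l m l = 0 :=
  X.f_del ha hm (X.fv ha hu hl)

theorem tri_self' {l m : K} (hl : l ∈ L a) (hm : m ∈ L a) : tri s f u l m m = 0 := by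
  rw [X.tri_swap₁ ha hl hm, X.tri_self ha hu hm hl]

theorem tri_self'' {l m : K} (hl : l ∈ L a) (hm : m ∈ L a) : tri s f u l l m = 0 := by
  rw [X.tri_swap₂ ha hl, X.tri_self' ha hu hm hl]

theorem f_del_E {m n : K} (hm : m ∈ L a) (hn : n ∈ L a) {e : W} (he : e ∈ E a) :
    f (s m e + e) (s n u + u) = 0 := by
  rw [X.s_e ha hu hm he, show ∀ x, e + x + e = x from fun x => by ch2, map_smul,
    LinearMap.smul_apply, X.fv ha hu hn, smul_zero]

section Basis

variable [Module.Finite (ZMod 2) W] (hd : finrank (ZMod 2) W = 8)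
include hd

omit ha hu in
theorem finrank_orth (S : Submodule (ZMod 2) W) :
    finrank (ZMod 2) S + finrank (ZMod 2) (f.orthogonal S) = 8 := by
  rw [f.finrank_add_finrank_orthogonal' S, hd, show f.ker = ⊥ from
    eq_bot_iff.mpr fun w hw => X.nondeg w fun v => by rw [LinearMap.mem_ker.mp hw]; rfl]
  simp

theorem exists_third {l m : K} (hl : l ∈ L a) (hm : m ∈ L a) :
    ∃ n ∈ L a, n ≠ 1 ∧ n ≠ l ∧ n ≠ m ∧ n ≠ l * m := by
  classical
  by_contra h
  have h1 : f.orthogonal (Submodule.span (ZMod 2) {a}) ≤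
      E a ⊔ Submodule.span (ZMod 2) ({s l u + u, s m u + u} : Finset W) := fun w hw => by
    obtain ⟨n, hn, h2⟩ := X.surj a ha u hu w (hw a (Submodule.mem_span_singleton_self a))
    have h3 := Submodule.mem_sup_left (T := Submodule.span (ZMod 2)
      ({s l u + u, s m u + u} : Finset W)) h2
    have h4 : s l u + u ∈ E a ⊔ Submodule.span (ZMod 2) ({s l u + u, s m u + u} : Finset W) :=
      Submodule.mem_sup_right (Submodule.subset_span (by simp))
    have h5 : s m u + u ∈ E a ⊔ Submodule.span (ZMod 2) ({s l u + u, s m u + u} : Finset W) :=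
      Submodule.mem_sup_right (Submodule.subset_span (by simp))
    by_cases e1 : n = 1
    · convert h3 using 1; rw [e1, s_one]; ch2
    by_cases e2 : n = l
    · convert add_mem h3 h4 using 1; rw [e2]; ch2
    by_cases e3 : n = m
    · convert add_mem h3 h5 using 1; rw [e3]; ch2
    by_cases e4 : n = l * m
    · convert add_mem (add_mem (add_mem h3 h4) h5) (Submodule.mem_sup_left (X.v_mul ha hu hl hm))
        using 1
      rw [e4]; ch2
    exact absurd ⟨n, hn, e1, e2, e3, e4⟩ h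
  have h2 := Submodule.finrank_mono h1
  have h3 := Submodule.finrank_add_le_finrank_add_finrank (E a)
    (Submodule.span (ZMod 2) ({s l u + u, s m u + u} : Finset W))
  have h4 := (finrank_span_finset_le_card (R := ZMod 2) {s l u + u, s m u + u}).trans
    Finset.card_le_two
  have h5 := X.finrank_orth hd (Submodule.span (ZMod 2) {a})
  have h6 := X.finrank_orth hd (E a)
  have h7 := Submodule.finrank_mono
    (show E a ≤ f.orthogonal (E a) from fun e he e' he' => X.fE ha he' he)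
  rw [finrank_span_singleton (X.ne a ha)] at h5
  rw [Set.finrank] at h4
  omega

variable {l₁ l₂ l₃ : K} (h₁ : l₁ ∈ L a) (h₂ : l₂ ∈ L a) (h₃ : l₃ ∈ L a)
  (hT : tri s f u l₁ l₂ l₃ = 1)
include h₁ h₂ h₃ hT

theorem decomp (w : W) (hw : f a w = 0) : ∃ x y t : ZMod 2,
    w + x • (s l₁ u + u) + y • (s l₂ u + u) + t • (s l₃ u + u) ∈ E a := by
  have t1 : tri s f u l₂ l₃ l₁ = 1 := by rw [X.tri_swap₂ ha h₃, X.tri_swap₁ ha h₁ h₃,
    X.tri_swap₂ ha h₁, X.tri_swap₁ ha h₂ h₁, hT]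
  have t2 : tri s f u l₃ l₁ l₂ = 1 := by rw [X.tri_swap₂ ha h₁, X.tri_swap₁ ha h₂ h₁, hT]
  have t3 := X.tri_self ha hu h₁ h₂
  have t4 := X.tri_self' ha hu h₁ h₂
  have t5 := X.tri_self ha hu h₂ h₃
  have t6 := X.tri_self' ha hu h₂ h₃
  have t7 := X.tri_self ha hu h₃ h₁
  have t8 := X.tri_self' ha hu h₃ h₁
  have v1 := X.fv ha hu h₁
  have v2 := X.fv ha hu h₂
  have v3 := X.fv ha hu h₃
  have m1 := X.onP a ha _ h₃ _ v2
  have m2 := X.onP a ha _ h₁ _ v3
  have m3 := X.onP a ha _ h₂ _ v1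
  rw [tri] at t1 t2 t3 t4 t5 t6 t7 t8 hT
  generalize s l₃ (s l₂ u + u) + (s l₂ u + u) = e₁ at *
  generalize s l₁ (s l₃ u + u) + (s l₃ u + u) = e₂ at *
  generalize s l₂ (s l₁ u + u) + (s l₁ u + u) = e₃ at *
  generalize s l₁ u + u = v₁ at *
  generalize s l₂ u + u = v₂ at *
  generalize s l₃ u + u = v₃ at *
  have hli : LinearIndependent (ZMod 2) ![a, e₁, e₂, e₃] :=
    Fintype.linearIndependent_iff.mpr fun g hg => by
      have c1 := congrArg (f · v₁) hg
      have c2 := congrArg (f · v₂) hg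
      have c3 := congrArg (f · v₃) hg
      simp [Fin.sum_univ_four, v1, v2, v3, t1, t2, t3, t4, t5, t6, t7, t8, hT] at c1 c2 c3
      simp [Fin.sum_univ_four, c1, c2, c3, X.ne a ha] at hg
      intro i; fin_cases i <;> assumption
  have hS : Submodule.span (ZMod 2) (Set.range ![a, e₁, e₂, e₃]) ≤ E a :=
    Submodule.span_le.mpr (by rintro _ ⟨i, rfl⟩; fin_cases i; exacts [X.self a ha, m1, m2, m3])
  have h4 := finrank_span_eq_card hli
  have h5 := X.finrank_orth hd (Submodule.span (ZMod 2) (Set.range ![a, e₁, e₂, e₃]))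
  have h6 : Submodule.span (ZMod 2) (Set.range ![a, e₁, e₂, e₃]) = f.orthogonal
      (Submodule.span (ZMod 2) (Set.range ![a, e₁, e₂, e₃])) :=
    Submodule.eq_of_le_of_finrank_eq (fun e he e' he' => X.fE ha (hS he') (hS he))
      (by rw [Fintype.card_fin] at h4; omega)
  refine ⟨f e₁ w, f e₂ w, f e₃ w, hS (h6.ge fun e he => ?_)⟩
  refine Submodule.span_induction (p := fun e _ => f e _ = 0) ?_ (by simp)
    (fun x y _ _ hx hy => by rw [map_add f, LinearMap.add_apply, hx, hy, add_zero])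
    (fun c x _ hx => by rw [map_smul, LinearMap.smul_apply, hx, smul_zero]) he
  rintro _ ⟨i, rfl⟩
  fin_cases i <;> simp [*, CharTwo.add_self_eq_zero]

theorem eq_of_perp {e : W} (he : e ∈ E a) (e₁ : f e (s l₁ u + u) = 0) (e₂ : f e (s l₂ u + u) = 0)
    (e₃ : f e (s l₃ u + u) = 0) : e = 0 ∨ e = a :=
  X.perp hu fun r hr => by
    obtain ⟨x, y, t, h⟩ := X.decomp ha hu hd h₁ h₂ h₃ hT r hr
    simpa only [map_add _ (_ : W) (_ • _), map_smul, e₁, e₂, e₃, smul_zero, add_zero]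
      using X.fE ha he h

theorem cases {l : K} (hl : l ∈ L a) : (l = 1 ∨ l = l₁ ∨ l = l₂ ∨ l = l₁ * l₂) ∨
    (l * l₃ = 1 ∨ l * l₃ = l₁ ∨ l * l₃ = l₂ ∨ l * l₃ = l₁ * l₂) := by
  have key : ∀ l ∈ L a, ∀ x y : ZMod 2, s l u + u + x • (s l₁ u + u) + y • (s l₂ u + u) ∈ E a →
      l = 1 ∨ l = l₁ ∨ l = l₂ ∨ l = l₁ * l₂ := fun l hl x y h => by
    rcases z2 x with rfl | rfl <;> rcases z2 y with rfl | rfl
    · exact Or.inl (X.inj a ha l hl u hu (by simpa using h))
    · exact Or.inr (Or.inr (Or.inl (X.eq_of_v ha hu hl h₂ (by simpa using h))))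
    · exact Or.inr (Or.inl (X.eq_of_v ha hu hl h₁ (by simpa using h)))
    · refine Or.inr (Or.inr (Or.inr (X.eq_of_v ha hu hl (mul_mem h₁ h₂) ?_)))
      convert add_mem h (X.v_mul ha hu h₁ h₂) using 1; ch2
  obtain ⟨x, y, t, h⟩ := X.decomp ha hu hd h₁ h₂ h₃ hT _ (X.fv ha hu hl)
  rcases z2 t with rfl | rfl
  · exact Or.inl (key l hl x y (by simpa using h))
  · refine Or.inr (key _ (mul_mem hl h₃) x y ?_)
    convert add_mem h (X.v_mul ha hu hl h₃) using 1
    match_scalars <;> grind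

theorem exists_tri {l m : K} (hl : l ∈ L a) (hm : m ∈ L a) (e₁ : l ≠ 1) (e₂ : m ≠ 1) (e₃ : l ≠ m) :
    ∃ n ∈ L a, tri s f u l m n = 1 := by
  have key : ∀ l ∈ L a, ∃ x y t : ZMod 2, s l u + u + x • (s l₁ u + u) + y • (s l₂ u + u) +
      t • (s l₃ u + u) ∈ E a ∧ ∀ m ∈ L a, ∀ n ∈ L a, tri s f u l m n =
        x * tri s f u l₁ m n + y * tri s f u l₂ m n + t * tri s f u l₃ m n := fun l hl => by
    obtain ⟨x, y, t, h⟩ := X.decomp ha hu hd h₁ h₂ h₃ hT _ (X.fv ha hu hl)
    refine ⟨x, y, t, h, fun m hm n hn => ?_⟩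
    have := X.f_del_E ha hu hm hn h
    simp only [tri]
    generalize s n u + u = v at *
    generalize s l u + u = v₀ at *
    generalize s l₁ u + u = v₁ at *
    generalize s l₂ u + u = v₂ at *
    generalize s l₃ u + u = v₃ at *
    simp only [map_add, map_smul, LinearMap.add_apply, LinearMap.smul_apply, smul_eq_mul] at *
    grind
  obtain ⟨x, y, t, h, k⟩ := key l hl
  obtain ⟨x', y', t', h', k'⟩ := key m hm
  by_contra hc
  have hc' : ∀ n ∈ L a, tri s f u l m n = 0 := fun n hn =>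
    (z2 _).resolve_right fun h => hc ⟨n, hn, h⟩
  have c1 := hc' _ h₁
  have c2 := hc' _ h₂
  have c3 := hc' _ h₃
  have t1 : tri s f u l₂ l₁ l₃ = 1 := by rw [X.tri_swap₁ ha h₂ h₁, hT]
  have t2 : tri s f u l₃ l₁ l₂ = 1 := by rw [X.tri_swap₂ ha h₁, t1]
  have t3 : tri s f u l₃ l₂ l₁ = 1 := by rw [X.tri_swap₂ ha h₂, hT]
  have t4 : tri s f u l₁ l₃ l₂ = 1 := by rw [X.tri_swap₁ ha h₁ h₃, t2]
  have t5 : tri s f u l₂ l₃ l₁ = 1 := by rw [X.tri_swap₁ ha h₂ h₃, t3]
  rw [k m hm _ ‹_›, X.tri_swap₁ ha h₁ hm, X.tri_swap₁ ha h₂ hm, X.tri_swap₁ ha h₃ hm,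
    k' _ h₁ _ ‹_›, k' _ h₂ _ ‹_›, k' _ h₃ _ ‹_›] at c1 c2 c3
  simp only [X.tri_self ha hu, X.tri_self' ha hu, X.tri_self'' ha hu, *] at c1 c2 c3
  rcases (by decide : ∀ x y t x' y' t' : ZMod 2, y * t' + t * y' = 0 → x * t' + t * x' = 0 →
    x * y' + y * x' = 0 → (x = 0 ∧ y = 0 ∧ t = 0) ∨ (x' = 0 ∧ y' = 0 ∧ t' = 0) ∨
      (x = x' ∧ y = y' ∧ t = t')) x y t x' y' t' (by grind) (by grind) (by grind) with
    ⟨rfl, rfl, rfl⟩ | ⟨rfl, rfl, rfl⟩ | ⟨rfl, rfl, rfl⟩
  · exact e₁ (X.inj a ha l hl u hu (by simpa using h))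
  · exact e₂ (X.inj a ha m hm u hu (by simpa using h'))
  · refine e₃ (X.eq_of_v ha hu hl hm ?_)
    convert add_mem h h' using 1
    match_scalars <;> grind

theorem mem_or {l : K} (hl : l ∈ L a) (h1 : l ≠ 1) {w : W} (hw : s l w = w ∨ s l w = w + a) :
    w ∈ E a ∨ s l u + u + w ∈ E a := by
  have h0 : f a w = 0 := (z2 _).resolve_right fun h => h1 (X.inj a ha l hl w h (by
    rcases hw with hw | hw <;> rw [hw]
    · rw [ZModModule.add_self]; exact zero_mem _
    · convert X.self a ha using 1; ch2))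
  obtain ⟨m, hm, h2⟩ := X.surj a ha u hu w h0
  by_cases e1 : m = 1
  · left; convert h2 using 1; rw [e1, s_one]; ch2
  by_cases e2 : m = l
  · exact Or.inr (e2 ▸ h2)
  obtain ⟨n, hn, h3⟩ := X.exists_tri ha hu hd h₁ h₂ h₃ hT hm hl e1 h1 e2
  have h4 := X.f_del_E ha hu hl hn h2
  have h5 := X.fv ha hu hn
  rw [tri] at h3
  generalize s n u + u = v at *
  generalize s m u + u = v₀ at *
  rcases hw with hw | hw <;> simp only [map_add, LinearMap.add_apply, hw] at h3 h4 <;> grind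

end Basis

end LX

end Cfsg.Agent.H3
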