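import Cfsg.Agent.H3.LX1

/-!
# Large extraspecial subgroups of width four: a normal subgroup of order three in the quotient
-/

set_option autoImplicit false

namespace Cfsg.Agent.H3

open Module

variable {K W : Type*} [Group K] [AddCommGroup W] [Module (ZMod 2) W]

/-- Relations between involutions of the alternating group of degree six. -/
structure Rel6 (r Z j k j' k' : K) : Prop where
  cj : j * r = r * j
  ck : k' * r = r * k'
  j2 : j * j = 1
  k2 : k' * k' = 1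
  jZ : j * Z = Z * j
  kj : k * j * k = Z * j
  kZ : k' * Z * k' = j
  braid : k' * (k * k') = k * (k' * k)
  nk : ¬ (k = 1 ∨ k = Z ∨ k = j ∨ k = Z * j)
  int : ∀ n ∈ [Z, j, Z * j], ¬ (j' * n * j' = 1 ∨ j' * n * j' = Z ∨ j' * n * j' = j ∨
    j' * n * j' = Z * j)

theorem Rel6.of_map {K' : Type*} [Group K'] {ι : K →* K'} (hι : Function.Injective ι)
    {r Z j k j' k' : K} (h : Rel6 (ι r) (ι Z) (ι j) (ι k) (ι j') (ι k')) :
    Rel6 r Z j k j' k' := by
  obtain ⟨h1, h2, h3, h4, h5, h6, h7, h8, h9, h10⟩ := h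
  simp only [List.forall_mem_cons, List.not_mem_nil, IsEmpty.forall_iff, implies_true,
    ← map_one ι, ← map_mul, hι.eq_iff] at *
  exact ⟨h1, h2, h3, h4, h5, h6, h7, h8, h9, by simpa using h10⟩

namespace LX

variable {s : K →* End (ZMod 2) W} {q : W → ZMod 2} {f : LinearMap.BilinForm (ZMod 2) W}
  {A : Set W} {E : W → Submodule (ZMod 2) W} {L : W → Subgroup K} (X : LX s q f A E L)
  {a u : W} (ha : a ∈ A) (hu : f a u = 1)
include X ha hu

theorem f_of_fix {l : K} (hl : l ∈ L a) {e : W} (he : e ∈ E a) :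
    s l e = e ↔ f e (s l u + u) = 0 := by
  rw [X.s_e ha hu hl he]
  simp [X.ne a ha]

theorem nu_eq {l : K} (hl : l ∈ L a) {w : W} (h : s l u + u + w ∈ E a) (hw : s l w = w)
    (hq : q w = 0) : q (s l u + u) = 0 := by
  have h1 := (X.f_of_fix ha hu hl h).mp (by
    simp only [map_add, s_s s (X.sq a ha l hl), hw]; ch2)
  have h2 := X.q_add (s l u + u + w) (s l u + u)
  rwa [h1, X.sing a ha _ h, show s l u + u + w + (s l u + u) = w by ch2, hq, zero_add, add_zero,
    eq_comm] at h2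

theorem nu_conj {l k : K} (hl : l ∈ L a) (hk : s k a = a) (h2 : k * k = 1) :
    q (s (k * l * k) u + u) = q (s l u + u) := by
  have h0 : f a (s k u + u) = 0 := by rw [map_add, ← X.f_invol h2, hk, hu]; rfl
  have h1 := X.f_del ha hl h0
  have h3 := X.q_add (s l (s k u)) (s k u)
  have h4 := X.q_add (s l u) u
  have h5 := X.f_invol (X.sq a ha l hl) u (s k u)
  have h6 := X.f_symm u (s l (s k u))
  have h7 := X.f_symm u (s k u)
  rw [← X.q_s k, map_add, s_mul, s_mul, s_s s h2]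
  simp only [map_add, LinearMap.add_apply, X.f_self, X.q_s] at *
  grind

omit hu in
theorem tri_eq_zero (h : ∀ l ∈ L a, q (s l u + u) = 0) {l m n : K} (hl : l ∈ L a) (hm : m ∈ L a)
    (hn : n ∈ L a) : tri s f u l m n = 0 := by
  have key : ∀ l ∈ L a, ∀ m ∈ L a, f (s m u + u) (s l u + u) = 0 := fun l hl m hm => by
    have h1 := X.q_add (s l (s m u + u)) (s l u + u)
    rw [X.q_s, h l hl, h m hm, X.f_invol (X.sq a ha l hl), map_add (s l), map_add (s l),
      s_s s (X.sq a ha l hl), ← s_mul, add_comm u,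
      show s (l * m) u + s l u + (s l u + u) = s (l * m) u + u by ch2, h _ (mul_mem hl hm)] at h1
    simpa using h1.symm
  have h1 := key n hn _ (mul_mem hm hl)
  have h2 := key n hn _ hm
  have h3 := key n hn _ hl
  rw [tri]
  generalize s n u + u = v at *
  simp only [map_add, LinearMap.add_apply, s_mul] at *
  grind

variable {r : K} (hr : r ^ 3 = 1) (hr1 : r ≠ 1) (hn : ∀ k, k * r = r * k ∨ k * r = r⁻¹ * k)
include hr hr1 hn

theorem r_ne : s r a ≠ a := fun h => by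
  have hc : ∀ l ∈ L a, l * r = r * l := fun l hl => (hn l).resolve_right fun e => hr1 (by
    have h1 := X.s_L r a l hl
    rw [h] at h1
    have h2 := X.sq a ha _ (mul_mem h1 hl)
    have h3 : r * l * r⁻¹ * l = r * r := by
      calc _ = r * l * (l * r) := by rw [e]; group
        _ = r * (l * l) * r := by group
        _ = _ := by rw [X.sq a ha l hl, mul_one]
    rwa [h3, ← mul_assoc, ← pow_three', hr, one_mul] at h2)
  have h0 : ∀ w, f a (s r w + w) = 0 := fun w => by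
    rw [map_add]; nth_rewrite 1 [← h]; rw [X.f_s, CharTwo.add_self_eq_zero]
  have h1 : ∀ w, f a w = 0 → s r w + w ∈ E a := fun w hw => by
    obtain ⟨l, hl, h2⟩ := X.surj a ha u hu w hw
    have h3 := X.s_E r a _ h2
    rw [h] at h3
    convert add_mem (add_mem h2 h3) (X.onP a ha l hl _ (h0 u)) using 1
    simp only [map_add, s_comm s (hc l hl)]; ch2
  have h2 : ∀ e ∈ E a, s r e = e := fun e he => s_fix_of_cube s hr (by
    rcases X.perp hu (w := s r e + e) (fun w hw => by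
      have h3 := X.fE ha (h ▸ X.s_E r a e he) (h1 w hw)
      rw [map_add, X.f_s] at h3
      rw [map_add, LinearMap.add_apply, add_comm, h3]) with h3 | h3 <;> rw [h3]
    · exact map_zero _
    · exact h)
  exact hr1 (X.faithful r fun w => s_fix_of_cube s hr
    (s_fix_of_cube s hr (h2 _ (h1 _ (h0 w)))))

variable [Module.Finite (ZMod 2) W] (hd : finrank (ZMod 2) W = 8)
include hd

omit hr hr1 in
theorem exists_L0 {l : K} (hl : l ∈ L a) : ∃ m ∈ L a, m * r = r * m ∧ m ≠ 1 ∧ m ≠ l := by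
  by_cases hs : ∃ t ∈ L a, t * r ≠ r * t
  · obtain ⟨t, ht, h⟩ := hs
    obtain ⟨n, h1, h2, h3, h4, h5⟩ := X.exists_third ha hu hd hl ht
    by_cases h6 : n * r = r * n
    · exact ⟨n, h1, h6, h2, h3⟩
    have t2 := inv_eq_of_mul_eq_one_left (X.sq a ha t ht)
    refine ⟨n * t, mul_mem h1 ht, ?_, fun e => h4 (t2 ▸ eq_inv_of_mul_eq_one_left e),
      fun e => h5 (t2 ▸ eq_mul_inv_of_mul_eq e)⟩
    have := (hn n).resolve_left h6
    rw [mul_assoc, (hn t).resolve_left h, ← mul_assoc, ← mul_assoc,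
      show n * r⁻¹ = r * n by rw [mul_inv_eq_iff_eq_mul, mul_assoc, this, mul_inv_cancel_left]]
  · obtain ⟨n, h1, h2, h3, -⟩ := X.exists_third ha hu hd hl (one_mem _)
    exact ⟨n, h1, by_contra fun h => hs ⟨n, h1, h⟩, h2, h3⟩

theorem exists_T : ∃ l ∈ L a, ∃ m ∈ L a, ∃ n ∈ L a, tri s f u l m n = 1 := by
  by_cases h0 : ∀ l ∈ L a, ∀ w, f a w = 0 → s l w + w = 0 ∨ s l w + w = a
  · exfalso
    have key : ∀ l ∈ L a, l * r = r * l → l ≠ 1 → ∃ w, f a w = 1 ∧ s l w + w = s r a :=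
      fun l hl hc h1 => by
        obtain ⟨w, hw, h2⟩ : ∃ w, f a w = 0 ∧ s l w + w = a := by
          by_contra h2
          refine h1 (X.inj a ha l hl u hu ?_)
          rcases X.perp hu (w := s l u + u) (fun w hw => by
            rw [map_add, LinearMap.add_apply, X.f_invol (X.sq a ha l hl), ← map_add,
              (h0 l hl w hw).resolve_right fun h => h2 ⟨w, hw, h⟩, map_zero]) with h | h <;> rw [h]
          exacts [zero_mem _, X.self a ha]
        have h3 : s l (s r w) + s r w = s r a := by rw [s_comm s hc, ← map_add, h2]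
        refine ⟨_, (z2 _).resolve_left fun h4 => ?_, h3⟩
        rcases h0 l hl _ h4 with h5 | h5 <;> rw [h3] at h5
        exacts [X.ne _ (X.s_A r a ha) h5, X.r_ne ha hu hr hr1 hn h5]
    obtain ⟨l, hl, c1, e1, -⟩ := X.exists_L0 ha hu hn hd (one_mem _)
    obtain ⟨m, hm, c2, e2, e3⟩ := X.exists_L0 ha hu hn hd hl
    obtain ⟨v, hv, h1⟩ := key l hl c1 e1
    obtain ⟨w, hw, h2⟩ := key m hm c2 e2
    refine e3 (X.eq_of_v ha hv hm hl ?_)
    convert X.onP a ha m hm (v + w) (by rw [map_add, hv, hw]; rfl) using 1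
    rw [map_add]
    linear_combination (norm := ch2) h1 + h2
  · simp only [not_forall] at h0
    obtain ⟨m, hm, w, hw, h⟩ := h0
    obtain ⟨w', hw', h1⟩ : ∃ w', f a w' = 0 ∧ f (s m w + w) w' = 1 := by
      by_contra h1
      exact h (X.perp hu fun w' hw' => (z2 _).resolve_right fun h2 => h1 ⟨w', hw', h2⟩)
    obtain ⟨l, hl, h2⟩ := X.surj a ha u hu w hw
    obtain ⟨n, hn, h3⟩ := X.surj a ha u hu w' hw'
    refine ⟨l, hl, m, hm, n, hn, ?_⟩
    have h4 := X.f_del_E ha hu hm hn h2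
    have h5 := X.fE ha (X.onP a ha m hm w hw) h3
    rw [tri]
    generalize s n u + u = v at *
    generalize s l u + u = v' at *
    simp only [map_add, LinearMap.add_apply] at *
    grind

section D

variable {l₁ l₂ l₃ : K} (h₁ : l₁ ∈ L a) (h₂ : l₂ ∈ L a) (h₃ : l₃ ∈ L a)
  (hT : tri s f u l₁ l₂ l₃ = 1) (c₁ : l₁ * r = r * l₁) (c₂ : l₂ * r = r * l₂)
include h₁ h₂ h₃ hT

omit hr hr1 hn [Module.Finite (ZMod 2) W] hd in
theorem ne_of_tri : l₁ ≠ 1 ∧ l₂ ≠ 1 ∧ l₁ ≠ l₂ := by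
  refine ⟨?_, ?_, ?_⟩ <;> rintro rfl
  · simp [tri, ZModModule.add_self] at hT
  · simp [tri, ZModModule.add_self] at hT
  · simp [X.tri_self'' ha hu h₁ h₃] at hT

omit hr hr1 hn in
theorem memE {w : W} (e₁ : s l₁ w = w ∨ s l₁ w = w + a) (e₂ : s l₂ w = w ∨ s l₂ w = w + a) :
    w ∈ E a := by
  obtain ⟨n1, n2, n3⟩ := X.ne_of_tri ha hu h₁ h₂ h₃ hT
  rcases X.mem_or ha hu hd h₁ h₂ h₃ hT h₁ n1 e₁ with h | h
  · exact h
  refine (X.mem_or ha hu hd h₁ h₂ h₃ hT h₂ n2 e₂).resolve_right fun h' =>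
    n3 (X.eq_of_v ha hu h₁ h₂ ?_)
  convert add_mem h h' using 1; ch2

include c₁ c₂

theorem f_ra : s r a ∈ E a ∧ f (s r a) (s l₃ u + u) = 1 := by
  have e1 : s l₁ (s r a) = s r a := by rw [s_comm s c₁, X.fix_a ha h₁]
  have e2 : s l₂ (s r a) = s r a := by rw [s_comm s c₂, X.fix_a ha h₂]
  have h := X.memE ha hu hd h₁ h₂ h₃ hT (Or.inl e1) (Or.inl e2)
  exact ⟨h, (z2 _).resolve_left fun h' => (X.eq_of_perp ha hu hd h₁ h₂ h₃ hT h
    ((X.f_of_fix ha hu h₁ h).mp e1) ((X.f_of_fix ha hu h₂ h).mp e2) h').elim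
      (X.ne _ (X.s_A r a ha)) (X.r_ne ha hu hr hr1 hn)⟩

theorem enumD {w : W} (e₁ : s l₁ w = w) (e₂ : s l₂ w = w) :
    w = 0 ∨ w = a ∨ w = s r a ∨ w = s r (s r a) := by
  obtain ⟨m, hm⟩ := X.f_ra ha hu hr hr1 hn hd h₁ h₂ h₃ hT c₁ c₂
  have e1 : s l₁ (s r a) = s r a := by rw [s_comm s c₁, X.fix_a ha h₁]
  have e2 : s l₂ (s r a) = s r a := by rw [s_comm s c₂, X.fix_a ha h₂]
  have key : ∀ w, s l₁ w = w → s l₂ w = w → w = 0 ∨ w = a ∨ w = s r a ∨ w = s r a + a :=
    fun w e₁ e₂ => by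
      have h := X.memE ha hu hd h₁ h₂ h₃ hT (Or.inl e₁) (Or.inl e₂)
      rcases z2 (f w (s l₃ u + u)) with h0 | h0
      · rcases X.eq_of_perp ha hu hd h₁ h₂ h₃ hT h ((X.f_of_fix ha hu h₁ h).mp e₁)
          ((X.f_of_fix ha hu h₂ h).mp e₂) h0 with h | h
        exacts [Or.inl h, Or.inr (Or.inl h)]
      · have h' := add_mem h m
        rcases X.eq_of_perp ha hu hd h₁ h₂ h₃ hT h'
          ((X.f_of_fix ha hu h₁ h').mp (by rw [map_add, e₁, e1]))
          ((X.f_of_fix ha hu h₂ h').mp (by rw [map_add, e₂, e2]))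
          (by rw [map_add f, LinearMap.add_apply, h0, hm]; rfl) with h | h
        · exact Or.inr (Or.inr (Or.inl (by linear_combination (norm := ch2) h)))
        · exact Or.inr (Or.inr (Or.inr (by linear_combination (norm := ch2) h)))
  have hne := X.r_ne ha hu hr hr1 hn
  rcases key (s r (s r a)) (by rw [s_comm s c₁, e1]) (by rw [s_comm s c₂, e2]) with h | h | h | h
  · exact absurd h (X.ne _ (X.s_A r _ (X.s_A r a ha)))
  · refine absurd ?_ hne
    rw [← h, ← s_mul, ← s_mul, ← pow_three', hr, s_one, h]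
  · exact absurd (s_inj s r h) hne
  · exact h ▸ key w e₁ e₂

theorem enumL {l : K} (hl : l ∈ L a) (c : l * r = r * l) :
    l = 1 ∨ l = l₁ ∨ l = l₂ ∨ l = l₁ * l₂ := by
  refine (X.cases ha hu hd h₁ h₂ h₃ hT hl).resolve_right fun h => ?_
  obtain ⟨m, hm⟩ := X.f_ra ha hu hr hr1 hn hd h₁ h₂ h₃ hT c₁ c₂
  have : Commute (l * l₃) r := by
    rcases h with h | h | h | h <;> rw [h]
    exacts [Commute.one_left r, c₁, c₂, Commute.mul_left c₁ c₂]
  have h4 : Commute l₃ r := by simpa using (Commute.inv_left c).mul_left this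
  rw [(X.f_of_fix ha hu h₃ m).mp (by rw [s_comm s h4, X.fix_a ha h₃])] at hm
  exact zero_ne_one hm

theorem fix_of_D {m : K} (c : m * r = r * m) {d : W} (e₁ : s l₁ d = d) (e₂ : s l₂ d = d)
    (h0 : d ≠ 0) (h : s m d = d) : s m a = a := by
  rcases X.enumD ha hu hr hr1 hn hd h₁ h₂ h₃ hT c₁ c₂ e₁ e₂ with rfl | rfl | rfl | rfl
  · exact absurd rfl h0
  · exact h
  · exact s_inj s r (by rwa [← s_comm s c])
  · exact s_inj s r (s_inj s r (by rwa [← s_comm s c, ← s_comm s c]))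

theorem fix_of_invol {m : K} (c : m * r = r * m) (h2 : m * m = 1) (e₁ : s l₁ (s m a) = s m a)
    (e₂ : s l₂ (s m a) = s m a) : s m a = a := by
  have hne := X.r_ne ha hu hr hr1 hn
  have h3 : ∀ w, s r (s r (s r w)) = w := fun w => by
    rw [← s_mul, ← s_mul, ← pow_three', hr, s_one]
  rcases X.enumD ha hu hr hr1 hn hd h₁ h₂ h₃ hT c₁ c₂ e₁ e₂ with h | h | h | h
  · exact absurd h (X.ne _ (X.s_A m a ha))
  · exact h
  · have := congrArg (s m) h
    rw [s_s s h2, s_comm s c, h] at this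
    exact absurd ((congrArg (s r) this).trans (h3 a)) hne
  · have := congrArg (s m) h
    rw [s_s s h2, s_comm s c, s_comm s c, h, h3] at this
    exact absurd this.symm hne

theorem dich {m : K} (c : m * r = r * m) (hm : s m a = a) :
    (∀ w, s l₁ w = w → s m w = w → s l₂ w = w) ∨ ∀ w, s l₁ w = w → s m w = w := by
  refine or_iff_not_imp_left.mpr fun h w hw => ?_
  simp only [not_forall] at h
  obtain ⟨v, v1, v2, v3⟩ := h
  have hD := fun w => X.enumD ha hu hr hr1 hn hd h₁ h₂ h₃ hT c₁ c₂ (w := w)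
  have hδ := fun w (hw : s l₁ w = w) => hD (s l₂ w + w)
    (by rw [map_add, s_comm s (X.comm ha h₁ h₂), hw])
    (by rw [map_add, s_s s (X.sq a ha _ h₂), add_comm])
  have h3 : ∀ w, s r (s r (s r w)) = w := fun w => by
    rw [← s_mul, ← s_mul, ← pow_three', hr, s_one]
  have hm' : ∀ w, s l₁ w = w → s l₂ w = w → s m w = w := fun w e₁ e₂ => by
    rcases hD w e₁ e₂ with rfl | rfl | rfl | rfl <;> simp only [map_zero, s_comm s c, hm]
  have hr' : ∀ v d, (s l₁ v = v ∧ s m v = v ∧ s l₂ v + v = d) →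
      s l₁ (s r v) = s r v ∧ s m (s r v) = s r v ∧ s l₂ (s r v) + s r v = s r d :=
    fun v d ⟨e₁, e₂, e₃⟩ => by
      rw [s_comm s c₁, s_comm s c₂, s_comm s c, e₁, e₂, ← map_add, e₃]; exact ⟨rfl, rfl, rfl⟩
  obtain ⟨v, hv⟩ : ∃ v, s l₁ v = v ∧ s m v = v ∧ s l₂ v + v = a := by
    rcases hδ v v1 with h | h | h | h
    · exact absurd (by linear_combination (norm := ch2) h) v3
    · exact ⟨v, v1, v2, h⟩
    · exact ⟨_, h3 a ▸ hr' _ _ (hr' _ _ ⟨v1, v2, h⟩)⟩
    · exact ⟨_, h3 a ▸ hr' _ _ ⟨v1, v2, h⟩⟩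
  have key : ∀ v, (s l₁ v = v ∧ s m v = v ∧ s l₂ v + v = s l₂ w + w) → s m w = w :=
    fun v ⟨e₁, e₂, e₃⟩ => by
      have := hm' (v + w) (by rw [map_add, e₁, hw])
        (by rw [map_add]; linear_combination (norm := ch2) e₃)
      rwa [map_add, e₂, add_right_inj] at this
  rcases hδ w hw with h | h | h | h
  · exact hm' w hw (by linear_combination (norm := ch2) h)
  · exact key _ (h ▸ hv)
  · exact key _ (h ▸ hr' _ _ hv)
  · exact key _ (h ▸ hr' _ _ (hr' _ _ hv))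

end D

theorem false_of_rel {Z j k j' k' : K} (hZ : Z ∈ L a) (hj : j ∈ L a) (cZ : Z * r = r * Z)
    (R : Rel6 r Z j k j' k') (R' : Rel6 r Z k j k' j') {l₃ : K} (h₃ : l₃ ∈ L a)
    (hT : tri s f u Z j l₃ = 1) (hk : s k a = a) : False := by
  obtain ⟨n1, n2, n3⟩ := X.ne_of_tri ha hu hZ hj h₃ hT
  have hL := fun l => X.enumL ha hu hr hr1 hn hd hZ hj h₃ hT cZ R.cj (l := l)
  have hI := fun m => X.fix_of_invol ha hu hr hr1 hn hd hZ hj h₃ hT cZ R.cj (m := m)
  have fZ := X.fix_a ha hZ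
  have fj := X.fix_a ha hj
  have Z2 := X.sq a ha Z hZ
  have sw : ∀ {x y t : K}, x * x = 1 → x * y * x = t → ∀ w, s y (s x w) = s x (s t w) :=
    fun h e w => by rw [← e, s_mul, s_mul, s_s s h]
  have sw' : ∀ {x y t : K}, x * x = 1 → x * y * x = t → ∀ w, s t (s x w) = s x (s y w) :=
    fun h e w => by rw [← e, s_mul, s_mul, s_s s h]
  have hk' : s k' a = a := hI k' R.ck R.k2 (by rw [sw R.k2 R.kZ, fj]) (by rw [sw' R.k2 R.kZ, fZ])
  have hj' : s j' a ≠ a := fun h => R.nk (hL k (R'.kZ ▸ X.conj_mem h R'.k2 hZ) R'.cj)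
  have bZ : s Z (s j' a) = s j' a := by rw [sw R'.k2 R'.kZ, hk]
  have hΛ : ∀ w, s Z w = w → s k w = w :=
    (X.dich ha hu hr hr1 hn hd hZ hj h₃ hT cZ R.cj R'.cj hk).resolve_left fun h =>
      hj' (hI j' R'.ck R'.k2 bZ (h _ bZ (by rw [sw' R'.k2 R'.kZ, fZ])))
  have hb := X.s_A j' a ha
  have jb : s j (s j' a) = s j' a + a := by
    by_contra h
    refine hj' (X.fix_of_D ha hu hr hr1 hn hd hZ hj h₃ hT cZ R.cj R'.ck
      (d := a + s j' a + s j (s j' a)) ?_ ?_ (fun h' => h (by linear_combination (norm := ch2) h')) ?_)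
    · simp only [map_add, ← s_comm s R.jZ, fZ, bZ]
    · simp only [map_add, s_s s R.j2, fj]; ch2
    · have := congrArg (s · a) R'.braid
      simp only [s_mul, fj] at this
      simp only [map_add, s_s s R'.k2, this]; ch2
  have bE := X.memE ha hu hd hZ hj h₃ hT (Or.inl bZ) (Or.inr jb)
  obtain ⟨ra, -⟩ := X.f_ra ha hu hr hr1 hn hd hZ hj h₃ hT cZ R.cj
  have rb : s r (s j' a) ∈ E (s j' a) := s_comm s R'.ck a ▸ X.s_E j' a _ ra
  have rbZ : s Z (s r (s j' a)) = s r (s j' a) := by rw [s_comm s cZ, bZ]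
  have rbE : s r (s j' a) ∉ E a := fun h => by
    have := X.onE a ha j hj _ h
    rw [s_comm s R.cj, jb, map_add, add_right_inj, add_eq_left] at this
    exact this.elim (X.ne _ (X.s_A r a ha)) (X.r_ne ha hu hr hr1 hn)
  have vZ := (X.mem_or ha hu hd hZ hj h₃ hT hZ n1 (Or.inl rbZ)).resolve_left rbE
  have hfix : ∀ e ∈ E a, e ∈ E (s j' a) → s Z e = e := fun e he he' => by
    have h1 := X.fE ha he vZ
    rw [map_add, X.fE hb he' rb, add_zero] at h1
    exact (X.f_of_fix ha hu hZ he).mpr h1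
  obtain ⟨x, hx, x1, x2⟩ : ∃ x ∈ E (s j' a), x ∉ E a ∧ x + s r (s j' a) ∉ E a := by
    by_contra h
    have h1 : ∀ x ∈ E (s j' a), s Z x = x := fun x hx => by
      by_cases h1 : x ∈ E a
      · exact hfix x h1 hx
      have := hfix _ (by_contra fun h2 => h ⟨x, hx, h1, h2⟩) (add_mem hx rb)
      rwa [map_add, rbZ, add_left_inj] at this
    have h2 := X.onP a ha l₃ h₃ _ (X.fv ha hu hj)
    have h3 := hΛ _ (h1 _ (X.s_E j' a _ h2))
    rw [sw' R'.k2 R'.kZ] at h3
    have h4 := (X.f_of_fix ha hu hZ h2).mp (s_inj s j' h3)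
    rw [X.tri_swap₁ ha hZ hj, X.tri_swap₂ ha hZ, X.tri_swap₁ ha h₃ hZ, X.tri_swap₂ ha h₃, tri,
      h4] at hT
    exact zero_ne_one hT
  obtain ⟨t, ht, t1, t2⟩ := X.good a ha u hu _ hb bE hj' x hx
  obtain ⟨t', ht', t1', t2'⟩ := X.good a ha u hu _ hb bE hj' _ (add_mem hx rb)
  obtain rfl : t' = t * Z := X.eq_of_v ha hu ht' (mul_mem ht hZ) (by
    convert add_mem (add_mem t1 t1') (add_mem vZ (X.v_mul ha hu ht hZ)) using 1; ch2)
  have q1 := X.nu_eq ha hu ht t1 t2 (X.sing _ hb _ hx)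
  have q2 := X.nu_eq ha hu ht' t1' t2' (X.sing _ hb _ (add_mem hx rb))
  have q3 := X.nu_eq ha hu hZ vZ rbZ (X.sing _ hb _ rb)
  have tb : s t (s j' a) = s j' a := (X.f_of_fix ha hu ht bE).mpr (by
    have h1 := X.fE ha bE t1
    rwa [map_add, X.fE hb (X.self _ hb) hx, add_zero] at h1)
  have tn : ¬ (t = 1 ∨ t = Z ∨ t = j ∨ t = Z * j) := by
    rintro (rfl | rfl | rfl | rfl)
    · exact x1 (by convert t1 using 1; rw [s_one]; ch2)
    · exact x2 (by convert add_mem t1 vZ using 1; ch2)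
    · exact X.ne a ha (by simpa [jb] using tb)
    · exact X.ne a ha (by simpa [s_mul, jb, fZ, bZ] using tb)
  have t2 := X.sq a ha t ht
  have inv : ∀ x, x * r ≠ r * x → x * r⁻¹ = r * x := fun x h => by
    rw [mul_inv_eq_iff_eq_mul, mul_assoc, (hn x).resolve_left h, mul_inv_cancel_left]
  have nc : t * r ≠ r * t := fun c => tn (hL t ht c)
  have key : ∀ l ∈ L a, l * r ≠ r * l →
      l = t * 1 ∨ l = t * Z ∨ l = t * j ∨ l = t * (Z * j) := fun l hl h => by
    simpa only [← inv_mul_eq_iff_eq_mul, inv_eq_of_mul_eq_one_left t2] using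
      hL _ (mul_mem ht hl) (by
        rw [mul_assoc, (hn l).resolve_left h, ← mul_assoc, inv t nc, mul_assoc])
  have tk : k * t * k = t := by
    have c : Commute (t * (k * t * k)) r := by
      have c := (show Commute k r from R'.cj).inv_right.eq
      change _ = _
      calc _ = t * (k * t * (k * r)) := by group
        _ = t * (k * r⁻¹) * t * k := by
          rw [R'.cj, ← mul_assoc (k * t), mul_assoc k t r, (hn t).resolve_left nc]; group
        _ = _ := by rw [c, ← mul_assoc, inv t nc]; group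
    have h1 : k ∈ L (s j' a) := by
      have := X.s_L j' a Z hZ
      rwa [inv_eq_of_mul_eq_one_left R'.k2, R'.kZ] at this
    have h2 := X.s_L j' _ _ (mul_mem (X.conj_mem tb t2 h1) h1)
    rw [s_s s R'.k2, inv_eq_of_mul_eq_one_left R'.k2,
      show t * k * t * k = t * (k * t * k) by group] at h2
    have h3 := hL _ h2 (((show Commute j' r from R'.ck).mul_left c).mul_left R'.ck)
    rcases hL _ (mul_mem ht (X.conj_mem hk R'.j2 ht)) c with h | h
    · rw [← inv_eq_of_mul_eq_one_right h, inv_eq_of_mul_eq_one_left t2]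
    · exact absurd h3 (R.int _ (by simpa using h))
  have cc : ∀ {k x y : K}, k * k = 1 → k * (x * y) * k = k * x * k * (k * y * k) :=
    fun {k x y} h => by
      rw [show k * x * k * (k * y * k) = k * x * (k * k) * y * k by group, h]; group
  have q4 : q (s j u + u) = 0 := by rw [← R.kZ, X.nu_conj ha hu hZ hk' R.k2, q3]
  have q5 : q (s (Z * j) u + u) = 0 := by rw [← R.kj, X.nu_conj ha hu hj hk R'.j2, q4]
  have q6 : q (s (t * (Z * j)) u + u) = q (s (t * j) u + u) := by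
    rw [← X.nu_conj ha hu (mul_mem ht hj) hk R'.j2, ← R.kj,
      cc R'.j2, tk]
  have q7 : q (s (t * j) u + u) = 0 := by
    have h1 := X.nu_conj ha hu ht hk' R.k2
    have h2 := X.nu_conj ha hu ht' hk' R.k2
    rw [cc R.k2, R.kZ] at h2
    rcases key _ (X.conj_mem hk' R.k2 ht) (fun c => nc (by
      have := ((show Commute k' r from R.ck).mul_left c).mul_left R.ck
      rwa [← mul_assoc, ← mul_assoc, R.k2, one_mul, mul_assoc, R.k2, mul_one] at this)) with
      h | h | h | h <;> rw [h] at h1 h2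
    · rw [← q2, ← h2, mul_one]
    · rw [← q6, ← q2, ← h2, mul_assoc]
    · rw [← q1, h1]
    · rw [← q6, ← q1, h1]
  rw [X.tri_eq_zero ha (fun l hl => ?_) hZ hj h₃] at hT
  · exact zero_ne_one hT
  by_cases c : l * r = r * l
  · rcases hL l hl c with rfl | rfl | rfl | rfl
    · have := X.sing a ha 0 (zero_mem _)
      rwa [s_one, ZModModule.add_self]
    exacts [q3, q4, q5]
  · rcases key l hl c with rfl | rfl | rfl | rfl
    exacts [by rwa [mul_one], q2, q7, q6.trans q7]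

theorem false_of_pair {Z t j k j' k' : K} (hZ : Z ∈ L a) (ht : t ∈ L a) (cZ : Z * r = r * Z)
    (ct : t * r = r * t) (n1 : Z ≠ 1) (n2 : t ≠ 1) (n3 : Z ≠ t)
    (R : Rel6 r Z j k j' k') (R' : Rel6 r Z k j k' j') (tj : j * t * j = t ∨ j * t * j = Z * t)
    (tk : k * t * k = t ∨ k * t * k = Z * t) : False := by
  obtain ⟨l₁, h₁, l₂, h₂, l₃, h₃, hT⟩ := X.exists_T ha hu hr hr1 hn hd
  obtain ⟨n, hn', hT'⟩ := X.exists_tri ha hu hd h₁ h₂ h₃ hT hZ ht n1 n2 n3
  have hI := fun m => X.fix_of_invol ha hu hr hr1 hn hd hZ ht hn' hT' cZ ct (m := m)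
  have hD := fun m => X.dich ha hu hr hr1 hn hd hZ ht hn' hT' cZ ct (m := m)
  have fZ := X.fix_a ha hZ
  have sw' : ∀ {x y t : K}, x * x = 1 → x * y * x = t → ∀ w, s t (s x w) = s x (s y w) :=
    fun h e w => by rw [← e, s_mul, s_mul, s_s s h]
  have sw : ∀ {x y t : K}, x * x = 1 → x * y * x = t → ∀ w, s y (s x w) = s x (s t w) :=
    fun h e w => by rw [← e, s_mul, s_mul, s_s s h]
  have h1 : ∀ {j k j' k' : K}, Rel6 r Z j k j' k' → (j * t * j = t ∨ j * t * j = Z * t) →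
      s j a = a := fun {j _ _ _} R h => hI j R.cj R.j2 (by rw [← s_comm s R.jZ, fZ]) (by
    rcases h with h | h <;> rw [sw R.j2 h] <;> simp only [s_mul, fZ, X.fix_a ha ht])
  have hj := h1 R tj
  have hk := h1 R' tk
  have h2 : ∀ {j k j' k' : K}, Rel6 r Z j k j' k' → Rel6 r Z k j k' j' → s k a = a → j ∉ L a :=
    fun {j k j' k'} R R' hk hj => by
      have n4 : j ≠ 1 ∧ j ≠ Z := ⟨fun h => R'.nk (Or.inl h), fun h => R'.nk (Or.inr (Or.inl h))⟩
      obtain ⟨n, hn', hT'⟩ := X.exists_tri ha hu hd h₁ h₂ h₃ hT hZ hj n1 n4.1 n4.2.symm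
      exact X.false_of_rel ha hu hr hr1 hn hd hZ hj cZ R R' hn' hT' hk
  have h3 : ∀ {j k j' k' : K}, Rel6 r Z j k j' k' → Rel6 r Z k j k' j' → s j a = a → s k a = a →
      ∀ w, s Z w = w → s j w = w := fun {j k j' k'} R R' hj hk =>
    (hD j R.cj hj).resolve_left fun h => by
      have e : s Z (s k' a) = s k' a := by rw [sw R.k2 R.kZ, hj]
      exact h2 R R' hk (R.kZ ▸ X.conj_mem (hI k' R.ck R.k2 e
        (h _ e (by rw [sw' R.k2 R.kZ, fZ]))) R.k2 hZ)
  have h4 : s (k' * k * k') a = a := by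
    rw [s_mul, s_mul, h3 R' R hk hj _ (by rw [sw R.k2 R.kZ, hj]), s_s s R.k2]
  have c : ∀ x, k' * (k' * x) = x := fun x => by rw [← mul_assoc, R.k2, one_mul]
  have h5 := X.conj_mem h4 (by simp only [mul_assoc, c]; rw [← mul_assoc k, R'.j2, one_mul, R.k2]) hZ
  rw [show k' * k * k' * Z * (k' * k * k') = k' * (k * (k' * Z * k') * k) * k' by group, R.kZ, R.kj,
    ← R.kZ] at h5
  simp only [mul_assoc] at h5
  rw [R.k2, mul_one, ← mul_assoc, ← mul_assoc, R.kZ] at h5
  exact h2 R R' hk ((mul_mem_cancel_right hZ).mp h5)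

end LX

end Cfsg.Agent.H3
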