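import Cfsg.Agent.H3.LX1
import Cfsg.Agent.H9.Cocyc

/-!
# The linear structure attached to a large extraspecial subgroup
-/

set_option autoImplicit false

namespace Cfsg.Agent.H3

open Subgroup Module H9

universe u

variable {G : Type u} [Group G] {Q : Subgroup G} {z : G}

theorem es_perp (h : ES Q z) {b w : G} (hb : b ∈ Q) (hw : w ∈ Q)
    (hc : ∀ y ∈ Q, b * y = y * b → w * y = y * w) : w = 1 ∨ w = z ∨ w * b = 1 ∨ w * b = z := by
  by_cases h1 : ∀ y ∈ Q, w * y = y * w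
  · rcases h.center w hw fun y hy => (h1 y hy).symm with h2 | h2
    exacts [Or.inl h2, Or.inr (Or.inl h2)]
  simp only [not_forall] at h1
  obtain ⟨v, hv, h1⟩ := h1
  refine Or.inr (Or.inr (h.center _ (mul_mem hw hb) fun y hy => ?_))
  rw [h.comm_mul_iff hy hw hb, eq_comm, eq_comm (a := y * b)]
  refine ⟨fun h2 => by_contra fun h3 => ?_, hc y hy⟩
  have := hc _ (mul_mem hy hv) ((h.comm_mul_iff hb hy hv).mpr
    (iff_of_false h3 fun h4 => h1 (hc v hv h4)))
  exact h1 (((h.comm_mul_iff hw hy hv).mp this).mp h2)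

/-- The quotient by the centre as a vector space. -/
theorem exists_mod (h : ES Q z) : ∃ (W : Type u) (_ : AddCommGroup W) (_ : Module (ZMod 2) W)
    (p : G → W), (∀ x ∈ Q, ∀ y ∈ Q, p (x * y) = p x + p y) ∧
      (∀ x ∈ Q, p x = 0 ↔ x = 1 ∨ x = z) ∧ (∀ w, ∃ x ∈ Q, p x = w) ∧
        Nat.card Q = Nat.card W * 2 := by
  classical
  have hc : ∀ x : Q, x ∈ center Q ↔ x.1 = 1 ∨ x.1 = z := fun x => by
    rw [← mem_zpowers_of_mul_self h.sq, ← h.map_center]
    exact (mem_map_iff_mem Q.subtype_injective).symm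
  let _ : CommGroup (Q ⧸ center Q) := { (inferInstance : Group (Q ⧸ center Q)) with
    mul_comm := fun a b => by
      obtain ⟨a, rfl⟩ := QuotientGroup.mk_surjective a
      obtain ⟨b, rfl⟩ := QuotientGroup.mk_surjective b
      refine QuotientGroup.eq.mpr ((hc _).mpr ?_)
      rcases h.comm b b.2 a a.2 with h1 | h1 <;> simp [h1, mul_assoc] }
  refine ⟨Additive (Q ⧸ center Q), inferInstance, AddCommGroup.zmodModule fun x => ?_,
    fun x => if hx : x ∈ Q then Additive.ofMul (QuotientGroup.mk ⟨x, hx⟩) else 0,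
    fun x hx y hy => ?_, fun x hx => ?_, fun w => ?_, ?_⟩
  · obtain ⟨a, ha⟩ := QuotientGroup.mk_surjective x.toMul
    refine Additive.toMul.injective ?_
    rw [toMul_nsmul, ← ha, ← QuotientGroup.mk_pow, toMul_zero, QuotientGroup.eq_one_iff, hc,
      pow_two]
    exact h.sq_eq a.2
  · simp only [dif_pos hx, dif_pos hy, dif_pos (mul_mem hx hy)]; rfl
  · simp only [dif_pos hx, ofMul_eq_zero, QuotientGroup.eq_one_iff, hc]
  · obtain ⟨a, ha⟩ := QuotientGroup.mk_surjective w.toMul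
    exact ⟨a, a.2, (dif_pos a.2).trans (congrArg Additive.ofMul ha)⟩
  · rw [card_eq_card_quotient_mul_card_subgroup (center Q),
      ← card_map_of_injective Q.subtype_injective, h.map_center, Nat.card_zpowers, h.orderOf_eq]
    rfl

variable (Q z) in
/-- The conjugate of `Q` with centre `⟨a⟩`. -/
def Qc (a : G) : Subgroup G :=
  ⨅ (g : G) (_ : g * z * g⁻¹ = a), Q.map (MulAut.conj g).toMonoidHom

theorem Qc_conj {a x : G} (t : G) (hx : x ∈ Qc Q z a) : t * x * t⁻¹ ∈ Qc Q z (t * a * t⁻¹) := by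
  simp only [Qc, mem_iInf, mem_map_conj] at hx ⊢
  intro g hg
  convert hx (t⁻¹ * g) (by rw [mul_inv_rev, inv_inv, mul_assoc, mul_assoc, ← mul_assoc z,
    ← mul_assoc g, ← mul_assoc g, hg]; group) using 1
  group

theorem Qc_eq (h : LgE Q z) (g : G) : Qc Q z (g * z * g⁻¹) = Q.map (MulAut.conj g).toMonoidHom := by
  ext x
  simp only [Qc, mem_iInf]
  refine ⟨fun hx => hx g rfl, fun hx t ht => ?_⟩
  rw [mem_map_conj] at hx ⊢
  have h1 : t⁻¹ * g * z = z * (t⁻¹ * g) := by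
    calc _ = t⁻¹ * (g * z * g⁻¹) * g := by group
      _ = _ := by rw [← ht]; group
  have h2 := conj_mem_of_mem_normalizer (h.norm (mem_centralizer_singleton_iff.mpr h1)) hx
  rwa [show t⁻¹ * g * (g⁻¹ * x * g) * (t⁻¹ * g)⁻¹ = t⁻¹ * x * t by group] at h2

theorem Qc_z (h : LgE Q z) : Qc Q z z = Q := by
  have := Qc_eq h 1
  simp only [one_mul, inv_one, mul_one] at this
  rw [this]; ext x; simp

theorem Qc_es (h : LgE Q z) {a : G} (ha : IsConj z a) : ES (Qc Q z a) a := by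
  obtain ⟨g, rfl⟩ := isConj_iff.mp ha
  rw [Qc_eq h]; exact h.toES.map_conj g

theorem Qc_fix {a x t : G} (ht : t * a = a * t) (hx : x ∈ Qc Q z a) : t * x * t⁻¹ ∈ Qc Q z a := by
  have := Qc_conj t hx
  rwa [ht, mul_inv_cancel_right] at this

theorem sym_of_card [Finite G] (h : LgE Q z) {K : Type*} [Group K]
    (π : centralizer ({z} : Set G) →* K) (hπ : ∀ m, π m = 1 → m.1 ∈ Q)
    (hK : ¬ Nat.card Q ∣ 4 * Nat.card K) (g : G) (hg : g * z * g⁻¹ ∈ Q) : g⁻¹ * z * g ∈ Q := by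
  by_contra hb
  have hc : IsConj z (g⁻¹ * z * g) := isConj_iff.mpr ⟨g⁻¹, by rw [inv_inv]⟩
  have es := Qc_es h hc
  have hz : z ∈ Qc Q z (g⁻¹ * z * g) := by
    simpa [mul_assoc] using Qc_conj g⁻¹ ((Qc_z h).ge hg)
  have h1 : Nat.card (Qc Q z (g⁻¹ * z * g)) = Nat.card Q := by
    rw [← inv_inv g, inv_inv g⁻¹, Qc_eq h, card_map_conj]
  generalize g⁻¹ * z * g = b at *
  have h2 := card_inf_mul_relIndex (centralizer {z}) (Qc Q z b)
  have h3 := card_inf_mul_relIndex π.ker ((Qc Q z b).subgroupOf (centralizer {z}))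
  have h4 : (π.ker ⊓ (Qc Q z b).subgroupOf (centralizer {z})).map (centralizer {z}).subtype ≤
      zpowers z := by
    rintro _ ⟨w, ⟨w1, w2⟩, rfl⟩
    have w3 := hπ w w1
    rw [mem_zpowers_of_mul_self h.sq, subtype_apply]
    rcases es_perp es hz (w := w) w2 (fun y hy hyz => (es.comm w w2 y hy).resolve_right fun e => hb (by
      have := mul_mem (inv_mem w3) (mul_mem (conj_mem_of_mem_normalizer'
        (h.norm (mem_centralizer_singleton_iff.mpr hyz.symm)) w3) (one_mem _))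
      rwa [mul_assoc y⁻¹, e, mul_one, mul_assoc y, inv_mul_cancel_left,
        inv_mul_cancel_left] at this)) with h5 | h5 | h5 | h5
    · exact Or.inl h5
    · exact absurd (by rw [← h5]; exact w3) hb
    · exact Or.inr ((eq_inv_of_mul_eq_one_left h5).trans h.inv)
    · exact absurd (by rw [← h5]; exact mul_mem w3 h.mem) hb
  have h5 := card_dvd_of_le h4
  rw [card_map_of_injective (subtype_injective _), Nat.card_zpowers, h.orderOf_eq] at h5
  rw [relIndex_ker, ← card_map_of_injective (K := (Qc Q z b).subgroupOf (centralizer {z}))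
    (subtype_injective _), subgroupOf_map_subtype, inf_comm (Qc Q z b)] at h3
  refine hK ?_
  rw [← h1, ← h2, ← h3, show 4 * Nat.card K = 2 * Nat.card K * 2 by ring]
  exact mul_dvd_mul (mul_dvd_mul h5 (card_subgroup_dvd_card _))
    (es.toC2.relIndex_centralizer_le le_rfl hz)

section

variable (h : LgE Q z) (hsym : ∀ g, g * z * g⁻¹ ∈ Q → g⁻¹ * z * g ∈ Q)
include h hsym

theorem Qc_sym {a b : G} (ha : IsConj z a) (hb : IsConj z b) (hab : a ∈ Qc Q z b) :
    b ∈ Qc Q z a := by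
  obtain ⟨g, rfl⟩ := isConj_iff.mp ha
  obtain ⟨t, rfl⟩ := isConj_iff.mp hb
  rw [Qc_eq h, mem_map_conj] at hab ⊢
  convert hsym (t⁻¹ * g) (by convert hab using 1; group) using 1
  group

theorem Qc_mul {a b : G} (ha : IsConj z a) (hb : IsConj z b) (hab : b ∈ Qc Q z a) (hne : b ≠ a)
    {x : G} (h1 : x ∈ Qc Q z a) (h2 : x ∈ Qc Q z b) : x ∈ Qc Q z (b * a) := by
  have es := Qc_es h ha
  obtain ⟨u, hu, e⟩ := es.exists_conj_eq_mul hab (Qc_es h hb).ne hne
  have h3 := Qc_conj u h2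
  have h4 := Qc_conj u (Qc_sym h hsym hb ha hab)
  rw [e] at h3 h4
  rw [es.cz u hu, mul_inv_cancel_right] at h4
  rcases es.conj_eq hu h1 with h5 | h5 <;> rw [h5] at h3
  exacts [h3, (mul_mem_cancel_right h4).mp h3]

omit hsym in
theorem Qc_sq {a b : G} (ha : IsConj z a) (hb : IsConj z b) (hne : b ≠ a)
    {x : G} (h1 : x ∈ Qc Q z a) (h2 : x ∈ Qc Q z b) : x * x = 1 :=
  ((Qc_es h ha).sq_eq h1).elim id fun e => ((Qc_es h hb).sq_eq h2).elim id fun e' =>
    absurd (e'.symm.trans e) hne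

theorem exists_LX [Finite G] {K : Type*} [Group K] (π : centralizer ({z} : Set G) →* K)
    (hs : Function.Surjective π) (hπ : ∀ m, π m = 1 ↔ m.1 ∈ Q) :
    ∃ (W : Type u) (_ : AddCommGroup W) (_ : Module (ZMod 2) W) (s : K →* End (ZMod 2) W)
      (q : W → ZMod 2) (f : LinearMap.BilinForm (ZMod 2) W) (A : Set W)
      (E : W → Submodule (ZMod 2) W) (L : W → Subgroup K), LX s q f A E L ∧
        Nat.card Q = Nat.card W * 2 ∧ ∀ a ∈ Q, IsConj z a → a ≠ z → A.Nonempty := by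
  classical
  obtain ⟨W, _, _, p, pm, p0, ps, hc⟩ := exists_mod h.toES
  have p1 : p 1 = 0 := (p0 1 (one_mem _)).mpr (Or.inl rfl)
  have pz : ∀ x ∈ Q, p (x * z) = p x := fun x hx => by
    rw [pm x hx z h.mem, (p0 z h.mem).mpr (Or.inr rfl), add_zero]
  have pi : ∀ x ∈ Q, p x⁻¹ = p x := fun x hx => by
    have := pm _ (inv_mem hx) x hx
    rw [inv_mul_cancel, p1] at this
    linear_combination (norm := ch2) this
  have pe : ∀ x ∈ Q, ∀ y ∈ Q, p x = p y → y = x ∨ y = x * z := fun x hx y hy e => by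
    have := (p0 _ (mul_mem (inv_mem hx) hy)).mp
      (by rw [pm _ (inv_mem hx) y hy, pi x hx, e, ZModModule.add_self])
    simpa only [inv_mul_eq_iff_eq_mul, mul_one] using this
  have cQ : ∀ (m : centralizer ({z} : Set G)), ∀ x ∈ Q, m * x * m.1⁻¹ ∈ Q := fun m x hx =>
    conj_mem_of_mem_normalizer (h.norm m.2) hx
  have cz : ∀ (m : centralizer ({z} : Set G)), m * z * m.1⁻¹ = z := fun m =>
    mul_inv_eq_iff_eq_mul.mpr (mem_centralizer_singleton_iff.mp m.2)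
  have pc : ∀ (m : centralizer ({z} : Set G)), ∀ x ∈ Q, ∀ y ∈ Q, p x = p y →
      p (m * x * m.1⁻¹) = p (m * y * m.1⁻¹) := fun m x hx y hy e => by
    rcases pe x hx y hy e with rfl | rfl
    · rfl
    · rw [← conj_mul, cz, pz _ (cQ m x hx)]
  obtain ⟨s, sp⟩ : ∃ s : K →* End (ZMod 2) W, ∀ m, ∀ x ∈ Q, s (π m) (p x) = p (m * x * m.1⁻¹) := by
    choose lw lw1 lw2 using ps
    choose lk lk1 using hs
    have key : ∀ m, ∀ x ∈ Q, p (lk (π m) * lw (p x) * (lk (π m)).1⁻¹) = p (m * x * m.1⁻¹) :=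
      fun m x hx => by
        have h1 := (hπ (m⁻¹ * lk (π m))).mp (by rw [map_mul, lk1, map_inv, inv_mul_cancel])
        rw [pc _ _ (lw1 _) x hx (lw2 _), ← pc m _ (cQ (m⁻¹ * lk (π m)) x hx) x hx (by
          rw [pm _ (mul_mem h1 hx) _ (inv_mem h1), pm _ h1 x hx, pi _ h1]; ch2)]
        congr 1; simp only [coe_mul, coe_inv]; group
    have key' : ∀ k, ∀ x ∈ Q, p (lk k * lw (p x) * (lk k).1⁻¹) = p (lk k * x * (lk k).1⁻¹) :=
      fun k x hx => pc _ _ (lw1 _) x hx (lw2 _)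
    refine ⟨⟨⟨fun k => (AddMonoidHom.mk' (fun w => p (lk k * lw w * (lk k).1⁻¹))
      fun v w => ?_).toZModLinearMap 2, LinearMap.ext fun w => ?_⟩,
      fun k l => LinearMap.ext fun w => ?_⟩, key⟩
    · rw [← pm _ (cQ _ _ (lw1 v)) _ (cQ _ _ (lw1 w)), conj_mul, ← key' _ _ (mul_mem (lw1 v) (lw1 w)),
        pm _ (lw1 v) _ (lw1 w), lw2, lw2]
    · have := key 1 _ (lw1 w)
      rw [map_one, lw2] at this
      exact this.trans (by simp [lw2])
    · have := key (lk k * lk l) _ (lw1 w)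
      rw [map_mul, lk1, lk1, lw2] at this
      refine this.trans ((key' k _ (cQ _ _ (lw1 w))).trans ?_).symm
      congr 1; simp only [coe_mul]; group
  obtain ⟨q, qp⟩ : ∃ q : W → ZMod 2, ∀ x ∈ Q, q (p x) = if x * x = 1 then 0 else 1 :=
    ⟨fun w => if ∃ x ∈ Q, p x = w ∧ x * x = 1 then 0 else 1, fun x hx => if_congr
      ⟨fun ⟨y, hy, e, h2⟩ => by
        rcases pe y hy x hx e with rfl | rfl
        · exact h2
        · rw [mul_assoc, ← mul_assoc z, ← h.cz y hy, mul_assoc, h.sq, mul_one, h2],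
      fun h2 => ⟨x, hx, rfl, h2⟩⟩ rfl rfl⟩
  have fq : ∀ x ∈ Q, ∀ y ∈ Q, q (p x + p y) + q (p x) + q (p y) =
      if x * y = y * x then 0 else 1 := fun x hx y hy => by
    rw [← pm x hx y hy, qp x hx, qp y hy, qp _ (mul_mem hx hy)]
    by_cases e : x * y = y * x
    · rw [show x * y * (x * y) = x * x * (y * y) by
        rw [mul_assoc, ← mul_assoc y, ← e]; group]
      rcases h.sq_eq hx with h1 | h1 <;> rcases h.sq_eq hy with h2 | h2 <;>
        simp [h1, h2, e, h.ne, h.sq] <;> rfl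
    · rw [h.mul_sq_of_ne hx hy e]
      rcases h.sq_eq hx with h1 | h1 <;> rcases h.sq_eq hy with h2 | h2 <;>
        simp [h1, h2, e, h.ne, h.sq]
      all_goals rfl
  obtain ⟨f, fa⟩ : ∃ f : LinearMap.BilinForm (ZMod 2) W, ∀ v w, f v w = q (v + w) + q v + q w := by
    have h1 : ∀ w v v', q (w + (v + v')) + q w + q (v + v') =
        q (w + v) + q w + q v + (q (w + v') + q w + q v') := fun w v v' => by
      obtain ⟨x, hx, rfl⟩ := ps v
      obtain ⟨y, hy, rfl⟩ := ps v'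
      obtain ⟨t, ht, rfl⟩ := ps w
      rw [← pm x hx y hy, fq t ht _ (mul_mem hx hy), fq t ht x hx, fq t ht y hy]
      simp only [h.comm_mul_iff ht hx hy]
      by_cases e : t * x = x * t <;> by_cases e' : t * y = y * t <;> simp [e, e']
      rfl
    have h0 : q 0 = 0 := by rw [← p1, qp 1 (one_mem _), if_pos (mul_one 1)]
    refine ⟨LinearMap.mk₂ (ZMod 2) (fun v w => q (v + w) + q v + q w) (fun v v' w => ?_)
      (fun c v w => ?_) h1 fun c v w => ?_, fun _ _ => rfl⟩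
    · have := h1 w v v'
      rw [add_comm w, add_comm w, add_comm w] at this
      grind
    · rcases z2 c with rfl | rfl <;> simp [h0, CharTwo.add_self_eq_zero]
    · rcases z2 c with rfl | rfl <;> simp [h0, CharTwo.add_self_eq_zero]
  have fp : ∀ x ∈ Q, ∀ y ∈ Q, f (p x) (p y) = 0 ↔ x * y = y * x := fun x hx y hy => by
    rw [fa, fq x hx y hy]; simp
  have fp1 : ∀ x ∈ Q, ∀ y ∈ Q, f (p x) (p y) = 1 → y * x * y⁻¹ = x * z := fun x hx y hy e =>
    h.conj_eq_of_ne hy hx fun e' => by rw [(fp x hx y hy).mpr e'.symm] at e; exact zero_ne_one e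
  have zc : ∀ a ∈ Q, IsConj z a → z ∈ Qc Q z a := fun a ha hc =>
    Qc_sym h hsym hc (IsConj.refl z) ((Qc_z h).ge ha)
  have caz : ∀ a ∈ Q, IsConj z a → a ≠ z → ∃ u ∈ Q, u * a * u⁻¹ = a * z := fun a ha hc hne =>
    h.exists_conj_eq_mul ha (Qc_es h hc).ne hne
  have caz' : ∀ a ∈ Q, IsConj z a → a ≠ z → IsConj z (a * z) := fun a ha hc hne =>
    let ⟨u, _, e⟩ := caz a ha hc hne; hc.trans (isConj_iff.mpr ⟨u, e⟩)
  let E : W → Submodule (ZMod 2) W := fun w => AddSubgroup.toZModSubmodule 2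
    { carrier := {v | ∀ a ∈ Q, IsConj z a → p a = w → ∃ e ∈ Q, e ∈ Qc Q z a ∧ p e = v}
      zero_mem' := fun _ _ _ _ => ⟨1, one_mem _, one_mem _, p1⟩
      add_mem' := fun h1 h2 a ha hc e =>
        let ⟨x, x1, x2, x3⟩ := h1 a ha hc e
        let ⟨y, y1, y2, y3⟩ := h2 a ha hc e
        ⟨x * y, mul_mem x1 y1, mul_mem x2 y2, by rw [pm x x1 y y1, x3, y3]⟩
      neg_mem' := fun h1 => by rwa [ZModModule.neg_eq_self] }
  let L : W → Subgroup K := fun w => ⨅ (a ∈ Q) (_ : IsConj z a) (_ : p a = w),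
    ((Qc Q z a).subgroupOf (centralizer {z})).map π
  have mE : ∀ a ∈ Q, IsConj z a → a ≠ z → ∀ x ∈ Q, p x ∈ E (p a) ↔ x ∈ Qc Q z a :=
    fun a ha hc hne x hx => ⟨fun h1 => by
      obtain ⟨e, e1, e2, e3⟩ := h1 a ha hc rfl
      rcases pe e e1 x hx e3 with rfl | rfl
      exacts [e2, mul_mem e2 (zc a ha hc)], fun h1 b hb _ e => ⟨x, hx, by
        rcases pe a ha b hb e.symm with rfl | rfl
        exacts [h1, Qc_mul h hsym (IsConj.refl z) hc ((Qc_z h).ge ha) hne ((Qc_z h).ge hx) h1],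
      rfl⟩⟩
  have mL : ∀ a ∈ Q, IsConj z a → a ≠ z → ∀ k, k ∈ L (p a) ↔
      ∃ m : centralizer ({z} : Set G), m.1 ∈ Qc Q z a ∧ π m = k := fun a ha hc hne k => by
    simp only [L, mem_iInf]
    refine ⟨fun h1 => h1 a ha hc rfl, fun ⟨m, h1, e⟩ b hb _ e' => ?_⟩
    rcases pe a ha b hb e'.symm with rfl | rfl
    · exact ⟨m, h1, e⟩
    · obtain ⟨u, hu, e2⟩ := caz a ha hc hne
      refine ⟨⟨u, h.le_cent hu⟩ * m * ⟨u, h.le_cent hu⟩⁻¹, e2 ▸ Qc_conj u h1, ?_⟩
      rw [map_mul, map_mul, map_inv, (hπ _).mpr hu, e]; simp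
  have onP : ∀ a ∈ Q, IsConj z a → a ≠ z → ∀ m : centralizer ({z} : Set G), m.1 ∈ Qc Q z a →
      ∀ x ∈ Q, x * a = a * x → s (π m) (p x) + p x ∈ E (p a) := fun a ha hc hne m hm x hx e => by
    rw [sp m x hx, ← pi x hx, ← pm _ (cQ m x hx) _ (inv_mem hx),
      mE a ha hc hne _ (mul_mem (cQ m x hx) (inv_mem hx))]
    simpa only [mul_assoc] using mul_mem hm (Qc_fix e (inv_mem hm))
  have main : ∀ a ∈ Q, IsConj z a → a ≠ z → ∀ y ∈ Q, f (p a) (p y) = 1 → ∀ x ∈ Q, x * a = a * x →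
      ∀ v ∈ Qc Q z a, z * v ≠ v * z → ∃ m : centralizer ({z} : Set G), m = v * x * v⁻¹ * x⁻¹ ∧
        π m ∈ L (p a) ∧ s (π m) (p y) + p y + p x ∈ E (p a) :=
    fun a ha hc hne y hy e x hx e' v hv e'' => by
      have es := Qc_es h hc
      have e1 := es.conj_eq_of_ne hv (zc a ha hc) e''.symm
      have e2 := Qc_conj v ((Qc_z h).ge hx)
      have e3 : Commute (v * x * v⁻¹) z := by
        have h1 : Commute (v * x * v⁻¹) (v * z * v⁻¹) := Commute.conj (h.cz x hx) v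
        have h2 : Commute (v * x * v⁻¹) (v * a * v⁻¹) := Commute.conj e' v
        rw [es.cz v hv, mul_inv_cancel_right] at h2
        simpa [e1] using h1.mul_right h2.inv_right
      have m1 : v * x * v⁻¹ * x⁻¹ ∈ Qc Q z a := by
        simpa only [mul_assoc] using mul_mem hv (Qc_fix e' (inv_mem hv))
      have m2 : v * x * v⁻¹ * x⁻¹ ∈ centralizer {z} := mem_centralizer_singleton_iff.mpr
        (e3.mul_left (Commute.inv_left (h.cz x hx)))
      refine ⟨⟨_, m2⟩, rfl, (mL a ha hc hne _).mpr ⟨_, m1, rfl⟩, ?_⟩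
      have e4 : v * x * v⁻¹ = (⟨_, m2⟩ : centralizer ({z} : Set G)) * x := by simp
      have m1' : (⟨_, m2⟩ : centralizer ({z} : Set G)).1 ∈ Qc Q z a := m1
      rw [e4, e1, ← h.cz a ha] at e2
      generalize (⟨_, m2⟩ : centralizer ({z} : Set G)) = m at e2 m1'
      have t1 := mul_mem (cQ m x hx) (mul_mem (cQ m y hy) (inv_mem hy))
      have t2 := Qc_conj y (inv_mem m1')
      rw [fp1 a ha y hy e] at t2
      have t3 := Qc_mul h hsym (IsConj.refl z) (caz' a ha hc hne) ((Qc_z h).ge (mul_mem ha h.mem))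
        (by simpa using es.ne) ((Qc_z h).ge t1)
        (by simpa only [mul_assoc, inv_mul_cancel_left] using mul_mem e2 t2)
      rw [mul_assoc, h.sq, mul_one, ← mE a ha hc hne _ t1, pm _ (cQ m x hx) _
        (mul_mem (cQ m y hy) (inv_mem hy)), pm _ (cQ m y hy) _ (inv_mem hy), pi y hy, ← sp m x hx,
        ← sp m y hy] at t3
      convert add_mem t3 (onP a ha hc hne m m1' x hx e') using 1; ch2
  refine ⟨W, _, _, s, q, f, {w | ∃ a ∈ Q, IsConj z a ∧ a ≠ z ∧ p a = w}, E, L,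
    ⟨fun v w => by rw [fa]; grind, fun k w => ?_, fun w hw => ?_, fun k hk => ?_, ?_, ?_, ?_, ?_,
      fun k w e he => ?_, fun k w l hl => ?_, ?_, ?_, ?_, ?_, ?_, ?_⟩, hc,
    fun a ha hc hne => ⟨_, a, ha, hc, hne, rfl⟩⟩
  · obtain ⟨m, rfl⟩ := hs k
    obtain ⟨x, hx, rfl⟩ := ps w
    rw [sp m x hx, qp _ (cQ m x hx), qp x hx, conj_mul]
    simp only [conj_eq_one_iff]
  · obtain ⟨x, hx, rfl⟩ := ps w
    exact (p0 x hx).mpr (h.center x hx fun y hy => ((fp x hx y hy).mp (hw _)).symm)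
  · obtain ⟨m, rfl⟩ := hs k
    obtain ⟨w, hw, e⟩ := h.toES.exists_inner (cz m) fun x hx =>
      pe x hx _ (cQ m x hx) (by rw [← sp m x hx, hk])
    refine (hπ m).mpr ((mul_mem_cancel_left (inv_mem hw)).mp (h.cent fun x hx => ?_))
    calc _ = w⁻¹ * (w * x * w⁻¹) * m := by group
      _ = _ := by rw [← e x hx]; group
  · rintro _ ⟨a, ha, hc, hne, rfl⟩ e
    exact ((p0 a ha).mp e).elim (Qc_es h hc).ne hne
  · rintro k _ ⟨a, ha, hc, hne, rfl⟩
    obtain ⟨m, rfl⟩ := hs k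
    exact ⟨_, cQ m a ha, hc.trans (isConj_iff.mpr ⟨_, rfl⟩), fun e => hne
      (conj_injective (e.trans (cz m).symm)), (sp m a ha).symm⟩
  · rintro _ ⟨a, ha, hc, hne, rfl⟩
    exact (mE a ha hc hne a ha).mpr (Qc_es h hc).mem
  · rintro _ ⟨a, ha, hc, hne, rfl⟩ e he
    obtain ⟨x, hx, rfl⟩ := ps e
    rw [qp x hx, if_pos (Qc_sq h (IsConj.refl z) hc hne ((Qc_z h).ge hx)
      ((mE a ha hc hne x hx).mp he))]
  · obtain ⟨m, rfl⟩ := hs k
    intro a ha hc e'
    have h1 := cQ m⁻¹ a ha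
    obtain ⟨x, x1, x2, rfl⟩ := he _ h1 (hc.trans (isConj_iff.mpr ⟨_, rfl⟩))
      (by rw [← sp _ a ha, e', ← s_mul, ← map_mul, inv_mul_cancel, map_one, s_one])
    exact ⟨_, cQ m x x1, by simpa [mul_assoc] using Qc_conj m.1 x2, (sp m x x1).symm⟩
  · obtain ⟨m, rfl⟩ := hs k
    simp only [L, mem_iInf] at hl ⊢
    intro a ha hc e'
    obtain ⟨x, x2, rfl⟩ := hl _ (cQ m⁻¹ a ha) (hc.trans (isConj_iff.mpr ⟨_, rfl⟩))
      (by rw [← sp _ a ha, e', ← s_mul, ← map_mul, inv_mul_cancel, map_one, s_one])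
    exact ⟨m * x * m⁻¹, by simpa [mul_assoc, mem_subgroupOf] using Qc_conj m.1 x2, by simp⟩
  · rintro _ ⟨a, ha, hc, hne, rfl⟩ l hl
    obtain ⟨m, hm, rfl⟩ := (mL a ha hc hne l).mp hl
    rw [← map_mul, hπ, coe_mul]
    rcases (Qc_es h hc).sq_eq hm with e | e <;> rw [e]
    exacts [one_mem _, ha]
  · rintro _ ⟨a, ha, hc, hne, rfl⟩ l hl e he
    obtain ⟨m, hm, rfl⟩ := (mL a ha hc hne l).mp hl
    obtain ⟨x, hx, rfl⟩ := ps e
    rw [sp m x hx]
    rcases (Qc_es h hc).conj_eq hm ((mE a ha hc hne x hx).mp he) with e | e <;> rw [e]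
    exacts [Or.inl rfl, Or.inr (pm x hx a ha)]
  · rintro _ ⟨a, ha, hc, hne, rfl⟩ l hl w hw
    obtain ⟨m, hm, rfl⟩ := (mL a ha hc hne l).mp hl
    obtain ⟨x, hx, rfl⟩ := ps w
    exact onP a ha hc hne m hm x hx ((fp a ha x hx).mp hw).symm
  · rintro _ ⟨a, ha, hc, hne, rfl⟩ l hl w hw he
    obtain ⟨m, hm, rfl⟩ := (mL a ha hc hne l).mp hl
    obtain ⟨y, hy, rfl⟩ := ps w
    rw [sp m y hy, ← pi y hy, ← pm _ (cQ m y hy) _ (inv_mem hy),
      mE a ha hc hne _ (mul_mem (cQ m y hy) (inv_mem hy))] at he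
    have t2 := Qc_conj y (inv_mem hm)
    rw [fp1 a ha y hy hw] at t2
    have t3 := Qc_mul h hsym hc (caz' a ha hc hne) (mul_mem (Qc_es h hc).mem (zc a ha hc))
      (by simpa using h.ne)
      (by simpa only [mul_assoc, inv_mul_cancel_left] using mul_mem (inv_mem hm) he) t2
    rw [h.cz a ha, mul_assoc z, (Qc_es h hc).sq, mul_one, Qc_z h] at t3
    exact (hπ m).mpr (by simpa [mul_mem_cancel_left, mul_mem_cancel_right, hy] using t3)
  · rintro _ ⟨a, ha, hc, hne, rfl⟩ u hu w hw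
    obtain ⟨y, hy, rfl⟩ := ps u
    obtain ⟨x, hx, rfl⟩ := ps w
    obtain ⟨v, hv, e⟩ := (Qc_es h hc).exists_not_comm (zc a ha hc) h.ne hne.symm
    obtain ⟨m, -, h1, h2⟩ := main a ha hc hne y hy hu x hx ((fp a ha x hx).mp hw).symm v hv e.symm
    exact ⟨_, h1, h2⟩
  · rintro _ ⟨a, ha, hc, hne, rfl⟩ u hu _ ⟨b, hb, hc', hne', rfl⟩ hab hab' w hw
    obtain ⟨y, hy, rfl⟩ := ps u
    obtain ⟨x, hx, rfl⟩ := ps w
    rw [mE a ha hc hne b hb] at hab
    rw [mE b hb hc' hne' x hx] at hw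
    have hsq := fun x (h1 : x ∈ Q) h2 => Qc_sq h (IsConj.refl z) hc' hne' ((Qc_z h).ge h1) h2
    have hba := Qc_sym h hsym hc' hc hab
    have xa : x * a = a * x := by
      rw [← inv_eq_of_mul_eq_one_left (hsq _ (mul_mem hx ha) (mul_mem hw hba)), mul_inv_rev,
        inv_eq_of_mul_eq_one_left (hsq x hx hw), inv_eq_of_mul_eq_one_left (hsq a ha hba)]
    obtain ⟨v, hv, e1, e2⟩ : ∃ v ∈ Qc Q z a, b * v = v * b ∧ z * v ≠ v * z := by
      by_contra h1
      rcases es_perp (Qc_es h hc) hab (zc a ha hc)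
        (fun v hv e => by_contra fun e' => h1 ⟨v, hv, e, e'⟩) with e | e | e | e
      · exact h.ne e
      · exact hne e.symm
      · exact hne' (h.inv ▸ eq_inv_of_mul_eq_one_right e)
      · exact hab' (by rw [← e, ← h.cz b hb, pz b hb])
    obtain ⟨m, e, h1, h2⟩ := main a ha hc hne y hy hu x hx xa v hv e2
    refine ⟨_, h1, h2, ?_⟩
    have m1 : m.1 ∈ Qc Q z b := e ▸ mul_mem (Qc_fix e1.symm hw) (inv_mem hw)
    obtain ⟨m', m2, e'⟩ : ∃ m' : G, m' ∈ Qc Q z a ∧ m' = m := ⟨_, by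
      simpa only [mul_assoc] using mul_mem hv (Qc_fix xa (inv_mem hv)), e.symm⟩
    have m3 := Qc_sq h hc hc' (fun e => hab' (congrArg p e)) (e' ▸ m2) m1
    have m4 : m * x * (m * x) = 1 := by
      rw [e, inv_mul_cancel_right, conj_mul, hsq x hx hw, mul_one, mul_inv_cancel]
    rw [← mul_assoc] at m4
    rw [sp m x hx, inv_eq_of_mul_eq_one_left m3, ← pi x hx, eq_inv_of_mul_eq_one_left m4]

end

end Cfsg.Agent.H3
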