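import Cfsg.Agent.H3.LX2
import Cfsg.Agent.H3.LX3
import Cfsg.Agent.S3300
import Cfsg.Agent.L0.PSolvable

/-!
# No simple group has an involution centraliser of shape `2^(1+8).K` with `3 × A₆ ≤ K ≤ S₃ × S₆`
-/

set_option autoImplicit false

namespace Cfsg.Agent.H3

open Subgroup Module H9 Equiv Equiv.Perm

theorem s6_conj {Z : Perm (Fin 6)} (h2 : Z * Z = 1) (h1 : Z ≠ 1) (hs : sign Z = 1) :
    IsConj Z (swap 0 1 * swap 2 3) := by
  have h3 := cycleType_of_pow_prime_eq_one (p := 2) (by rwa [pow_two])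
  have h4 := sum_cycleType_le Z
  have h5 := mt card_cycleType_eq_zero.mp h1
  rw [sign_of_cycleType] at hs
  rw [isConj_iff_cycleType_eq, show cycleType (swap 0 1 * swap 2 3 : Perm (Fin 6)) = {2, 2} by
    decide +kernel, h3]
  rw [h3] at h4 hs
  generalize Z.cycleType.card = n at *
  simp only [Multiset.sum_replicate, Multiset.card_replicate, Fintype.card_fin, smul_eq_mul] at h4 hs
  obtain rfl | rfl | rfl : n = 1 ∨ n = 2 ∨ n = 3 := by omega
  · exact absurd hs (by decide)
  · rfl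
  · exact absurd hs (by decide)

theorem s6_comm : ∀ t : Perm (Fin 6), t * (swap 0 1 * swap 2 3) = swap 0 1 * swap 2 3 * t →
    ∀ j ∈ [swap 0 2 * swap 1 3, swap 0 1 * swap 4 5],
      j * t * j = t ∨ j * t * j = swap 0 1 * swap 2 3 * t := by
  decide +kernel

theorem LX.false {K W : Type*} [Group K] [AddCommGroup W] [Module (ZMod 2) W]
    {s : K →* End (ZMod 2) W} {q : W → ZMod 2} {f : LinearMap.BilinForm (ZMod 2) W}
    {A : Set W} {E : W → Submodule (ZMod 2) W} {L : W → Subgroup K} (X : LX s q f A E L)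
    [Module.Finite (ZMod 2) W] (hd : finrank (ZMod 2) W = 8) (hA : A.Nonempty)
    {ι : K →* Perm (Fin 3) × Perm (Fin 6)} (hι : Function.Injective ι)
    (hs : ∀ c σ, sign c = 1 → sign σ = 1 → ∃ k, ι k = (c, σ)) : False := by
  obtain ⟨a, ha⟩ := hA
  obtain ⟨u, hu⟩ := X.exists_u ha
  obtain ⟨r, hr⟩ := hs (swap 0 1 * swap 1 2) 1 (by decide) (map_one _)
  have r3 : r ^ 3 = 1 := hι (by rw [map_pow, hr, map_one]; decide)
  have r1 : r ≠ 1 := fun h => by rw [h, map_one] at hr; exact absurd hr (by decide)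
  have hn : ∀ k, k * r = r * k ∨ k * r = r⁻¹ * k := fun k => by
    simp only [← hι.eq_iff, map_mul, map_inv, hr, Prod.ext_iff, Prod.fst_mul, Prod.snd_mul,
      Prod.fst_inv, Prod.snd_inv, mul_one, one_mul, inv_one, and_true]
    generalize (ι k).1 = c; revert c; decide
  have h0 : ∀ l ∈ L a, l * r = r * l → (ι l).1 = 1 := fun l hl c => by
    have h1 := congrArg (fun x => (ι x).1) (X.sq a ha l hl)
    have h2 := congrArg (fun x => (ι x).1) c
    simp only [map_mul, map_one, hr, Prod.fst_mul, Prod.fst_one] at h1 h2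
    generalize (ι l).1 = c at h1 h2; revert c; decide
  have key : ∀ Z ∈ L a, ∀ t ∈ L a, Z * r = r * Z → t * r = r * t → Z ≠ 1 → t ≠ 1 → Z ≠ t →
      sign (ι Z).2 ≠ 1 := fun Z hZ t ht cZ ct n1 n2 n3 h => by
    obtain ⟨g, hg⟩ := isConj_iff.mp (s6_conj
      (by rw [← Prod.snd_mul, ← map_mul, X.sq a ha Z hZ, map_one, Prod.snd_one])
      (fun e => n1 (hι (by rw [map_one]; exact Prod.ext (h0 Z hZ cZ) e))) h)
    let ι' := (MulAut.conj ((1 : Perm (Fin 3)), g)).toMonoidHom.comp ι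
    have hι' : Function.Injective ι' := (MulAut.conj _).injective.comp hι
    have e : ∀ k, ι' k = ((ι k).1, g * (ι k).2 * g⁻¹) := fun k => by ext1 <;> simp [ι']
    have hs' : ∀ σ, sign σ = 1 → ∃ k, ι' k = (1, σ) := fun σ h => by
      obtain ⟨k, hk⟩ := hs 1 (g⁻¹ * σ * g) (map_one _) (by simp [h])
      exact ⟨k, by rw [e, hk]; simp [mul_assoc]⟩
    obtain ⟨j, hj⟩ := hs' (swap 0 2 * swap 1 3) (by decide)
    obtain ⟨k, hk⟩ := hs' (swap 0 1 * swap 4 5) (by decide)
    obtain ⟨j', hj'⟩ := hs' (swap 2 4 * swap 3 5) (by decide)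
    obtain ⟨k', hk'⟩ := hs' (swap 1 2 * swap 4 5) (by decide)
    have hr' : ι' r = (swap 0 1 * swap 1 2, 1) := by rw [e, hr]; simp
    have hZ' : ι' Z = (1, swap 0 1 * swap 2 3) := by rw [e, hg, h0 Z hZ cZ]
    have ht' : ι' t = (1, (ι' t).2) := by rw [e, h0 t ht ct]
    have h1 := s6_comm (ι' t).2 (by
      simpa [hZ'] using congrArg (fun x => (ι' x).2) (X.comm ha ht hZ))
    refine X.false_of_pair ha hu r3 r1 hn hd hZ ht cZ ct n1 n2 n3 (j := j) (k := k) (j' := j')
      (k' := k') (Rel6.of_map hι' ?_) (Rel6.of_map hι' ?_) ?_ ?_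
    · rw [hr', hZ', hj, hk, hj', hk']
      refine ⟨?_, ?_, ?_, ?_, ?_, ?_, ?_, ?_, ?_, fun n hn => by fin_cases hn <;> decide⟩ <;> decide
    · rw [hr', hZ', hj, hk, hj', hk']
      refine ⟨?_, ?_, ?_, ?_, ?_, ?_, ?_, ?_, ?_, fun n hn => by fin_cases hn <;> decide⟩ <;> decide
    · simp only [← hι'.eq_iff, map_mul, hj, hZ']
      rw [ht']; simpa using h1 _ List.mem_cons_self
    · simp only [← hι'.eq_iff, map_mul, hk, hZ']
      rw [ht']; simpa using h1 _ (List.mem_cons_of_mem _ List.mem_cons_self)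
  obtain ⟨l, hl, c1, e1, -⟩ := X.exists_L0 ha hu hn hd (one_mem _)
  obtain ⟨m, hm, c2, e2, e3⟩ := X.exists_L0 ha hu hn hd hl
  have h1 := key l hl m hm c1 c2 e1 e2 e3.symm
  have h2 := key m hm l hl c2 c1 e2 e1 e3
  refine key _ (mul_mem hl hm) l hl (Commute.mul_left c1 c2) c1 (fun e => e3 ?_) e1
    (by simpa using e2) ?_
  · rw [eq_inv_of_mul_eq_one_right e, inv_eq_of_mul_eq_one_left (X.sq a ha l hl)]
  · rw [map_mul, Prod.snd_mul, map_mul, (Int.units_eq_one_or _).resolve_left h1,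
      (Int.units_eq_one_or _).resolve_left h2]; rfl

theorem not_simple_of_quot {G : Type*} [Group G] [Finite G] {z : G} (hz : orderOf z = 2)
    (hQ : IsExtraspecial 2 (pCore 2 (centralizer ({z} : Set G))))
    (hQ9 : Nat.card (pCore 2 (centralizer ({z} : Set G))) = 2 ^ 9)
    (hCQ : centralizer (pCore 2 (centralizer ({z} : Set G)) : Set (centralizer ({z} : Set G))) ≤
      pCore 2 (centralizer ({z} : Set G)))
    (φ : centralizer ({z} : Set G) →* Perm (Fin 3) × Perm (Fin 6))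
    (hφ : φ.ker = pCore 2 (centralizer ({z} : Set G)))
    (hs : ∀ c σ, sign c = 1 → sign σ = 1 → ∃ k, φ k = (c, σ)) (hs' : ∃ k, sign (φ k).1 = -1) :
    ¬ IsSimpleGroup G := fun _ => by
  obtain ⟨y, hy⟩ := exists_es_of_isExtraspecial hQ
  have h1 := (hy.map (subtype_injective _)).isExtraspecial
  have hz' : z ∈ centralizer {z} := mem_centralizer_singleton_iff.mpr rfl
  have h2 : centralizer ((pCore 2 (centralizer ({z} : Set G))).map (Subgroup.subtype _) : Set G) ≤
      (pCore 2 (centralizer ({z} : Set G))).map (Subgroup.subtype _) := fun x hx => by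
    have h3 : (⟨z, hz'⟩ : centralizer ({z} : Set G)) ∈ pCore 2 _ := hCQ fun m _ =>
      Subtype.ext (mem_centralizer_singleton_iff.mp m.2)
    have h4 := mem_centralizer_singleton_iff.mpr (hx z ⟨_, h3, rfl⟩).symm
    exact ⟨⟨x, h4⟩, hCQ fun m hm => Subtype.ext (hx _ ⟨m, hm, rfl⟩), rfl⟩
  have h3 := LgE.of_pCore hz rfl h1 h2
  have h4 := (card_map_of_injective (subtype_injective _)).trans hQ9
  have hπ : ∀ m, φ.rangeRestrict m = 1 ↔
      m.1 ∈ (pCore 2 (centralizer ({z} : Set G))).map (Subgroup.subtype _) := fun m => by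
    rw [← MonoidHom.mem_ker, MonoidHom.ker_rangeRestrict, hφ]
    exact (mem_map_iff_mem (subtype_injective _)).symm
  have hres : pResidual 2 G = ⊤ := by
    refine (IsSimpleGroup.eq_bot_or_eq_top_of_normal _ inferInstance).resolve_left fun h => ?_
    have := (L0.pResidual_le_iff.mp h.le).of_equiv QuotientGroup.quotientBot
    obtain ⟨r, hr⟩ := hs (swap 0 1 * swap 1 2) 1 (by decide) (map_one _)
    obtain ⟨k, hk⟩ := (this.to_subgroup _) r
    have h5 := orderOf_dvd_of_pow_eq_one (show φ r ^ 2 ^ k = 1 by rw [← map_pow, hk, map_one])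
    rw [hr, orderOf_eq_prime (p := 3) (by decide) (by decide)] at h5
    exact absurd (Nat.prime_three.dvd_of_dvd_pow h5) (by decide)
  let χ := (sign.comp (MonoidHom.fst _ _)).comp φ
  have h5 : (χ.ker.map (Subgroup.subtype _)).relIndex (centralizer {z}) = 2 := by
    rw [relIndex, subgroupOf, comap_map_eq_self_of_injective (subtype_injective _), index_ker,
      MonoidHom.range_eq_top.mpr fun c => ?_, card_top, Nat.card_eq_fintype_card,
      Fintype.card_units_int]
    rcases Int.units_eq_one_or c with rfl | rfl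
    exacts [⟨1, map_one _⟩, hs']
  obtain ⟨g, hg, hne⟩ := S3300.result hres z hz _ rfl h1 h2 4 (by decide) h4 _ (map_subtype_le _)
    (fun t ht => map_conj_eq_iff.mpr (mem_normalizer_of_conj_mem fun x hx =>
      (conj_mem_iff_of_relIndex_two h5 (map_subtype_le _ hx) ht).mpr hx)) h5
  obtain ⟨W, _, _, s, q, f, A, E, L, X, hc, hA⟩ := exists_LX h3 (sym_of_card h3 φ.rangeRestrict
    (fun m => (hπ m).mp) fun h => by
      have := h.trans (mul_dvd_mul_left 4 (card_subgroup_dvd_card φ.range))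
      rw [h4, Nat.card_prod, Nat.card_perm, Nat.card_perm, Nat.card_fin, Nat.card_fin] at this
      exact absurd this (by decide)) φ.rangeRestrict φ.rangeRestrict_surjective hπ
  rw [h4] at hc
  have : Finite W := Nat.finite_of_card_ne_zero (by omega)
  have h6 := Module.natCard_eq_pow_finrank (K := ZMod 2) (V := W)
  rw [Nat.card_zmod, show Nat.card W = 2 ^ 8 by omega] at h6
  exact X.false (Nat.pow_right_injective le_rfl h6).symm
    (hA _ hg (isConj_iff.mpr ⟨g, rfl⟩) hne) (subtype_injective _) fun c σ h h' =>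
      let ⟨k, hk⟩ := hs c σ h h'; ⟨⟨_, k, rfl⟩, hk⟩

end Cfsg.Agent.H3
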