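import Cfsg.Agent.H3.Blk

/-!
# Metacyclic Frobenius subgroups
-/

set_option autoImplicit false

namespace Cfsg.Agent.H3

open Finset Subgroup Cfsg.Agent.L0 Cfsg.Agent.H6

variable {G : Type*} [Group G]

theorem conj_iter {u f : G} {r : ℕ} (h : u * f * u⁻¹ = f ^ r) (j : ℕ) :
    u ^ j * f * (u ^ j)⁻¹ = f ^ r ^ j := by
  induction j with
  | zero => simp
  | succ j ih =>
    rw [pow_succ r, pow_mul, ← ih, conj_pow, ← h, pow_succ]
    group

/-- `u` acts on the cyclic group of prime order `p` as an automorphism of order `m`. -/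
structure Act (p m r : ℕ) (f u : G) : Prop where
  hp : p.Prime
  hf : orderOf f = p
  hu : u ^ m = 1
  m0 : 0 < m
  cj : u * f * u⁻¹ = f ^ r
  ord : ∀ j < m, r ^ j % p = 1 % p → j = 0

namespace Act

variable {p m r : ℕ} {f u : G} (h : Act p m r f u)
include h

theorem eq_zero {j : ℕ} (hj : j < m) (h1 : u ^ j * f = f * u ^ j) : j = 0 := by
  have h2 := conj_iter h.cj j
  rw [h1, mul_inv_cancel_right] at h2
  nth_rewrite 1 [← pow_one f] at h2
  rw [pow_eq_pow_iff_modEq, h.hf] at h2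
  exact h.ord j hj h2.symm

theorem orderOf_u : orderOf u = m :=
  (orderOf_eq_iff h.m0).mpr ⟨h.hu, fun j h1 h2 h3 => h2.ne' (h.eq_zero h1 (by simp [h3]))⟩

theorem card_f : Nat.card (zpowers f) = p := by rw [Nat.card_zpowers, h.hf]

theorem card_u : Nat.card (zpowers u) = m := by rw [Nat.card_zpowers, h.orderOf_u]

variable [Finite G]

theorem mem_norm : u ∈ normalizer (zpowers f : Set G) :=
  H9.mem_normalizer_of_conj_mem fun y hy => by
    obtain ⟨i, rfl⟩ := mem_zpowers_iff.mp hy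
    rw [← conj_zpow, h.cj]
    exact zpow_mem (npow_mem_zpowers f r) i

theorem le_norm : zpowers u ≤ normalizer (zpowers f : Set G) := zpowers_le.mpr h.mem_norm

theorem sup_le_norm : zpowers f ⊔ zpowers u ≤ normalizer (zpowers f : Set G) :=
  sup_le le_normalizer h.le_norm

theorem eq_one {w : G} (hw : w ∈ zpowers u) (h1 : w * f = f * w) : w = 1 := by
  classical
  obtain ⟨j, hj, rfl⟩ := mem_image.mp (mem_zpowers_iff_mem_range_orderOf.mp hw)
  rw [h.orderOf_u, mem_range] at hj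
  rw [h.eq_zero hj h1, pow_zero]

theorem free : ∀ w ∈ zpowers u, w ≠ 1 → ∀ k ∈ zpowers f, k * w = w * k → k = 1 := by
  intro w hw hw1 k hk h1
  by_contra h2
  have := Fact.mk h.hp
  have h3 : f ∈ zpowers k := eq_zpowers_of_card_prime h.card_f hk h2 ▸ mem_zpowers f
  obtain ⟨i, rfl⟩ := mem_zpowers_iff.mp h3
  exact hw1 (h.eq_one hw (Commute.zpow_left h1 i).eq.symm)

theorem card_sup : Nat.card (zpowers f ⊔ zpowers u : Subgroup G) = p * m := by
  rw [H3.card_sup h.le_norm (inf_eq_bot_of_free h.free), h.card_f, h.card_u]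

theorem fx_eq {χ : G → ℂ} (hχ : IsCharacter G χ) : (m : ℂ) * fx χ (zpowers f ⊔ zpowers u) + χ 1 =
    fx χ (zpowers f) + m * fx χ (zpowers u) := by
  have := fx_frob hχ h.le_norm h.free
  rwa [h.card_u] at this

end Act

variable [Finite G]

theorem fx_prime {χ : G → ℂ} (hχ : IsCharacter G χ) {p : ℕ} (hp : p.Prime) {f : G}
    (hf : orderOf f = p) {c : ℂ} (h : ∀ g, orderOf g = p → g ∈ zpowers f → χ g = c) :
    (p : ℂ) * fx χ (zpowers f) = χ 1 + (p - 1) * c := by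
  have := Fact.mk hp
  have h1 : Nat.card (zpowers f) = p := by rw [Nat.card_zpowers, hf]
  have := fx_of_const_ne hχ (H := zpowers f) (c := c) fun g hg h2 =>
    h g (orderOf_eq_of_card_prime h1 hg h2) hg
  rwa [h1] at this

theorem fx_two {χ : G → ℂ} (hχ : IsCharacter G χ) {t : G} (ht : orderOf t = 2) :
    (2 : ℂ) * fx χ (zpowers t) = χ 1 + χ t := by
  have := fx_zpowers hχ t
  simpa [ht, sum_range_succ] using this

theorem fx_four {χ : G → ℂ} (hχ : IsCharacter G χ) {u : G} (hu : orderOf u = 4) {a : ℤ}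
    (ha : χ u = a) : (4 : ℂ) * fx χ (zpowers u) = χ 1 + χ (u ^ 2) + 2 * a := by
  have h1 := fx_zpowers hχ u
  have h2 : u ^ 3 = u⁻¹ := eq_inv_of_mul_eq_one_left (by
    rw [← pow_succ, ← pow_orderOf_eq_one u, hu])
  simp only [hu, sum_range_succ, range_zero, sum_empty, pow_zero, pow_one, h2,
    IsCharacter.apply_inv hχ, ha, map_intCast] at h1
  push_cast at h1
  linear_combination h1

variable {p : ℕ} [hp : Fact p.Prime]

theorem card_eq_mul (D : Setup p G) {L : Subgroup G} (hx : D.x ∈ L) : ∃ n, n % p = 1 ∧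
    Nat.card L = n * Nat.card (normalizer (zpowers D.x : Set G) ⊓ L : Subgroup G) := by
  have hP : (D.P : Subgroup G) ≤ L := zpowers_le.mpr hx
  have h1 := card_sylow_mul_card_normalizer (D.P.subtype hP)
  refine ⟨_, Eq.trans (card_sylow_modEq_one p L) (Nat.mod_eq_of_lt hp.out.one_lt), ?_⟩
  rw [← h1, Sylow.coe_subtype, ← subgroupOf_normalizer_eq hP, ← inf_subgroupOf_right]
  congr 1
  exact Nat.card_congr (subgroupOfEquivOfLe inf_le_right).toEquiv

omit [Finite G] in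
theorem exists_conj_pow (D : Setup p G) {a : (ZMod p)ˣ} (ha : a ∈ D.A) {r : ℕ}
    (hr : (a : ZMod p).val = r) : ∃ g : G, g * D.x * g⁻¹ = D.x ^ r :=
  isConj_iff.mp (hr ▸ (D.hA a).mp ha)

omit [Finite G] hp in
theorem comm_of_conj_pow {g x : G} {r m : ℕ} (hx : orderOf x = p) (h : g * x * g⁻¹ = x ^ r)
    (hr : r ^ m % p = 1 % p) : g ^ m * x = x * g ^ m := by
  have h1 := conj_iter h m
  rw [(pow_eq_pow_iff_modEq.mpr (hx ▸ hr : r ^ m ≡ 1 [MOD orderOf x]) : x ^ r ^ m = x ^ 1),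
    pow_one] at h1
  exact mul_inv_eq_iff_eq_mul.mp h1

omit hp in
theorem exists_act_eleven [Fact (Nat.Prime 11)] (D : Setup 11 G) (hA : Nat.card D.A = 5)
    (hK : D.K = ⊥) : ∃ f, Act 11 5 3 D.x f := by
  have h1 : D.A.index = 2 := by have := D.card_A_mul_index; rw [hA] at this; omega
  obtain ⟨g, hg⟩ := exists_conj_pow D (D.A.mul_self_mem_of_index_two h1
    (ZMod.unitOfCoprime 5 (by norm_num))) (r := 3) rfl
  have h2 := mem_zpowers_of_K hK _ (comm_of_conj_pow D.hx hg (m := 5) (by norm_num))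
  refine ⟨g ^ 11, by norm_num, D.hx, ?_, by norm_num, ?_, by decide⟩
  · rw [← pow_mul, mul_comm, pow_mul]
    exact orderOf_dvd_iff_pow_eq_one.mp (D.hx ▸ orderOf_dvd_of_mem_zpowers h2)
  · rw [conj_iter hg, pow_eq_pow_iff_modEq, D.hx]
    decide

omit hp in
theorem card_55 [Fact (Nat.Prime 11)] (D : Setup 11 G) (hA : Nat.card D.A = 5)
    (hK : D.K = ⊥) {f : G} (h : Act 11 5 3 D.x f) {L : Subgroup G} (hx : D.x ∈ L) (hf : f ∈ L) :
    ∃ n, n % 11 = 1 ∧ Nat.card L = n * 55 := by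
  obtain ⟨n, h1, h2⟩ := card_eq_mul D hx
  have h3 := D.card_N
  rw [hA, hK, card_bot] at h3
  have h4 : zpowers D.x ⊔ zpowers f = normalizer (zpowers D.x : Set G) :=
    eq_of_le_of_card_ge h.sup_le_norm (by rw [h3, h.card_sup])
  rw [inf_eq_left.mpr (h4 ▸ sup_le (zpowers_le.mpr hx) (zpowers_le.mpr hf)), h3] at h2
  exact ⟨n, h1, h2⟩

omit hp in
theorem exists_conj_sq [Fact (Nat.Prime 5)] (D : Setup 5 G) (hA : D.A.index = 1) :
    ∃ g : G, g ^ 5 * D.x * (g ^ 5)⁻¹ = D.x ^ 2 ∧ g ^ 4 * D.x = D.x * g ^ 4 := by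
  obtain ⟨g, hg⟩ := exists_conj_pow D (a := ZMod.unitOfCoprime 2 (by norm_num))
    (index_eq_one.mp hA ▸ mem_top _) (r := 2) rfl
  refine ⟨g, ?_, comm_of_conj_pow D.hx hg (by norm_num)⟩
  rw [conj_iter hg, pow_eq_pow_iff_modEq, D.hx]
  decide

omit hp in
theorem exists_act_five [Fact (Nat.Prime 5)] (D : Setup 5 G) (hA : D.A.index = 1)
    (hK : D.K = ⊥) : ∃ u, Act 5 4 2 D.x u := by
  obtain ⟨g, h1, h2⟩ := exists_conj_sq D hA
  refine ⟨g ^ 5, by norm_num, D.hx, ?_, by norm_num, h1, by decide⟩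
  rw [← pow_mul, mul_comm, pow_mul]
  exact orderOf_dvd_iff_pow_eq_one.mp (D.hx ▸ orderOf_dvd_of_mem_zpowers (mem_zpowers_of_K hK _ h2))

omit [Finite G] hp in
theorem act_of_inverts {f t : G} (hp : p.Prime) (h2 : p ≠ 2) (hf : orderOf f = p) (ht : t * t = 1)
    (h : t * f * t⁻¹ = f⁻¹) : Act p 2 (p - 1) f t := by
  have h3 := hp.two_le
  refine ⟨hp, hf, by rw [sq, ht], two_pos, h.trans (eq_inv_of_mul_eq_one_left ?_).symm, ?_⟩
  · rw [← pow_succ, Nat.sub_add_cancel hp.one_le, ← hf, pow_orderOf_eq_one]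
  · intro j hj h4
    interval_cases j
    · rfl
    · rw [pow_one, Nat.mod_eq_of_lt (by omega), Nat.mod_eq_of_lt (by omega)] at h4
      omega

omit [Finite G] hp in
theorem Act.sq_inverts {f u : G} (h : Act 5 4 2 f u) : u ^ 2 * f * (u ^ 2)⁻¹ = f⁻¹ := by
  rw [conj_iter h.cj]
  exact eq_inv_of_mul_eq_one_left (by rw [← pow_succ, ← pow_orderOf_eq_one f, h.hf]; rfl)

omit hp in
/-- A subgroup containing the Frobenius group of order twenty does not have order `660`. -/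
theorem card_ne_660 [Fact (Nat.Prime 5)] (D : Setup 5 G) {u : G} (h : Act 5 4 2 D.x u)
    (hN : Nat.card (normalizer (zpowers D.x : Set G)) ∣ 40) {L : Subgroup G} (hx : D.x ∈ L)
    (hu : u ∈ L) : 4 ∣ Nat.card L ∧ Nat.card L ≠ 660 := by
  refine ⟨h.orderOf_u ▸ L.orderOf_dvd_natCard hu, fun h0 => ?_⟩
  obtain ⟨n, h1, h2⟩ := card_eq_mul D hx
  have h3 := (card_dvd_of_le (inf_le_left : normalizer (zpowers D.x : Set G) ⊓ L ≤ _)).trans hN
  have h4 := card_dvd_of_le (le_inf h.sup_le_norm (sup_le (zpowers_le.mpr hx) (zpowers_le.mpr hu)))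
  rw [h.card_sup] at h4
  obtain ⟨m, hm⟩ := h4
  rw [hm] at h2 h3
  have h5 : m ≤ 2 := by have := Nat.le_of_dvd (by norm_num) h3; omega
  interval_cases m <;> omega

end Cfsg.Agent.H3
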