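import Cfsg.Agent.H3.Blk2

/-!
# Simple groups of order 95040: the principal blocks
-/

set_option autoImplicit false

namespace Cfsg.Agent.H3

open Finset Subgroup Cfsg.Agent.L0 Cfsg.Agent.H6 Cfsg.Agent.H6.Sieve
open scoped ComplexConjugate

theorem forall₂_mem {α β : Type*} {R : α → β → Prop} : ∀ {L : List α} {l : List β},
    List.Forall₂ R L l → ∀ b ∈ l, ∃ a ∈ L, R a b
  | _, _, .nil, _, h => absurd h List.not_mem_nil
  | _, _, .cons h1 h2, b, h => by
    rcases List.mem_cons.mp h with rfl | h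
    · exact ⟨_, List.mem_cons_self, h1⟩
    · obtain ⟨a, ha, h3⟩ := forall₂_mem h2 b h
      exact ⟨a, List.mem_cons_of_mem _ ha, h3⟩

section general

variable {G : Type*} [Group G] [Finite G] {p : ℕ} [hp : Fact p.Prime]

theorem sum_K_eq_zero (D : Setup p G) {χ : IrrCharacter G} (hχ : χ ∉ prinBlk p G) :
    ∑ k ∈ els D.K, χ.1 (k * D.x) = 0 := by
  classical
  have := Fintype.ofFinite G
  have h1 := H9.blkPart_prinBlk_eq_avg hp.out D.hK (irr_isClass χ)
    (D.xp_one ▸ D.isPPart_xp one_ne_zero : IsPPart p D.x D.x)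
  rw [blkPart_apply, sum_eq_zero fun ψ hψ => by
    rw [classInner_irr, if_neg fun h : χ = ψ => hχ (h ▸ hψ), zero_mul], eq_comm, mul_eq_zero] at h1
  rw [sum_els D.K fun k => χ.1 (k * D.x)]
  exact h1.resolve_left (inv_ne_zero (natCard_ne_zero _))

theorem isConj_of_orderOf (D : Setup p G) (hA : Nat.card D.A = p - 1) {z : G} (hz : orderOf z = p) :
    IsConj D.x z := by
  obtain ⟨i, hi, k, hk, h⟩ := D.exists_conj_of_dvd hz.symm.dvd
  have h1 := orderOf_eq_of_isConj h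
  rw [(D.K_comm hk i).orderOf_mul_eq_mul_orderOf_of_coprime (by
    rw [D.orderOf_xp hi]
    exact ((Nat.Prime.coprime_iff_not_dvd hp.out).mpr ((D.hK k).mp hk).2).symm),
    D.orderOf_xp hi, hz] at h1
  have h2 : k = 1 := orderOf_eq_one_iff.mp
    (Nat.eq_of_mul_eq_mul_right hp.out.pos (h1.symm.trans (one_mul p).symm))
  have h3 := D.card_A_mul_index
  rw [hA] at h3
  have h4 : D.A = ⊤ := index_eq_one.mp
    (Nat.eq_of_mul_eq_mul_left (Nat.sub_pos_of_lt hp.out.one_lt) (h3.trans (mul_one _).symm))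
  rw [h2, one_mul] at h
  refine IsConj.trans ?_ h.symm
  have := D.isConj_xp (a := Units.mk0 i hi) (h4 ▸ mem_top _) 1
  rwa [D.xp_one, mul_one] at this

theorem val_of_orderOf (D : Setup p G) (hA : Nat.card D.A = p - 1) (χ : IrrCharacter G) {z : G}
    (hz : orderOf z = p) : χ.1 z = χ.1 D.x :=
  (IsClassFunction.eq_of_isConj (irr_isClass χ) (isConj_of_orderOf D hA hz)).symm

theorem exists_int_x (D : Setup p G) (hA : Nat.card D.A = p - 1) (χ : IrrCharacter G) :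
    ∃ a : ℤ, χ.1 D.x = a ∧ (p : ℤ) ∣ a - deg χ := by
  obtain ⟨a, ha⟩ := IsGeneralizedCharacter.exists_int_of_isConj (irr_isGen χ) (g := D.x)
    fun k hk => isConj_of_orderOf D hA (by rw [hk.symm.orderOf_pow, D.hx])
  exact ⟨a, ha, IsGeneralizedCharacter.dvd_sub_one hp.out (irr_isGen χ) (k := 1)
    (by rw [pow_one, D.x_pow]) ha (one_eq rfl)⟩

omit hp in
theorem sq_le_of_mem {L : List (IrrCharacter G)} (hL : L.Nodup) (g : G) {l : List ℤ}
    (h : List.Forall₂ (fun (χ : IrrCharacter G) (a : ℤ) => χ.1 g = (a : ℂ)) L l) :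
    (l.map fun a => a * a).sum ≤ Nat.card (centralizer ({g} : Set G)) := by
  have h1 := sum_list_le hL g
  have h2 : (L.map fun χ => ‖χ.1 g‖ ^ 2).sum = ((l.map fun a => a * a).sum : ℤ) := by
    clear hL h1
    induction h with
    | nil => simp
    | cons h1 _ ih =>
      rw [List.map_cons, List.map_cons, List.sum_cons, List.sum_cons, ih, h1, Complex.norm_intCast,
        sq_abs]
      push_cast
      ring
  rw [h2] at h1
  exact_mod_cast h1

theorem exists_sg_of_mem {D : Setup p G} (B : Brauer D) {a : ℤ} (ha : a ∈ degs B)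
    (h : ¬ (p : ℤ) ∣ a + Nat.card D.A) : ∃ χ : IrrCharacter G, Sg p χ a.sign a.natAbs := by
  classical
  rcases Multiset.mem_cons.mp ha with rfl | ha
  · exact absurd B.dvd_f0_add h
  · obtain ⟨χ, h1, h2⟩ := Multiset.mem_map.mp ha
    exact ⟨χ, sg_S B (mem_of_mem_erase h1) h2⟩

end general

namespace M12

variable {G : Type*} [Group G] [Finite G] [IsSimpleGroup G] (h : Nat.card G = 95040)
  [Fact (Nat.Prime 11)] [Fact (Nat.Prime 5)]
include h

omit [Fact (Nat.Prime 11)] [Fact (Nat.Prime 5)] in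
theorem ncomm : ¬ IsMulCommutative G := not_isMulCommutative_of_card (by rw [h]; norm_num)

omit [Fact (Nat.Prime 5)] in
theorem sieve11 {D : Setup 11 G} (B : Brauer D) : ∃ l : List ℤ, (l : Multiset ℤ) = degs B ∧
    ((Nat.card D.A = 10 ∧ Nat.card D.K = 6 ∧ 45 ∈ l) ∨ (Nat.card D.A = 5 ∧ D.K = ⊥ ∧
      (-10 ∈ l ∨ (l.countP (fun x => x.natAbs = 12) ≤ 1 ∧
        ((∀ a ∈ l, a.natAbs ∉ [16, 24, 36, 96, 144]) ∨ [-27, -32, -32, -54, 144].Perm l ∨
          [-16, 45, -54, -120, 144].Perm l))))) := by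
  obtain ⟨l, h3, h4⟩ := elimOne_sound B (ncomm h) (s := 309) (by rw [h]; norm_num)
    (facs 309 2 95040 []) (fun _ e k l => !((e == 10 && k == 6 && decide (45 ∈ l)) ||
      (e == 5 && k == 1 && (decide (-10 ∈ l) || (decide (l.countP (fun x => x.natAbs = 12) ≤ 1) &&
        ((l.all fun a => decide (a.natAbs ∉ [16, 24, 36, 96, 144])) ||
          (List.isPerm [-27, -32, -32, -54, 144] l || List.isPerm [-16, 45, -54, -120, 144] l)))))))
    (by rw [h]; decide +kernel)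
  rw [Bool.not_eq_false'] at h4
  simp only [beq_iff_eq, Bool.and_eq_true, Bool.or_eq_true, List.isPerm_iff, List.all_eq_true,
    decide_eq_true_eq, and_assoc] at h4
  exact ⟨l, h3, h4.imp_right fun h4 => ⟨h4.1, card_eq_one.mp h4.2.1, h4.2.2⟩⟩

omit [Fact (Nat.Prime 11)] in
theorem sieve5 {D : Setup 5 G} (B : Brauer D) : ∃ l : List ℤ, (l : Multiset ℤ) = degs B ∧
    ((Nat.card D.A = 2 ∧ (Nat.card D.K % 2 = 0 ∨ Nat.card D.K = 9) ∧ [-12, 11].Perm l) ∨
      (Nat.card D.A = 4 ∧ (∃ a ∈ l, a.natAbs ∈ [16, 24, 36, 96, 144]) ∧ (Nat.card D.K = 12 ∨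
        (Nat.card D.K = 2 ∧ ((¬ ∀ a ∈ l, a.natAbs % 11 = 0 ∨ a.natAbs ∈ [16, 45, 54, 120, 144]) ∨
          [11, 16, 16, -44].Perm l ∨ [11, -44, -144, 176].Perm l ∨ [11, 66, 66, -144].Perm l ∨
          [16, 16, 66, -99].Perm l ∨ [66, -99, -144, 176].Perm l))))) := by
  obtain ⟨l, h3, h4⟩ := elimOne_sound B (ncomm h) (s := 309) (by rw [h]; norm_num)
    (facs 309 2 95040 []) (fun _ e k l => !(
      (e == 2 && (k % 2 == 0 || k == 9) && List.isPerm [-12, 11] l) ||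
      (e == 4 && (l.any fun a => decide (a.natAbs ∈ [16, 24, 36, 96, 144])) && (k == 12 ||
        (k == 2 &&
        (!(l.all fun a => a.natAbs % 11 == 0 || decide (a.natAbs ∈ [16, 45, 54, 120, 144])) ||
        (List.isPerm [11, 16, 16, -44] l || (List.isPerm [11, -44, -144, 176] l ||
        (List.isPerm [11, 66, 66, -144] l || (List.isPerm [16, 16, 66, -99] l ||
        List.isPerm [66, -99, -144, 176] l))))))))))
    (by rw [h]; decide +kernel)
  rw [Bool.not_eq_false'] at h4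
  simp only [beq_iff_eq, Bool.and_eq_true, Bool.or_eq_true, List.isPerm_iff, List.all_eq_true,
    List.any_eq_true, decide_eq_true_eq, and_assoc, Bool.not_eq_true', Bool.eq_false_iff,
    ne_eq] at h4
  exact ⟨l, h3, h4⟩

theorem not_six {D : Setup 11 G} (B : Brauer D) (hA : Nat.card D.A = 10) (hK : Nat.card D.K = 6)
    {l : List ℤ} (hl : (l : Multiset ℤ) = degs B) (h45 : 45 ∈ l) : False := by
  obtain ⟨L, hL⟩ := exists_bk1 B hA hl
  obtain ⟨χ, -, hχ⟩ := forall₂_mem hL.sg 45 h45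
  obtain ⟨f, hf, hf5⟩ := exists_mem_orderOf (H := normalizer (zpowers D.x : Set G)) (q := 5)
    (by norm_num) (by rw [D.card_N, hA, hK]; decide)
  obtain ⟨k, hk, hk2⟩ := exists_mem_orderOf (H := D.K) Nat.prime_two (by rw [hK]; decide)
  obtain ⟨y, hy, hy3⟩ := exists_mem_orderOf (H := D.K) Nat.prime_three (by rw [hK]; decide)
  obtain ⟨s, hs, h1⟩ := H9.exists_conj_fixed_of_not_dvd (p := 5) (P := zpowers f)
    (IsPGroup.of_card (n := 1) (by rw [Nat.card_zpowers, hf5, pow_one]))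
    {s | s ∈ D.K ∧ orderOf s = 2}
    (fun g hg x hx => ⟨H9.conj_mem_of_mem_normalizer (zpowers_le.mpr (D.mem_normalizer_K hf) hg)
      hx.1, (H9.orderOf_conj g x).trans hx.2⟩) (by
      have h1 : {s | s ∈ D.K ∧ orderOf s = 2} ⊆ (D.K : Set G) \ {1, y} := fun s hs =>
        ⟨hs.1, by rintro (rfl | rfl) <;> simp_all⟩
      have h2 := Set.ncard_le_ncard h1
      rw [Set.ncard_sdiff (by rintro s (rfl | rfl); exacts [D.K.one_mem, hy]),
        Set.ncard_pair (by rintro rfl; simp at hy3), ncard_subgroup, hK] at h2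
      have h3 := (Set.ncard_pos (s := {s | s ∈ D.K ∧ orderOf s = 2})).mpr ⟨k, hk, hk2⟩
      rw [Nat.card_coe_set_eq]
      omega)
  obtain ⟨a, ha, h2, h3, h4⟩ := invol_val (ncomm h) hχ.dg (by decide) hs.2
  have h5 := dvd_sub_of_comm (by norm_num) D.hx ((D.hK s).mp hs.1).1
    (hχ.val _ (dvd_orderOf_mul_K D hs.1)) ha
  have h6 := h1 f (mem_zpowers f)
  have h7 := dvd_sub_of_comm (a := 0) (by norm_num) hf5 h6.symm (by
    rw [Int.cast_zero]
    refine eq_zero_of_dvd_deg (p := 5) (by norm_num) (by rw [h]; decide)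
      (by rw [hχ.dg]; decide) ?_
    rw [(show Commute f s from h6).orderOf_mul_eq_mul_orderOf_of_coprime
      (by rw [hf5, hs.2]; decide), hf5]
    exact dvd_mul_right _ _) ha
  norm_num [sg_lit] at h2 h3 h4 h5
  omega

omit [Fact (Nat.Prime 11)] in
theorem not_nine {E : Setup 5 G} (hK : Nat.card E.K = 9) {d₁ d₂ : IrrCharacter G}
    {L : List (IrrCharacter G)} (hC : Bk2 5 E.x 2 d₁ d₂ (-12) L [11]) : False := by
  obtain ⟨θ, rfl, h1⟩ := forall₂_one hC.sg
  have h2 : θ ≠ irrOne G := fun h2 => by have := h1.dg; simp [h2, deg_irrOne] at this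
  have h3 := fx_of_const_ne (irr_isChar θ) (H := E.K) (c := (-4 : ℤ)) fun w hw hw1 => by
    obtain ⟨a, ha⟩ := exists_int_of_unique ((hC.mem θ).mpr (by simp)) (fun ψ h3 h4 => by
      have h5 := (hC.mem ψ).mp h3
      simp only [List.mem_cons, List.not_mem_nil, or_false] at h5
      rcases h5 with rfl | rfl | rfl | rfl
      · simp [deg_irrOne, h1.dg] at h4
      · simp [hC.ex.dg₁, h1.dg] at h4
      · simp [hC.ex.dg₂, h1.dg] at h4
      · rfl) w
    have h4 := abs_lt_deg (ncomm h) h2 hw1 ha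
    have h5 := dvd_sub_of_comm (by norm_num) E.hx ((E.hK w).mp hw).1
      (h1.val _ (dvd_orderOf_mul_K E hw)) ha
    have h6 := IsGeneralizedCharacter.dvd_sub_one Nat.prime_three (irr_isGen θ) (k := 2)
      (orderOf_dvd_iff_pow_eq_one.mp ((E.K.orderOf_dvd_natCard hw).trans (by rw [hK]; rfl))) ha (one_eq h1.dg)
    rw [h1.dg, abs_lt] at h4
    norm_num [sg_lit] at h4 h5 h6
    rw [ha, show a = -4 by omega]
  rw [hK, h1.one] at h3
  have h4 : ((9 * fx θ.1 E.K + 21 : ℕ) : ℂ) = 0 := by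
    norm_num at h3
    push_cast
    linear_combination h3
  exact absurd (Nat.cast_eq_zero.mp h4) (by omega)

omit [Fact (Nat.Prime 11)] in
theorem not_ten {E : Setup 5 G} (hK : 2 ∣ Nat.card E.K) {χ : IrrCharacter G} : deg χ ≠ 10 := by
  intro h1
  obtain ⟨k, hk, hk2⟩ := exists_mem_orderOf Nat.prime_two hK
  obtain ⟨a, ha, h2, h3, h4⟩ := invol_val (ncomm h) h1 (by decide) hk2
  have h5 := dvd_sub_of_comm (a := 0) (by norm_num) E.hx ((E.hK k).mp hk).1 (by
    rw [Int.cast_zero]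
    exact eq_zero_of_dvd_deg (p := 5) (by norm_num) E.not_sq_dvd (by rw [h1]; decide)
      (dvd_orderOf_mul_K E hk)) ha
  omega

omit [IsSimpleGroup G] in
theorem not_three {D : Setup 11 G} (hA : Nat.card D.A = 5) (hK : D.K = ⊥) {E : Setup 5 G}
    (hA' : Nat.card E.A = 4) {χ : IrrCharacter G} (h1 : Sg 11 χ (-1) 54) : ¬ 3 ∣ Nat.card E.K := by
  intro h3
  obtain ⟨y, hy, hy3⟩ := exists_mem_orderOf Nat.prime_three h3
  obtain ⟨a, ha, h4⟩ := exists_int_x E hA' χ
  obtain ⟨f, h5⟩ := exists_act_eleven D hA hK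
  have hχ := irr_isChar χ
  have h6 := ((E.hK y).mp hy).1
  have h7 := dvd_sub_of_comm (a := 0) Nat.prime_three hy3 h6.symm (by
    rw [Int.cast_zero]
    refine eq_zero_of_defect_zero Nat.prime_three (by rw [h, h1.dg]; decide) ?_
    rw [(show Commute y E.x from h6).orderOf_mul_eq_mul_orderOf_of_coprime
      (by rw [hy3, E.hx]; decide), hy3]
    exact dvd_mul_right _ _) ha
  have e1 := fx_prime hχ (by norm_num) D.hx fun g hg _ => h1.val g hg.symm.dvd
  have e2 := fx_prime hχ (by norm_num) h5.orderOf_u fun g hg _ =>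
    (val_of_orderOf E hA' χ hg).trans ha
  have e3 := h5.fx_eq hχ
  have e4 := fx_mono hχ (le_sup_left : zpowers D.x ≤ zpowers D.x ⊔ zpowers f)
  rw [h1.one] at e1 e2 e3
  have e5 : fx χ.1 (zpowers D.x) = 4 := by
    have : (fx χ.1 (zpowers D.x) : ℂ) = 4 := by push_cast at e1; linear_combination e1 / 11
    exact_mod_cast this
  have e6 : (5 * fx χ.1 (zpowers D.x ⊔ zpowers f) : ℤ) = 4 + 4 * a := by
    have : (5 * fx χ.1 (zpowers D.x ⊔ zpowers f) : ℂ) = 4 + 4 * a := by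
      rw [e5] at e3
      push_cast at e2 e3
      linear_combination e3 + e2
    exact_mod_cast this
  rw [h1.dg] at h4
  omega

theorem blocks (D : Setup 11 G) (E : Setup 5 G) : Nat.card D.A = 5 ∧ D.K = ⊥ ∧
    Nat.card E.A = 4 ∧ Nat.card E.K = 2 ∧ ∃ (c₁ c₂ : IrrCharacter G) (L M : List (IrrCharacter G)),
      Bk2 11 D.x 5 c₁ c₂ (-16) L [45, -54, -120, 144] ∧
      (Bk1 5 M [11, 16, 16, -44] ∨ Bk1 5 M [11, -44, -144, 176] ∨ Bk1 5 M [11, 66, 66, -144] ∨
        Bk1 5 M [16, 16, 66, -99] ∨ Bk1 5 M [66, -99, -144, 176]) := by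
  obtain ⟨B⟩ := D.nonempty_brauer
  obtain ⟨C⟩ := E.nonempty_brauer
  obtain ⟨l, hl, h1⟩ := sieve11 h B
  obtain ⟨m, hm, h2⟩ := sieve5 h C
  obtain ⟨hA, hK, h1⟩ := h1.resolve_left fun h1 => not_six h B h1.1 h1.2.1 hl h1.2.2
  have h3 : 2 ∣ Nat.card E.K := by
    rcases h2 with ⟨h2, h3 | h3, h4⟩ | ⟨-, -, h3 | ⟨h3, -⟩⟩
    · omega
    · obtain ⟨d₁, d₂, L, hC⟩ := exists_bk2 C h2 rfl ((Multiset.coe_eq_coe.mpr h4).trans hm)
        (by decide)
      exact (not_nine h h3 hC).elim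
    · omega
    · omega
  obtain ⟨h4, h1⟩ := h1.resolve_left fun h4 => by
    obtain ⟨χ, -, -, h5⟩ := exists_of_mem_degs B (hl ▸ Multiset.mem_coe.mpr h4)
    exact not_ten h h3 h5.symm
  have key : ∀ a ∈ m, a.natAbs % 11 = 0 ∨ ∃ b ∈ l, b.natAbs = a.natAbs := fun a ha => by
    obtain ⟨χ, -, h5, h6⟩ := exists_of_mem_degs C (hm ▸ Multiset.mem_coe.mpr ha)
    refine (em _).imp_right fun h7 => ?_
    obtain ⟨b, hb, h8⟩ := exists_mem_degs B (χ := χ) (by_contra fun h8 =>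
      h7 (Nat.mod_eq_zero_of_dvd (h6 ▸ D.dvd_deg_of_K_eq_bot hK h8))) h5
    exact ⟨b, Multiset.mem_coe.mp (hl ▸ hb), h8.trans h6.symm⟩
  obtain ⟨hA', ⟨a, ha, h5⟩, h2⟩ := h2.resolve_left fun ⟨h2, _, h5⟩ => by
    obtain ⟨d₁, d₂, L, hC⟩ := exists_bk2 C h2 rfl ((Multiset.coe_eq_coe.mpr h5).trans hm)
      (by decide)
    obtain ⟨b, hb, h6⟩ := (key (-12) (h5.subset (by simp))).resolve_left (by decide)
    obtain ⟨χ, -, h7, -, h8⟩ := exists_unique_deg B (d := 12) (by decide) (Or.inr fun h7 => by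
      have := B.dvd_f0_add
      rw [h7, hA] at this
      rcases B.hδ0 with h8 | h8 <;> rw [h8] at this <;> revert this <;> decide) (by
        rw [← hl, Multiset.coe_countP]
        exact le_antisymm h4 (List.countP_pos_iff.mpr ⟨b, hb, by simpa using h6⟩))
    have h9 : ∀ d, deg d = 12 → d = χ := fun d hd => h8 d (by_contra fun h9 =>
      absurd (D.dvd_deg_of_K_eq_bot hK h9) (by rw [hd]; decide)) (hd.trans h7.symm)
    have h10 := hC.nd
    rw [h9 d₁ hC.ex.dg₁, h9 d₂ hC.ex.dg₂] at h10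
    simp at h10
  replace h1 := h1.resolve_left fun h1 => by
    obtain ⟨b, hb, h6⟩ := (key a ha).resolve_left (by
      simp only [List.mem_cons, List.not_mem_nil, or_false] at h5
      omega)
    exact h1 b hb (h6 ▸ h5)
  obtain ⟨χ, hχ⟩ := exists_sg_of_mem B (a := -54) (by
    rw [← hl, Multiset.mem_coe]
    rcases h1 with h1 | h1 <;> exact h1.subset (by simp)) (by rw [hA]; decide)
  obtain ⟨hK', h2⟩ := h2.resolve_left fun h2 => not_three h hA hK hA' hχ (by rw [h2]; decide)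
  replace h1 := h1.resolve_left fun h1 => by
    obtain ⟨c₁, c₂, L, hB⟩ := exists_bk2 B hA rfl ((Multiset.coe_eq_coe.mpr h1).trans hl)
      (by decide)
    obtain ⟨χ₁, χ₂, χ₃, χ₄, rfl, k1, k2, -⟩ := forall₂_four hB.sg
    obtain ⟨a₁, ha₁, e1⟩ := exists_int_x E hA' c₁
    obtain ⟨a₂, ha₂, e2⟩ := exists_int_x E hA' χ₁
    obtain ⟨a₃, ha₃, e3⟩ := exists_int_x E hA' χ₂
    have h6 := sq_le_of_mem (L := [c₁, χ₁, χ₂]) (hB.nd.sublist (by simp)) E.x (l := [a₁, a₂, a₃])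
      (.cons ha₁ (.cons ha₂ (.cons ha₃ .nil)))
    rw [E.card_C, hK'] at h6
    rw [hB.ex.dg₁] at e1
    rw [k1.dg] at e2
    rw [k2.dg] at e3
    have h7 : ∀ a : ℤ, a % 5 = 2 → 4 ≤ a * a := fun a ha => by
      rcases (show a ≤ -3 ∨ 2 ≤ a by omega) with h | h <;> nlinarith
    have := h7 a₁ (by norm_num at e1; omega)
    have := h7 a₂ (by norm_num at e2; omega)
    have := h7 a₃ (by norm_num at e3; omega)
    norm_num at h6
    omega
  obtain ⟨c₁, c₂, L, hB⟩ := exists_bk2 B hA rfl ((Multiset.coe_eq_coe.mpr h1).trans hl)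
    (by decide)
  replace h2 := h2.resolve_left fun h2 => h2 fun a ha => (key a ha).imp_right fun ⟨b, hb, h6⟩ => by
    have h7 := h1.symm.subset hb
    rw [← h6]
    clear h6 hb
    revert b
    decide
  refine ⟨hA, hK, hA', hK', c₁, c₂, L, ?_⟩
  rcases h2 with h2 | h2 | h2 | h2 | h2 <;>
    obtain ⟨M, hC⟩ := exists_bk1 C hA' ((Multiset.coe_eq_coe.mpr h2).trans hm)
  exacts [⟨M, hB, .inl hC⟩, ⟨M, hB, .inr (.inl hC)⟩, ⟨M, hB, .inr (.inr (.inl hC))⟩,
    ⟨M, hB, .inr (.inr (.inr (.inl hC)))⟩, ⟨M, hB, .inr (.inr (.inr (.inr hC)))⟩]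

end M12

end Cfsg.Agent.H3
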