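import Cfsg.Agent.H3.M12b

/-!
# Simple groups of order 95040: the characters of degree eleven
-/

set_option autoImplicit false

namespace Cfsg.Agent.H3

open Finset Subgroup Cfsg.Agent.L0 Cfsg.Agent.H6 Cfsg.Agent.H6.Sieve
open scoped ComplexConjugate

namespace M12

variable {G : Type*} [Group G] [Finite G] [IsSimpleGroup G] (h : Nat.card G = 95040)
  [Fact (Nat.Prime 11)] [Fact (Nat.Prime 5)]
  {D : Setup 11 G} {E : Setup 5 G} {k : G} (c : Cen E k)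
include h c

omit c in
theorem card_C5 : Nat.card (centralizer ({E.x} : Set G)) = 10 := by
  obtain ⟨D⟩ := nonempty_setup (G := G) (p := 11) (by rw [h]; decide) (by rw [h]; decide)
  rw [E.card_C, (blocks h D E).2.2.2.1]

omit c in
theorem card_N5 : Nat.card (normalizer (zpowers E.x : Set G)) = 40 := by
  obtain ⟨D⟩ := nonempty_setup (G := G) (p := 11) (by rw [h]; decide) (by rw [h]; decide)
  rw [E.card_N, (blocks h D E).2.2.2.1, (blocks h D E).2.2.1]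

theorem val_f {χ : IrrCharacter G} {δ : ℤ} (hδ : δ = 1 ∨ δ = -1) (h1 : (5 : ℤ) ∣ δ - deg χ) :
    χ.1 E.x = δ := by
  obtain ⟨a, ha, h2⟩ := exists_int_x E c.hA χ
  have h3 := sq_le_of_mem (List.nodup_singleton χ) E.x (.cons ha .nil)
  rw [card_C5 h] at h3
  simp only [List.map_cons, List.map_nil, List.sum_cons, List.sum_nil, Nat.cast_ofNat,
    add_zero] at h3
  have h4 : a < 4 := by nlinarith
  have h5 : -4 < a := by nlinarith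
  rw [ha, show a = δ by omega]

theorem card_k {c₁ c₂ χ₁ χ₂ χ₃ χ₄ : IrrCharacter G}
    (hB : Bk2 11 D.x 5 c₁ c₂ (-16) [χ₁, χ₂, χ₃, χ₄] [45, -54, -120, 144]) :
    Nat.card (centralizer ({k} : Set G)) = 240 ∧ χ₂.1 k = 6 ∧ χ₄.1 k = c₁.1 k := by
  obtain ⟨d, b, e, n, hd, hb, he, hn, h1⟩ := inv11 h hB c.ord
  have hf : E.x ∈ centralizer ({k} : Set G) := mem_centralizer_singleton_iff.mpr c.comm.symm
  obtain ⟨m, h2, h3⟩ := card_eq_mul E hf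
  rw [inf_eq_left.mpr fun g hg => mem_centralizer_singleton_iff.mpr (c.norm hg), card_N5 h,
    hn] at h3
  rcases h1 with ⟨rfl, -⟩ | ⟨-, rfl, rfl, h1⟩ | ⟨-, -, h1⟩
  · have h4 := val_f h c (χ := c₁) (Or.inl rfl) (by rw [hB.ex.dg₁]; decide)
    by_cases h5 : c₁ ∈ prinBlk 5 G
    · exact absurd (dvd_sub_of_comm (by norm_num) E.hx c.comm ((c.val_in h5).trans h4) hd)
        (by decide)
    · exact absurd (dvd_sub_of_comm (a := -1) (by norm_num) E.hx c.comm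
        (by rw [c.val_out h5, h4]; simp) hd) (by decide)
  · exact ⟨by omega, hb, he.trans hd.symm⟩
  · omega

theorem val_k (hk : Nat.card (centralizer ({k} : Set G)) = 240) {ψ : IrrCharacter G} {δ : ℤ}
    {d : ℕ} (hd : deg ψ = d) (hv : ψ.1 (E.x * k) = δ) (h1 : d ≠ 1) : ∃ v : ℤ, ψ.1 k = v ∧
      4 ∣ d - v ∧ 5 ∣ δ - v ∧ v < d ∧ -16 < v ∧ v < 16 := by
  obtain ⟨v, hv', h2, -, h3⟩ := invol_val (ncomm h) hd h1 c.ord
  have h4 := sq_le_of_mem (List.nodup_singleton ψ) k (.cons hv' .nil)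
  rw [hk] at h4
  simp only [List.map_cons, List.map_nil, List.sum_cons, List.sum_nil, Nat.cast_ofNat,
    add_zero] at h4
  exact ⟨v, hv', h2, dvd_sub_of_comm (by norm_num) E.hx c.comm hv hv', h3, by nlinarith,
    by nlinarith⟩

theorem case5 (hk : Nat.card (centralizer ({k} : Set G)) = 240) {M : List (IrrCharacter G)}
    {e₁ e₂ e₃ e₄ : ℤ} (hC : Bk1 5 M [e₁, e₂, e₃, e₄]) (h1 : e₁.natAbs ≠ 1) (h2 : e₂.natAbs ≠ 1)
    (h3 : e₃.natAbs ≠ 1) (h4 : e₄.natAbs ≠ 1) : ∃ (ψ₁ ψ₂ ψ₃ ψ₄ : IrrCharacter G) (v₁ v₂ v₃ v₄ : ℤ),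
      M = [ψ₁, ψ₂, ψ₃, ψ₄] ∧ (ψ₃.1 k = v₃ ∧ ψ₄.1 k = v₄) ∧
      (4 ∣ e₁.natAbs - v₁ ∧ 5 ∣ e₁.sign - v₁ ∧ v₁ < e₁.natAbs ∧ -16 < v₁ ∧ v₁ < 16) ∧
      (4 ∣ e₂.natAbs - v₂ ∧ 5 ∣ e₂.sign - v₂ ∧ v₂ < e₂.natAbs ∧ -16 < v₂ ∧ v₂ < 16) ∧
      (4 ∣ e₃.natAbs - v₃ ∧ 5 ∣ e₃.sign - v₃ ∧ v₃ < e₃.natAbs ∧ -16 < v₃ ∧ v₃ < 16) ∧
      (4 ∣ e₄.natAbs - v₄ ∧ 5 ∣ e₄.sign - v₄ ∧ v₄ < e₄.natAbs ∧ -16 < v₄ ∧ v₄ < 16) ∧
      1 + e₁.sign * v₁ + e₂.sign * v₂ + e₃.sign * v₃ + e₄.sign * v₄ = 0 ∧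
      ((Cen.cn k E.x + Cen.cn k (E.x * k) : ℕ) : ℚ) = 33 / 10 * (1 +
        e₁.sign * (v₁ * v₁ / e₁.natAbs) + e₂.sign * (v₂ * v₂ / e₂.natAbs) +
        e₃.sign * (v₃ * v₃ / e₃.natAbs) + e₄.sign * (v₄ * v₄ / e₄.natAbs)) := by
  obtain ⟨ψ₁, ψ₂, ψ₃, ψ₄, rfl, k1, k2, k3, k4⟩ := forall₂_four hC.sg
  have h5 := dvd_orderOf_mul_K E c.mem
  obtain ⟨v₁, e1, f1⟩ := val_k h c hk k1.dg (k1.val _ h5) h1
  obtain ⟨v₂, e2, f2⟩ := val_k h c hk k2.dg (k2.val _ h5) h2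
  obtain ⟨v₃, e3, f3⟩ := val_k h c hk k3.dg (k3.val _ h5) h3
  obtain ⟨v₄, e4, f4⟩ := val_k h c hk k4.dg (k4.val _ h5) h4
  have l := hC.lin E (g := k) (by rw [c.ord]; decide)
  have q := c.cls_add hC c.sq
  simp only [List.zipWith_cons_cons, List.zipWith_nil_right, List.sum_cons, List.sum_nil,
    e1, e2, e3, e4, k1.one, k2.one, k3.one, k4.one, hk, h] at q l
  refine ⟨ψ₁, ψ₂, ψ₃, ψ₄, v₁, v₂, v₃, v₄, rfl, ⟨e3, e4⟩, f1, f2, f3, f4, ?_, ?_⟩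
  · have : (1 + e₁.sign * v₁ + e₂.sign * v₂ + e₃.sign * v₃ + e₄.sign * v₄ : ℂ) = 0 := by
      linear_combination l
    exact_mod_cast this
  · apply Rat.cast_injective (α := ℂ)
    push_cast at q ⊢
    linear_combination q / 57600

theorem block5 (hk : Nat.card (centralizer ({k} : Set G)) = 240) {M : List (IrrCharacter G)}
    (hC : Bk1 5 M [11, 16, 16, -44] ∨ Bk1 5 M [11, -44, -144, 176] ∨ Bk1 5 M [11, 66, 66, -144] ∨
        Bk1 5 M [16, 16, 66, -99] ∨ Bk1 5 M [66, -99, -144, 176]) :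
    ∃ ψ₁ ψ₂ ψ₃ ψ₄, Bk1 5 [ψ₁, ψ₂, ψ₃, ψ₄] [66, -99, -144, 176] ∧ ψ₃.1 k = 4 ∧ ψ₄.1 k = -4 ∧
      ∃ t, t * t = 1 ∧ t * E.x * t⁻¹ = E.x⁻¹ ∧ ¬ IsConj k t ∧ IsConj k (t * k) := by
  have h1 := c.cn_cases
  rcases hC with hC | hC | hC | hC | hC <;>
    obtain ⟨ψ₁, ψ₂, ψ₃, ψ₄, v₁, v₂, v₃, v₄, rfl, e, f1, f2, f3, f4, l, q⟩ :=
      case5 h c hk hC (by decide) (by decide) (by decide) (by decide) <;>
    norm_num [Int.sign_neg, sg_lit] at f1 f2 f3 f4 l <;>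
    simp only [Int.sign_neg, sg_lit] at q
  · omega
  · omega
  · obtain ⟨rfl, rfl, rfl, rfl⟩ : v₁ = -9 ∧ v₂ = 6 ∧ v₃ = 6 ∧ v₄ = 4 := by omega
    rcases h1 with h1 | h1 | ⟨h1, -⟩ <;> rw [h1] at q <;> norm_num at q
  · obtain ⟨rfl, rfl, rfl, rfl⟩ : v₁ = -4 ∧ v₂ = -4 ∧ v₃ = 6 ∧ v₄ = -1 := by omega
    rcases h1 with h1 | h1 | ⟨h1, -⟩ <;> rw [h1] at q <;> norm_num at q
  · obtain ⟨rfl, rfl, rfl, rfl⟩ : v₁ = 6 ∧ v₂ = -1 ∧ v₃ = 4 ∧ v₄ = -4 := by omega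
    refine ⟨ψ₁, ψ₂, ψ₃, ψ₄, hC, e.1, by rw [e.2]; simp, ?_⟩
    rcases h1 with h1 | h1 | ⟨-, h1⟩
    · rw [h1] at q; norm_num at q
    · rw [h1] at q; norm_num at q
    · exact h1

omit h c [Fact (Nat.Prime 5)] [IsSimpleGroup G] in
theorem eq_of_deg (hK : D.K = ⊥) {c₁ c₂ χ₁ χ₂ χ₃ χ₄ : IrrCharacter G}
    (hB : Bk2 11 D.x 5 c₁ c₂ (-16) [χ₁, χ₂, χ₃, χ₄] [45, -54, -120, 144]) {ψ : IrrCharacter G}
    (h1 : ¬ 11 ∣ deg ψ) : deg ψ = 1 ∧ ψ = irrOne G ∨ deg ψ = 16 ∧ (ψ = c₁ ∨ ψ = c₂) ∨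
      deg ψ = 45 ∧ ψ = χ₁ ∨ deg ψ = 54 ∧ ψ = χ₂ ∨ deg ψ = 120 ∧ ψ = χ₃ ∨ deg ψ = 144 ∧ ψ = χ₄ := by
  obtain ⟨_, _, _, _, h0, k1, k2, k3, k4⟩ := forall₂_four hB.sg
  obtain ⟨rfl, rfl, rfl, rfl⟩ : χ₁ = _ ∧ χ₂ = _ ∧ χ₃ = _ ∧ χ₄ = _ := by simpa using h0
  have h2 := mem_of_not_dvd hB.mem hK h1
  simp only [List.mem_cons, List.not_mem_nil, or_false] at h2
  rcases h2 with rfl | rfl | rfl | rfl | rfl | rfl | rfl
  · simp [deg_irrOne]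
  · simp [hB.ex.dg₁]
  · simp [hB.ex.dg₂]
  · simp [k1.dg]
  · simp [k2.dg]
  · simp [k3.dg]
  · simp [k4.dg]

omit h c in
/-- The known part of the character table. -/
structure Tab (D : Setup 11 G) (E : Setup 5 G) (k t : G) (c₁ c₂ χ₁ χ₂ χ₃ χ₄ ψ₁ ψ₂ ψ₄ α β :
    IrrCharacter G) : Prop where
  hA : Nat.card D.A = 5
  hK : D.K = ⊥
  cen : Cen E k
  hB : Bk2 11 D.x 5 c₁ c₂ (-16) [χ₁, χ₂, χ₃, χ₄] [45, -54, -120, 144]
  hC : Bk1 5 [ψ₁, ψ₂, χ₄, ψ₄] [66, -99, -144, 176]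
  s₁ : Sg 11 χ₁ 1 45
  s₂ : Sg 11 χ₂ (-1) 54
  s₃ : Sg 11 χ₃ (-1) 120
  s₄ : Sg 11 χ₄ 1 144
  r₁ : Sg 5 ψ₁ 1 66
  r₂ : Sg 5 ψ₂ (-1) 99
  r₃ : Sg 5 χ₄ (-1) 144
  r₄ : Sg 5 ψ₄ 1 176
  ck : Nat.card (centralizer ({k} : Set G)) = 240
  k₁ : c₁.1 k = 4
  k₂ : χ₂.1 k = 6
  k₃ : χ₄.1 k = 4
  k₄ : ψ₄.1 k = -4
  tt : orderOf t = 2
  tf : t * E.x * t⁻¹ = E.x⁻¹
  tk : IsConj k (t * k)
  ct : Nat.card (centralizer ({t} : Set G)) = 192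
  t₁ : c₁.1 t = 0
  t₂ : χ₂.1 t = 6
  ne : α ≠ β
  dα : deg α = 11
  dβ : deg β = 11
  out : ∀ χ, χ ∉ [c₁, c₂, χ₂, α, β] → χ ∉ prinBlk 5 G → χ.1 E.x = 0
  tα : α.1 t = 3
  tβ : β.1 t = 3

omit h c [Fact (Nat.Prime 11)] [IsSimpleGroup G] in
theorem not_mem5 {ψ₁ ψ₂ ψ₃ ψ₄ : IrrCharacter G} (hC : Bk1 5 [ψ₁, ψ₂, ψ₃, ψ₄] [66, -99, -144, 176])
    {χ : IrrCharacter G} (h1 : deg χ ∉ [1, 66, 99, 144, 176]) : χ ∉ prinBlk 5 G := fun h2 => by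
  obtain ⟨_, _, _, _, h0, k1, k2, k3, k4⟩ := forall₂_four hC.sg
  obtain ⟨rfl, rfl, rfl, rfl⟩ : ψ₁ = _ ∧ ψ₂ = _ ∧ ψ₃ = _ ∧ ψ₄ = _ := by simpa using h0
  have h3 := (hC.mem χ).mp h2
  simp only [List.mem_cons, List.not_mem_nil, or_false] at h3
  rcases h3 with rfl | rfl | rfl | rfl | rfl
  · simp [deg_irrOne] at h1
  · simp [k1.dg] at h1
  · simp [k2.dg] at h1
  · simp [k3.dg] at h1
  · simp [k4.dg] at h1

omit h c [Fact (Nat.Prime 11)] [Fact (Nat.Prime 5)] [IsSimpleGroup G] [Finite G] [Group G] in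
theorem deg_cases {d : ℕ} {a : ℤ} (h1 : d ∣ 95040) (h2 : 11 ∣ d) (h3 : d ^ 2 ≤ 95040)
    (h4 : a * a = 1) (h5 : 5 ∣ a - d) : a * d ∈ [11, -44, 66, -99, 176, -264] := by
  obtain ⟨m, rfl⟩ := h2
  have h6 : m < 29 := by nlinarith
  rcases Int.eq_one_or_neg_one_of_mul_eq_one h4 with rfl | rfl <;> interval_cases m <;>
    first | decide | (exfalso; revert h1 h5; decide)

omit c in
theorem exists_tab (D : Setup 11 G) (E : Setup 5 G) :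
    ∃ k t c₁ c₂ χ₁ χ₂ χ₃ χ₄ ψ₁ ψ₂ ψ₄ α β, Tab D E k t c₁ c₂ χ₁ χ₂ χ₃ χ₄ ψ₁ ψ₂ ψ₄ α β := by
  classical
  obtain ⟨k, c⟩ := exists_cen h E
  obtain ⟨hA, hK, -, -, c₁, c₂, L, M, hB, hC⟩ := blocks h D E
  obtain ⟨χ₁, χ₂, χ₃, χ₄, rfl, s₁, s₂, s₃, s₄⟩ := forall₂_four hB.sg
  obtain ⟨ck, k₂, k₃⟩ := card_k h c hB
  obtain ⟨ψ₁, ψ₂, ψ₃, ψ₄, hC, k₅, k₄, t, ht, tf, nt, tk⟩ := block5 h c ck hC
  obtain ⟨_, _, _, _, h0, r₁, r₂, r₃, r₄⟩ := forall₂_four hC.sg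
  obtain ⟨rfl, rfl, rfl, rfl⟩ : ψ₁ = _ ∧ ψ₂ = _ ∧ ψ₃ = _ ∧ ψ₄ = _ := by simpa using h0
  obtain rfl : ψ₃ = χ₄ := by
    simpa [r₃.dg] using eq_of_deg hK hB (ψ := ψ₃) (by rw [r₃.dg]; decide)
  have tt : orderOf t = 2 := H9.orderOf_two_of (by
    rintro rfl
    have h1 : E.x ^ 2 = 1 := by
      rw [sq, ← eq_inv_iff_mul_eq_one]; simpa using tf
    exact absurd (E.hx ▸ orderOf_dvd_of_pow_eq_one h1) (by decide)) ht
  obtain ⟨d, b, e, n, t₁, t₂, -, ct, h1⟩ := inv11 h hB tt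
  have h2 : ¬ 5 ∣ n := fun h2 => nt (c.isConj tt (ct ▸ h2))
  obtain ⟨rfl, rfl, rfl⟩ : d = 0 ∧ b = 6 ∧ n = 192 := by omega
  choose a ha h3 using exists_int_x E c.hA
  have f1 := val_f h c (χ := c₁) (Or.inl rfl) (by rw [hB.ex.dg₁]; decide)
  have f2 := val_f h c (χ := c₂) (Or.inl rfl) (by rw [hB.ex.dg₂]; decide)
  have f3 := val_f h c (χ := χ₂) (Or.inr rfl) (by rw [s₂.dg]; decide)
  have n1 := not_mem5 hC (χ := c₁) (by rw [hB.ex.dg₁]; decide)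
  have n2 := not_mem5 hC (χ := c₂) (by rw [hB.ex.dg₂]; decide)
  have n3 := not_mem5 hC (χ := χ₂) (by rw [s₂.dg]; decide)
  have h4 : [c₁, c₂, χ₂].Nodup := hB.nd.sublist (by simp)
  have h5 : ([c₁, c₂, χ₂] ++ [irrOne G, ψ₁, ψ₂, ψ₃, ψ₄]).Nodup :=
    List.Nodup.append h4 hC.nd fun χ h5 h6 => by
      have h7 := (hC.mem χ).mpr h6
      simp only [List.mem_cons, List.not_mem_nil, or_false] at h5
      rcases h5 with rfl | rfl | rfl <;> contradiction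
  have h6 : ∑ χ ∈ univ \ ([c₁, c₂, χ₂] ++ [irrOne G, ψ₁, ψ₂, ψ₃, ψ₄]).toFinset, a χ * a χ = 2 := by
    have h6 := sum_irr_mul_conj E.x E.x
    have h7 := E.hx.symm.dvd
    rw [if_pos (IsConj.refl _), card_C5 h, ← sum_sdiff (subset_univ
      ([c₁, c₂, χ₂] ++ [irrOne G, ψ₁, ψ₂, ψ₃, ψ₄]).toFinset), List.sum_toFinset _ h5] at h6
    simp only [List.map_append, List.map_cons, List.map_nil, List.sum_append, List.sum_cons,
      List.sum_nil, f1, f2, f3, r₁.val _ h7, r₂.val _ h7, r₃.val _ h7, r₄.val _ h7, irrOne_val,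
      Pi.one_apply, map_intCast, map_one] at h6
    simp only [ha, map_intCast] at h6
    apply Int.cast_injective (α := ℂ)
    push_cast
    norm_num [Int.sign_neg, sg_lit] at h6 ⊢
    linear_combination h6
  obtain ⟨α, hα, β, hβ, ne, a1, a2, h7⟩ := exists_two_of_sq _ _ h6
  simp only [mem_sdiff, mem_univ, true_and, List.mem_toFinset, List.mem_append, not_or,
    ← hC.mem] at hα hβ h7
  have out : ∀ χ, χ ∉ [c₁, c₂, χ₂, α, β] → χ ∉ prinBlk 5 G → χ.1 E.x = 0 := fun χ h8 h9 => by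
    simp only [List.mem_cons, List.not_mem_nil, or_false, not_or] at h8
    rw [ha, h7 χ ⟨by simp [h8], h9⟩ h8.2.2.2.1 h8.2.2.2.2, Int.cast_zero]
  have h8 : [c₁, c₂, χ₂, α, β].Nodup := List.Nodup.append h4 (l₂ := [α, β]) (by simp [ne])
    fun χ h8 h9 => by
      simp only [List.mem_cons, List.not_mem_nil, or_false] at h9
      rcases h9 with rfl | rfl
      exacts [hα.1 h8, hβ.1 h8]
  have h9 : ∀ χ ∈ [c₁, c₂, χ₂, α, β], χ ∉ prinBlk 5 G := by simp [n1, n2, n3, hα.2, hβ.2]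
  have h10 : ∀ γ, γ ∉ [c₁, c₂, χ₂] ∧ γ ∉ prinBlk 5 G → a γ * a γ = 1 →
      a γ * deg γ ∈ [11, -44, 66, -99, 176, -264] := fun γ h10 h11 => by
    refine deg_cases (h ▸ deg_dvd γ) (by_contra fun h12 => ?_) (h ▸ sum_deg_sq (G := G) ▸
      single_le_sum (f := fun χ => deg χ ^ 2) (fun _ _ => Nat.zero_le _) (mem_univ γ)) h11 (h3 γ)
    have h13 := h3 γ
    rcases eq_of_deg hK hB h12 with ⟨-, rfl⟩ | ⟨-, rfl | rfl⟩ | ⟨h14, -⟩ | ⟨-, rfl⟩ | ⟨h14, -⟩ |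
      ⟨-, rfl⟩
    · exact h10.2 (irrOne_mem_prinBlk (by norm_num))
    · simp at h10
    · simp at h10
    · rw [h14] at h13
      rcases Int.eq_one_or_neg_one_of_mul_eq_one h11 with h15 | h15 <;> omega
    · simp at h10
    · rw [h14] at h13
      rcases Int.eq_one_or_neg_one_of_mul_eq_one h11 with h15 | h15 <;> omega
    · exact h10.2 ((hC.mem _).mpr (by simp))
  have l1 := Cen.lin_out h8 h9 out (g := 1) Setup.one_not_dvd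
  have l2 := Cen.lin_out h8 h9 out (g := t) (by rw [tt]; decide)
  have q := c.cls_sub h8 h9 out ht
  obtain ⟨q1, q2⟩ := c.cn_eq ht tf t
  have h11 : ¬ IsConj t (t * k) := fun h11 => nt (tk.trans h11.symm)
  rw [if_pos (IsConj.refl t), if_neg h11] at q1
  rw [if_neg fun h => h11 h.2] at q2
  obtain ⟨x, hx⟩ := exists_int_invol α ht
  obtain ⟨y, hy⟩ := exists_int_invol β ht
  have h12 := sq_le_of_mem (L := [α, β]) (by simp [ne]) t (.cons hx (.cons hy .nil))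
  simp only [List.map_cons, List.map_nil, List.sum_cons, List.sum_nil, f1, f2, f3, q1, q2, ct, h,
    hB.ex.reg t (by rw [tt]; decide), t₁, t₂, hx, hy, ha α, ha β, deg_eq, hB.ex.dg₁, hB.ex.dg₂,
    s₂.dg, map_intCast] at l1 l2 q h12
  have l1' : a α * deg α + a β * deg β = 22 := by
    apply Int.cast_injective (α := ℂ)
    push_cast
    norm_num at l1
    linear_combination l1
  have l2' : a α * x + a β * y = 6 := by
    apply Int.cast_injective (α := ℂ)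
    push_cast
    norm_num at l2
    linear_combination l2
  have q' : 11 * (a α * (x * x) * deg β + a β * (y * y) * deg α) = 18 * deg α * deg β := by
    apply Int.cast_injective (α := ℂ)
    have i1 : (deg α : ℂ) ≠ 0 := Nat.cast_ne_zero.mpr (deg_pos α).ne'
    have i2 : (deg β : ℂ) ≠ 0 := Nat.cast_ne_zero.mpr (deg_pos β).ne'
    push_cast
    norm_num at q
    field_simp at q
    linear_combination -q / 51840
  have h13 := h10 α hα a1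
  have h14 := h10 β hβ a2
  have h15 : deg α = 11 ∧ deg β = 11 ∧ x = 3 ∧ y = 3 := by
    simp only [List.mem_cons, List.not_mem_nil, or_false] at h13 h14
    rcases Int.eq_one_or_neg_one_of_mul_eq_one a1 with h15 | h15 <;>
      rcases Int.eq_one_or_neg_one_of_mul_eq_one a2 with h16 | h16 <;>
      rw [h15, h16] at l1' l2' q' <;> rw [h15] at h13 <;> rw [h16] at h14
    · obtain ⟨h17, h18⟩ : deg α = 11 ∧ deg β = 11 := by omega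
      rw [h17, h18] at q'
      obtain rfl : x = 6 - y := by omega
      have : y = 3 := by push_cast at q'; nlinarith [sq_nonneg (y - 3)]
      omega
    · obtain ⟨h17, h18⟩ : deg α = 66 ∧ deg β = 44 := by omega
      rw [h17, h18] at q'
      obtain rfl : x = 6 + y := by omega
      have : y = 12 := by push_cast at q'; nlinarith [sq_nonneg (y - 12)]
      subst this
      omega
    · obtain ⟨h17, h18⟩ : deg α = 44 ∧ deg β = 66 := by omega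
      rw [h17, h18] at q'
      obtain rfl : y = 6 + x := by omega
      have : x = 12 := by push_cast at q'; nlinarith [sq_nonneg (x - 12)]
      subst this
      omega
    · omega
  exact ⟨k, t, c₁, c₂, χ₁, χ₂, χ₃, ψ₃, ψ₁, ψ₂, ψ₄, α, β, hA, hK, c, hB, hC, s₁, s₂, s₃, s₄, r₁, r₂,
    r₃, r₄, ck, k₃.symm.trans k₅, k₂, k₅, k₄, tt, tf, tk, ct, by simp [t₁], by simp [t₂], ne,
    h15.1, h15.2.1, out, by simp [hx, h15.2.2.1], by simp [hy, h15.2.2.2]⟩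

end M12

end Cfsg.Agent.H3
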