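import Cfsg.Agent.H3.M12c
import Cfsg.Agent.H3.Perm12

/-!
# Simple groups of order 95040: the subgroup of index twelve
-/

set_option autoImplicit false

namespace Cfsg.Agent.H3

open Finset Subgroup Cfsg.Agent.L0 Cfsg.Agent.H6 Cfsg.Agent.H6.Sieve
open scoped ComplexConjugate

section general

variable {G : Type*} [Group G] [Finite G] {χ : G → ℂ}

theorem exists_gauss (hG : commutator G = ⊤) (hχ : IsCharacter G χ) {g : G} (hg : g ^ 4 = 1)
    {d b : ℤ} (h1 : χ 1 = d) (h2 : χ (g ^ 2) = b) : ∃ x y : ℤ, ‖χ g‖ ^ 2 = (x * x + y * y : ℤ) ∧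
      4 ∣ d + b - 2 * x ∧ 4 ∣ d - b - 2 * y ∧ 8 ∣ 3 * d - b - 2 * x - 2 * y := by
  obtain ⟨a', b', c, e, h4, h5, h6, h7⟩ := exists_four hG hχ hg
  have h8 : d = a' + b' + c + e := by
    have : (d : ℂ) = a' + b' + c + e := by rw [← h1, h4]
    exact_mod_cast this
  have h9 : b = a' + b' - c - e := by
    have : (b : ℂ) = a' + b' - c - e := by rw [← h2, h6]
    exact_mod_cast this
  refine ⟨a' - b', c - e, ?_, by omega, by omega, by omega⟩
  rw [h5, Complex.sq_norm, Complex.normSq_apply]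
  simp

theorem one_le_norm_sq (hG : commutator G = ⊤) (hχ : IsCharacter G χ) {g : G} (hg : g ^ 4 = 1)
    {d : ℤ} (h1 : χ 1 = d) (hd : d % 2 = 1) : 1 ≤ ‖χ g‖ ^ 2 := by
  obtain ⟨b, hb⟩ := IsGeneralizedCharacter.exists_int_of_sq_eq_one (IsCharacter.isGeneralized hχ)
    (t := g ^ 2) (by rw [← pow_mul, hg])
  obtain ⟨x, y, h2, h3, h4, -⟩ := exists_gauss hG hχ hg h1 hb
  rw [h2]
  have : 1 ≤ x * x + y * y := by
    rcases (show x ≠ 0 ∨ y ≠ 0 by omega) with h | h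
    · nlinarith [mul_self_pos.mpr h, mul_self_nonneg y]
    · nlinarith [mul_self_pos.mpr h, mul_self_nonneg x]
  exact_mod_cast this

theorem four_le_norm_sq (hG : commutator G = ⊤) (hχ : IsCharacter G χ) {g : G} (hg : g ^ 4 = 1)
    {d b : ℤ} (h1 : χ 1 = d) (hb : χ (g ^ 2) = b) (hd : d % 2 = 0) (h : (d + b) % 8 = 4) :
    4 ≤ ‖χ g‖ ^ 2 := by
  obtain ⟨x, y, h2, h3, h4, h5⟩ := exists_gauss hG hχ hg h1 hb
  rw [h2]
  have : 4 ≤ x * x + y * y := by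
    rcases (show x ≤ -2 ∨ 2 ≤ x ∨ y ≤ -2 ∨ 2 ≤ y by omega) with h | h | h | h <;>
      nlinarith [mul_self_nonneg y, mul_self_nonneg x]
  exact_mod_cast this

theorem real_of_symSq {χ : IrrCharacter G} [Fintype G]
    (h : classInner (fun g => (χ.1 g ^ 2 + χ.1 (g ^ 2)) / 2) 1 ≠ 0) (g : G) :
    conj (χ.1 g) = χ.1 g := by
  by_contra h1
  have h2 : ¬ ∀ g, conj (χ.1 g) = χ.1 g := fun h2 => h1 (h2 g)
  rw [classInner_symSq_one, IsIrrCharacter.fsInd_of_not_real χ.2 h2,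
    IsIrrCharacter.classInner_of_ne χ.2 (IsIrrCharacter.conj χ.2)
      fun h3 => h2 fun g => (congrFun h3 g).symm] at h
  simp at h

end general

namespace M12

variable {G : Type*} [Group G] [Finite G] [IsSimpleGroup G] (h : Nat.card G = 95040)
  [Fact (Nat.Prime 11)] [Fact (Nat.Prime 5)]
  {D : Setup 11 G} {E : Setup 5 G} {k t : G} {c₁ c₂ χ₁ χ₂ χ₃ χ₄ ψ₁ ψ₂ ψ₄ α β : IrrCharacter G}
  (T : Tab D E k t c₁ c₂ χ₁ χ₂ χ₃ χ₄ ψ₁ ψ₂ ψ₄ α β)
include h T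

omit h [IsSimpleGroup G] in
theorem Tab.nd : [irrOne G, c₁, c₂, χ₁, χ₂, χ₃, χ₄, ψ₁, ψ₂, ψ₄, α, β].Nodup := by
  have h1 : c₁ ≠ c₂ := by
    have := T.hB.nd
    simp only [List.nodup_cons, List.mem_cons, not_or] at this
    exact this.2.1.1
  have h2 : [irrOne G, c₁, c₂, χ₁, χ₂, χ₃, χ₄, ψ₁, ψ₂, ψ₄, α, β].Pairwise
      fun a b => deg a ≠ deg b ∨ a ≠ b := by
    simp [deg_irrOne, T.hB.ex.dg₁, T.hB.ex.dg₂, T.s₁.dg, T.s₂.dg, T.s₃.dg, T.s₄.dg, T.r₁.dg,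
      T.r₂.dg, T.r₄.dg, T.dα, T.dβ, T.ne, h1]
  exact h2.imp fun h3 h4 => h3.elim (fun h3 => h3 (congrArg deg h4)) fun h3 => h3 h4

theorem Tab.val5 : c₁.1 E.x = 1 ∧ c₂.1 E.x = 1 ∧ χ₂.1 E.x = -1 ∧ α.1 E.x = 1 ∧ β.1 E.x = 1 :=
  ⟨by simpa using val_f h T.cen (χ := c₁) (Or.inl rfl) (by rw [T.hB.ex.dg₁]; decide),
    by simpa using val_f h T.cen (χ := c₂) (Or.inl rfl) (by rw [T.hB.ex.dg₂]; decide),
    by simpa using val_f h T.cen (χ := χ₂) (Or.inr rfl) (by rw [T.s₂.dg]; decide),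
    by simpa using val_f h T.cen (χ := α) (Or.inl rfl) (by rw [T.dα]; decide),
    by simpa using val_f h T.cen (χ := β) (Or.inl rfl) (by rw [T.dβ]; decide)⟩

omit h [IsSimpleGroup G] in
theorem Tab.out5 : ∀ χ ∈ [c₁, c₂, χ₂, α, β], χ ∉ prinBlk 5 G := by
  simp only [List.mem_cons, List.not_mem_nil, or_false]
  rintro χ (rfl | rfl | rfl | rfl | rfl) <;> refine not_mem5 T.hC ?_
  · rw [T.hB.ex.dg₁]; decide
  · rw [T.hB.ex.dg₂]; decide
  · rw [T.s₂.dg]; decide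
  · rw [T.dα]; decide
  · rw [T.dβ]; decide

theorem Tab.ne_ten : ψ₁.1 t ≠ 10 := fun h1 => by
  have ht := H9.mul_self_of_orderOf_two T.tt
  obtain ⟨x, hx⟩ := exists_int_invol ψ₂ ht
  obtain ⟨y, hy⟩ := exists_int_invol χ₄ ht
  obtain ⟨z, hz⟩ := exists_int_invol ψ₄ ht
  have h2 := (centralizer ({t} : Set G)).index_mul_card
  have h3 := deg_dvd_index_mul hy
  have h4 := deg_dvd_index_mul hz
  have h5 := sq_le_of_mem (L := [χ₄, ψ₁, ψ₂, ψ₄]) (T.nd.sublist (by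
    repeat' first | apply List.Sublist.cons_cons | apply List.Sublist.cons | exact .slnil)) t
    (l := [y, 10, x, z])
    (.cons hy (.cons (h1.trans (by simp)) (.cons hx (.cons hz .nil))))
  have l := T.hC.lin E (g := t) (by rw [T.tt]; decide)
  rw [T.ct, h] at h2
  rw [show (centralizer ({t} : Set G)).index = 495 by omega] at h3 h4
  rw [T.s₄.dg] at h3
  rw [T.r₄.dg] at h4
  simp only [List.zipWith_cons_cons, List.zipWith_nil_right, List.sum_cons, List.sum_nil,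
    List.map_cons, List.map_nil, T.ct, h1, hx, hy, hz] at l h5
  have l' : x + y - z = 11 := by
    apply Int.cast_injective (α := ℂ)
    push_cast
    norm_num [Int.sign_neg, sg_lit] at l
    linear_combination -l
  push_cast at h3 h4 h5
  have h6 : ∀ y : ℤ, y * y ≤ 92 → 16 ∣ y → y = 0 := fun y h6 h7 => by
    have : y < 16 := by nlinarith
    have : -16 < y := by nlinarith
    omega
  obtain rfl := h6 y (by nlinarith [mul_self_nonneg x, mul_self_nonneg z]) (by omega)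
  obtain rfl := h6 z (by nlinarith [mul_self_nonneg x]) (by omega)
  obtain rfl : x = 11 := by omega
  omega

theorem Tab.symSq {χ : IrrCharacter G} (hχ : χ = α ∨ χ = β) : (∀ g, conj (χ.1 g) = χ.1 g) ∧
    ∃ γ, (γ = α ∨ γ = β) ∧ ∀ g, (χ.1 g ^ 2 + χ.1 (g ^ 2)) / 2 = 1 + χ₂.1 g + γ.1 g := by
  classical
  have := Fintype.ofFinite G
  obtain ⟨n, hn, hS⟩ := IsCharacter.exists_eq_sum_nsmul (IsCharacter.symSq (irr_isChar χ))
  replace hS : ∀ g, (χ.1 g ^ 2 + χ.1 (g ^ 2)) / 2 = ∑ ψ, (n ψ : ℂ) * ψ.1 g := fun g => by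
    simpa using congrFun hS g
  obtain ⟨f1, f2, f3, f4, f5⟩ := T.val5 h
  have c := T.cen
  have o5 := T.out5
  simp only [List.mem_cons, List.not_mem_nil, or_false, forall_eq_or_imp, forall_eq] at o5
  obtain ⟨dχ, fχ, tχ, oχ⟩ : deg χ = 11 ∧ χ.1 E.x = 1 ∧ χ.1 t = 3 ∧ χ ∉ prinBlk 5 G := by
    rcases hχ with rfl | rfl
    exacts [⟨T.dα, f4, T.tα, o5.2.2.2.1⟩, ⟨T.dβ, f5, T.tβ, o5.2.2.2.2⟩]
  have h1 : χ.1 (E.x ^ 2) = 1 := (val_of_orderOf E c.hA χ (by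
    rw [Nat.Coprime.orderOf_pow (by rw [E.hx]; decide), E.hx])).trans fχ
  have h2 : ∀ ψ, ψ ∉ [irrOne G, c₁, c₂, χ₂, χ₄, ψ₁, ψ₂, ψ₄, α, β] →
      ψ ∉ prinBlk 5 G ∧ ψ.1 E.x = 0 := fun ψ h2 => by
    simp only [List.mem_cons, List.not_mem_nil, or_false, not_or] at h2
    have h3 : ψ ∉ prinBlk 5 G := by simp [T.hC.mem, h2]
    exact ⟨h3, T.out ψ (by simp [h2]) h3⟩
  have h3 := T.nd.sublist (l₁ := [irrOne G, c₁, c₂, χ₂, χ₄, ψ₁, ψ₂, ψ₄, α, β]) (by simp)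
  have h4 := E.hx.symm.dvd
  have h5 := dvd_orderOf_mul_K E c.mem
  have e1 := hS E.x
  have e2 := hS (E.x * k)
  rw [sum_list_eq h3 fun ψ hψ => by rw [(h2 ψ hψ).2, mul_zero]] at e1
  rw [sum_list_eq h3 fun ψ hψ => by rw [c.val_out (h2 ψ hψ).1, (h2 ψ hψ).2, neg_zero, mul_zero],
    (show Commute E.x k from c.comm.symm).mul_pow, sq k, c.sq, mul_one] at e2
  have h6 : ∀ i : ℕ, ¬ 11 ∣ i → 11 ∣ orderOf (D.x ^ i) := fun i hi => by
    rw [Nat.Coprime.orderOf_pow (by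
      rw [D.hx]; exact (Nat.Prime.coprime_iff_not_dvd (by norm_num)).mpr hi), D.hx]
  have h7 : ∀ g, 11 ∣ orderOf g → χ.1 g = 0 := fun g hg =>
    eq_zero_of_dvd_deg (p := 11) (by norm_num) D.not_sq_dvd (by rw [dχ]) hg
  have e3 : ∑ ψ, (n ψ : ℂ) * (∑ i ∈ range 11, ψ.1 (D.x ^ i) - ψ.1 1) = 0 := by
    simp only [mul_sub, sum_sub_distrib, mul_sum]
    rw [sum_comm, sum_eq_single 0 (fun i hi h8 => ?_) (by simp), pow_zero, sub_self]
    rw [mem_range] at hi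
    rw [← hS, ← pow_mul, h7 _ (h6 i (by omega)), h7 _ (h6 _ (by omega))]
    simp
  rw [sum_list_eq T.hB.nd fun ψ hψ => by
    rw [Sg.sum_pow (δ := 0) ⟨rfl, fun g hg => by simpa using vanish T.hB.mem T.hK hψ hg⟩ D.hx,
      deg_eq]
    simp] at e3
  have e4 : ∑ ψ, n ψ * deg ψ = 66 := by
    have := hS 1
    simp only [one_pow, deg_eq, dχ] at this
    apply Nat.cast_injective (R := ℂ)
    push_cast
    rw [← this]
    norm_num
  rw [← sum_sdiff (subset_univ [irrOne G, c₁, c₂, χ₁, χ₂, χ₃, χ₄, ψ₁, ψ₂, ψ₄, α, β].toFinset),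
    List.sum_toFinset _ T.nd] at e4
  simp only [List.map_cons, List.map_nil, List.sum_cons, List.sum_nil, irrOne_val, Pi.one_apply,
    c.val_out o5.1, c.val_out o5.2.1, c.val_out o5.2.2.1, c.val_out o5.2.2.2.1,
    c.val_out o5.2.2.2.2, c.val_out oχ, f1, f2, f3, f4, f5, fχ, h1, T.r₁.val _ h4, T.r₂.val _ h4,
    T.r₃.val _ h4, T.r₄.val _ h4, T.r₁.val _ h5, T.r₂.val _ h5, T.r₃.val _ h5, T.r₄.val _ h5,
    T.hB.ex.sum₁, T.hB.ex.sum₂, T.s₁.sum_pow D.hx, T.s₂.sum_pow D.hx, T.s₃.sum_pow D.hx,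
    T.s₄.sum_pow D.hx, deg_eq, deg_irrOne, T.hB.ex.dg₁, T.hB.ex.dg₂, T.s₁.dg, T.s₂.dg, T.s₃.dg,
    T.s₄.dg, T.r₁.dg, T.r₂.dg, T.r₄.dg, T.dα, T.dβ, sum_const, card_range] at e1 e2 e3 e4
  have e5 : n (irrOne G) + n ψ₁ + n ψ₄ = 1 + n χ₄ + n ψ₂ := by
    apply Nat.cast_injective (R := ℂ)
    push_cast at e1 e2 ⊢
    linear_combination -(e1 + e2) / 2
  have e6 : n c₁ + n c₂ + n α + n β = n χ₂ := by
    apply Nat.cast_injective (R := ℂ)
    push_cast at e1 e2 ⊢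
    linear_combination -(e1 - e2) / 2
  have e7 : 2 * n (irrOne G) + 2 * n χ₁ + 2 * n χ₄ = n c₁ + n c₂ + 2 * n χ₂ + 2 * n χ₃ := by
    apply Nat.cast_injective (R := ℂ)
    norm_num [Int.sign_neg, sg_lit] at e3
    push_cast
    linear_combination e3 / 5
  have e8 : ∀ g, (χ.1 g ^ 2 + χ.1 (g ^ 2)) / 2 =
      ([irrOne G, c₁, c₂, χ₁, χ₂, χ₃, χ₄, ψ₁, ψ₂, ψ₄, α, β].map fun ψ => n ψ * ψ.1 g).sum :=
    fun g => by
      rw [hS, sum_list_eq T.nd fun ψ hψ => ?_]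
      have := sum_eq_zero_iff.mp (show ∑ ψ ∈ univ \
        [irrOne G, c₁, c₂, χ₁, χ₂, χ₃, χ₄, ψ₁, ψ₂, ψ₄, α, β].toFinset, n ψ * deg ψ = 0 by omega) ψ
        (mem_sdiff.mpr ⟨mem_univ _, mt List.mem_toFinset.mp hψ⟩)
      rw [(mul_eq_zero.mp this).resolve_right (deg_pos ψ).ne', Nat.cast_zero, zero_mul]
  simp only [List.map_cons, List.map_nil, List.sum_cons, List.sum_nil, irrOne_val,
    Pi.one_apply] at e8
  obtain ⟨z1, z2, z3, z4, z5, z6, z7, z⟩ : n c₁ = 0 ∧ n c₂ = 0 ∧ n χ₁ = 0 ∧ n χ₃ = 0 ∧ n χ₄ = 0 ∧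
      n ψ₂ = 0 ∧ n ψ₄ = 0 ∧ (n (irrOne G) = 0 ∧ n χ₂ = 0 ∧ n ψ₁ = 1 ∧ n α = 0 ∧ n β = 0 ∨
        n (irrOne G) = 1 ∧ n χ₂ = 1 ∧ n ψ₁ = 0 ∧ (n α = 1 ∧ n β = 0 ∨ n α = 0 ∧ n β = 1)) := by
    omega
  rcases z with ⟨y1, y2, y3, y4, y5⟩ | ⟨y1, y2, y3, z⟩
  · have := e8 t
    rw [sq t, H9.mul_self_of_orderOf_two T.tt, deg_eq, dχ, tχ] at this
    simp only [z1, z2, z3, z4, z5, z6, z7, y1, y2, y3, y4, y5] at this
    exact absurd (by push_cast at this; linear_combination -this) (T.ne_ten h)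
  refine ⟨real_of_symSq ?_, ?_⟩
  · have := hn (irrOne G)
    rw [irrOne_val, y1] at this
    convert_to classInner _ _ ≠ 0
    rw [this]
    simp
  rcases z with ⟨y4, y5⟩ | ⟨y4, y5⟩
  · exact ⟨α, Or.inl rfl, fun g => by
      rw [e8, z1, z2, z3, z4, z5, z6, z7, y1, y2, y3, y4, y5]; push_cast; ring⟩
  · exact ⟨β, Or.inr rfl, fun g => by
      rw [e8, z1, z2, z3, z4, z5, z6, z7, y1, y2, y3, y4, y5]; push_cast; ring⟩

theorem Tab.not_isConj {u : G} (hu : orderOf u = 4) : ¬ IsConj k (u ^ 2) := fun h1 => by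
  have hG := perfect_of_simple (ncomm h)
  have h4 : u ^ 4 = 1 := by rw [← hu, pow_orderOf_eq_one]
  have hv : ∀ χ : IrrCharacter G, χ.1 (u ^ 2) = χ.1 k := fun χ =>
    (IsClassFunction.eq_of_isConj (irr_isClass χ) h1).symm
  have e1 := four_le_norm_sq hG (irr_isChar c₁) h4 (one_eq T.hB.ex.dg₁) (b := 4)
    (by rw [hv, T.k₁]; simp) (by decide) (by decide)
  have e2 := T.hB.ex.reg u (by rw [hu]; decide)
  have e3 := one_le_norm_sq hG (irr_isChar χ₁) h4 (one_eq T.s₁.dg) (by decide)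
  have e4 := four_le_norm_sq hG (irr_isChar χ₂) h4 (one_eq T.s₂.dg) (b := 6)
    (by rw [hv, T.k₂]; simp) (by decide) (by decide)
  have e5 := four_le_norm_sq hG (irr_isChar χ₄) h4 (one_eq T.s₄.dg) (b := 4)
    (by rw [hv, T.k₃]; simp) (by decide) (by decide)
  have e6 := one_le_norm_sq hG (irr_isChar ψ₂) h4 (one_eq T.r₂.dg) (by decide)
  have e7 := four_le_norm_sq hG (irr_isChar ψ₄) h4 (one_eq T.r₄.dg) (b := -4)
    (by rw [hv, T.k₄]; simp) (by decide) (by decide)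
  have e8 := one_le_norm_sq hG (irr_isChar α) h4 (one_eq T.dα) (by decide)
  have e9 := one_le_norm_sq hG (irr_isChar β) h4 (one_eq T.dβ) (by decide)
  have h2 := sum_list_le (T.nd.sublist (l₁ := [irrOne G, c₁, c₂, χ₁, χ₂, χ₄, ψ₂, ψ₄, α, β])
    (by simp)) u
  simp only [List.map_cons, List.map_nil, List.sum_cons, List.sum_nil, irrOne_val, Pi.one_apply,
    norm_one, e2] at h2
  have h3 : 25 ≤ Nat.card (centralizer ({u} : Set G)) := by
    have : (25 : ℝ) ≤ Nat.card (centralizer ({u} : Set G)) := by linarith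
    exact_mod_cast this
  have h5 : Nat.card (centralizer ({u} : Set G)) ∣ 240 := by
    rw [← T.ck, card_centralizer_eq_of_isConj h1]
    exact card_dvd_of_le fun g hg => mem_centralizer_singleton_iff.mpr
      (Commute.pow_right (mem_centralizer_singleton_iff.mp hg) 2)
  have h6 := not_dvd_card_centralizer (p := 5) (m := 2) (by rw [h]; decide)
    (fun E => (blocks h D E).2.2.2.1) (g := u) (by rw [hu]; decide)
  obtain ⟨a, ha⟩ := exists_int_of_blk ((T.hB.mem χ₄).mpr (by simp)) (g := u) fun ψ _ h7 => by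
    have := eq_of_deg T.hK T.hB (ψ := ψ) (by rw [h7, T.s₄.dg]; decide)
    simp only [h7, T.s₄.dg] at this
    rw [show ψ = χ₄ by simpa using this]
  have h7 := eight_dvd_of_four hG (irr_isChar χ₄) h4 (one_eq T.s₄.dg) ha (b := 4)
    (by rw [hv, T.k₃]; simp)
  have h8 := deg_dvd_index_mul ha
  have h9 := (centralizer ({u} : Set G)).index_mul_card
  rw [T.s₄.dg] at h8
  generalize Nat.card (centralizer ({u} : Set G)) = n at h3 h5 h6 h9
  obtain rfl : n = 48 := by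
    have := Nat.le_of_dvd (by norm_num) h5
    interval_cases n <;> omega
  rw [show (centralizer ({u} : Set G)).index = 1980 by omega] at h8
  omega

theorem Tab.exists_act : ∃ u, Act 5 4 2 E.x u ∧ IsConj t (u ^ 2) := by
  have c := T.cen
  obtain ⟨g, h1, -⟩ := exists_conj_sq E (by have := E.card_A_mul_index; rw [c.hA] at this; omega)
  generalize g ^ 5 = u at h1
  have h2 : u ^ 2 * E.x * (u ^ 2)⁻¹ = E.x⁻¹ := by
    rw [conj_iter h1]
    exact eq_inv_of_mul_eq_one_left (by rw [← pow_succ, ← pow_orderOf_eq_one E.x, E.hx]; rfl)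
  have ho : Odd (orderOf E.x) := by rw [E.hx]; decide
  have ht := H9.mul_self_of_orderOf_two T.tt
  have h3 : ∀ s, s * s = 1 → s * E.x * s⁻¹ = E.x⁻¹ → s⁻¹ * u ^ 2 ∈ zpowers E.x →
      Act 5 4 2 E.x u ∧ IsConj s (u ^ 2) := fun s h3 h4 h5 => by
    have h6 := (inverts_mul h3 h4 h5).1
    have h7 := isConj_mul_of_inverts ho h4 h5
    rw [mul_inv_cancel_left] at h6 h7
    exact ⟨⟨by norm_num, E.hx, by rw [← h6, ← pow_add], by norm_num, h1, by decide⟩, h7⟩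
  rcases c.cent _ (comm_of_inverts T.tf h2) with h4 | h4
  · exact ⟨u, h3 t ht T.tf h4⟩
  · obtain ⟨h5, h6⟩ := h3 (t * k)
      (by rw [mul_assoc, ← mul_assoc k, ← c.norm' T.tf, mul_assoc, c.sq, mul_one, ht])
      (by rw [← T.tf, mul_assoc t, c.comm]; group)
      (by rwa [mul_inv_rev, inv_eq_of_mul_eq_one_left c.sq, mul_assoc])
    exact absurd (T.tk.trans h6) (T.not_isConj h h5.orderOf_u)

theorem Tab.fx_eq {u : G} (hu : Act 5 4 2 E.x u) (ht : IsConj t (u ^ 2)) {χ : IrrCharacter G}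
    (hχ : χ = α ∨ χ = β) : fx χ.1 (zpowers E.x) = 3 ∧
      (χ.1 u = -1 ∨ fx χ.1 (zpowers E.x ⊔ zpowers u) = 3) := by
  obtain ⟨-, -, -, f4, f5⟩ := T.val5 h
  obtain ⟨dχ, fχ, tχ⟩ : deg χ = 11 ∧ χ.1 E.x = 1 ∧ χ.1 t = 3 := by
    rcases hχ with rfl | rfl
    exacts [⟨T.dα, f4, T.tα⟩, ⟨T.dβ, f5, T.tβ⟩]
  have h1 := irr_isChar χ
  obtain ⟨a, ha⟩ := exists_int_of_four h1 hu.hu ((T.symSq h hχ).1 u)
  rw [IsClassFunction.eq_of_isConj (irr_isClass χ) ht] at tχ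
  have h2 := eight_dvd_of_four (perfect_of_simple (ncomm h)) h1 hu.hu (one_eq dχ) ha (b := 3)
    (by rw [tχ]; simp)
  have e1 := fx_prime h1 (by norm_num) E.hx fun g hg _ =>
    (val_of_orderOf E T.cen.hA χ hg).trans fχ
  have e2 := fx_four h1 hu.orderOf_u ha
  have e3 := hu.fx_eq h1
  have e4 := fx_mono h1 (le_sup_left : zpowers E.x ≤ zpowers E.x ⊔ zpowers u)
  rw [deg_eq, dχ] at e1 e2 e3
  rw [tχ] at e2
  have e5 : fx χ.1 (zpowers E.x) = 3 := by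
    apply Nat.cast_injective (R := ℂ)
    push_cast at e1 ⊢
    linear_combination e1 / 5
  have e6 : (4 * fx χ.1 (zpowers E.x ⊔ zpowers u) : ℤ) = 6 + 2 * a := by
    apply Int.cast_injective (α := ℂ)
    rw [e5] at e3
    push_cast at e2 e3 ⊢
    linear_combination e3 + e2
  refine ⟨e5, (show a = -1 ∨ _ by omega).imp_left fun h3 => by rw [ha, h3]; simp⟩

theorem Tab.exists_fx {u : G} (hu : Act 5 4 2 E.x u) (ht : IsConj t (u ^ 2)) :
    ∃ χ : IrrCharacter G, deg χ = 11 ∧ fx χ.1 (zpowers E.x) = 3 ∧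
      fx χ.1 (zpowers E.x ⊔ zpowers u) = 3 := by
  obtain ⟨h1, h2 | h2⟩ := T.fx_eq h hu ht (Or.inl rfl)
  swap
  · exact ⟨α, T.dα, h1, h2⟩
  obtain ⟨h3, h4 | h4⟩ := T.fx_eq h hu ht (Or.inr rfl)
  swap
  · exact ⟨β, T.dβ, h3, h4⟩
  exfalso
  obtain ⟨-, γ, h5, h6⟩ := T.symSq h (Or.inl rfl)
  have h7 : γ.1 u = -1 := by rcases h5 with rfl | rfl <;> assumption
  have h8 := h6 u
  have h9 : ¬ 5 ∣ orderOf u := by rw [hu.orderOf_u]; decide
  have l := Cen.lin_out (T.nd.sublist (by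
    repeat' first | apply List.Sublist.cons_cons | apply List.Sublist.cons | exact .slnil))
    T.out5 T.out h9
  obtain ⟨f1, f2, f3, f4, f5⟩ := T.val5 h
  rw [← IsClassFunction.eq_of_isConj (irr_isClass α) ht, T.tα, h2, h7] at h8
  simp only [List.map_cons, List.map_nil, List.sum_cons, List.sum_nil, f1, f2, f3, f4, f5, h2, h4,
    T.hB.ex.reg u (by rw [hu.orderOf_u]; decide), map_one, map_neg] at l
  exact absurd (eight_dvd_of_four (perfect_of_simple (ncomm h)) (irr_isChar c₁) hu.hu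
    (one_eq T.hB.ex.dg₁) (a := 2) (b := 0) (by push_cast; linear_combination (l - h8) / 2)
    (by rw [← IsClassFunction.eq_of_isConj (irr_isClass c₁) ht, T.t₁]; simp)) (by decide)

theorem Tab.card_cases {u : G} (h1 : Act 11 5 3 D.x E.x) (h2 : Act 5 4 2 E.x u) {L : Subgroup G}
    (hx : D.x ∈ L) (hf : E.x ∈ L) (hu : u ∈ L) : Nat.card L = 7920 ∨ L = ⊤ := by
  obtain ⟨n, h3, h4⟩ := card_55 D T.hA T.hK h1 hx hf
  obtain ⟨h5, h6⟩ := card_ne_660 E h2 (by rw [card_N5 h]) hf hu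
  have h7 := L.card_subgroup_dvd_card
  rw [h, h4] at h7
  have h8 : n ∣ 1728 := Nat.dvd_of_mul_dvd_mul_right (by norm_num : 0 < 55) h7
  have h9 : ∀ n ∈ List.range 1729, 1728 % n = 0 → n % 11 = 1 →
      n = 1 ∨ n = 12 ∨ n = 144 ∨ n = 1728 := by decide +kernel
  have h10 := h9 n (List.mem_range.mpr (Nat.lt_succ_of_le (Nat.le_of_dvd (by norm_num) h8)))
    (Nat.mod_eq_zero_of_dvd h8) h3
  refine (show _ ∨ Nat.card G ≤ Nat.card L by omega).imp_right (eq_top_of_le_card L)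

theorem Tab.eq_top {u : G} (h1 : Act 11 5 3 D.x E.x) (h2 : Act 5 4 2 E.x u) {L : Subgroup G}
    (hx : D.x ∈ L) (hf : E.x ∈ L) (hu : u ∈ L) (hk : k ∈ L) : L = ⊤ := by
  refine (T.card_cases h h1 h2 hx hf hu).resolve_left fun h3 => ?_
  obtain ⟨n, h4, h5⟩ := card_eq_mul E hf
  have h6 := card_dvd_of_le (inf_le_left : normalizer (zpowers E.x : Set G) ⊓ L ≤ _)
  have h7 := le_inf h2.sup_le_norm (sup_le (zpowers_le.mpr hf) (zpowers_le.mpr hu))
  have h8 : Nat.card (normalizer (zpowers E.x : Set G) ⊓ L : Subgroup G) ≠ 20 := fun h8 => by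
    have h9 : k ∈ zpowers E.x ⊔ zpowers u := by
      rw [eq_of_le_of_card_ge h7 (by rw [h8, h2.card_sup])]
      exact ⟨E.mem_normalizer_iff_conj.mpr (by
        rw [T.cen.comm, mul_inv_cancel_right]; exact mem_zpowers _), hk⟩
    obtain ⟨y, hy, w, hw, rfl⟩ := (H9.mem_sup_of_le_normalizer' h2.le_norm).mp h9
    obtain ⟨i, rfl⟩ := mem_zpowers_iff.mp hy
    obtain rfl := h2.eq_one hw (mul_left_cancel (a := E.x ^ i) (by
      rw [← mul_assoc, T.cen.comm, ← mul_assoc, ← mul_assoc, (Commute.self_zpow E.x i).eq]))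
    exact T.cen.not_mem (by rwa [mul_one])
  obtain ⟨m, hm⟩ := card_dvd_of_le h7
  rw [card_N5 h] at h6
  rw [h2.card_sup] at hm
  rw [hm] at h5 h6 h8
  have h9 : m ≤ 2 := by have := Nat.le_of_dvd (by norm_num) h6; omega
  interval_cases m <;> omega

theorem Tab.exists_index {u : G} (h1 : Act 11 5 3 D.x E.x) (h2 : Act 5 4 2 E.x u)
    (ht : IsConj t (u ^ 2)) : ∃ M : Subgroup G, M.index = 12 ∧ D.x ∈ M ∧ E.x ∈ M ∧ u ∈ M := by
  obtain ⟨χ, h3, h4, h5⟩ := T.exists_fx h h2 ht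
  have hχ := irr_isChar χ
  have e1 := fx_prime hχ (by norm_num) D.hx (c := 0) fun g hg _ =>
    eq_zero_of_dvd_deg (p := 11) (by norm_num) D.not_sq_dvd (by rw [h3]) hg.symm.dvd
  have e4 := h1.fx_eq hχ
  rw [deg_eq, h3] at e1 e4
  have h6 := sup_ne_top (χ := χ) (fun h5 => by simp [h5, deg_irrOne] at h3)
    (le_sup_right : zpowers E.x ≤ zpowers D.x ⊔ zpowers E.x)
    (le_sup_left : zpowers E.x ≤ zpowers E.x ⊔ zpowers u) (by
      have : fx χ.1 (zpowers D.x ⊔ zpowers E.x) = 1 := by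
        apply Nat.cast_injective (R := ℂ)
        rw [h4] at e4
        push_cast at e1 e4 ⊢
        linear_combination e4 / 5 + e1 / 55
      omega)
  set M := zpowers D.x ⊔ zpowers E.x ⊔ (zpowers E.x ⊔ zpowers u)
  have hx : D.x ∈ M := mem_sup_left (mem_sup_left (mem_zpowers _))
  have hf : E.x ∈ M := mem_sup_left (mem_sup_right (mem_zpowers _))
  have hu : u ∈ M := mem_sup_right (mem_sup_right (mem_zpowers _))
  have h7 := M.index_mul_card
  rw [(T.card_cases h h1 h2 hx hf hu).resolve_right h6] at h7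
  exact ⟨M, by omega, hx, hf, hu⟩

omit T [Fact (Nat.Prime 11)] [Fact (Nat.Prime 5)] in
theorem nonempty_equiv : Nonempty (G ≃* closure ({P12.X, P12.F} ∪
    ({g | P12.Rep g P12.u0} ∪ {g | P12.Rep g P12.k0}))) := by
  have : Fact (Nat.Prime 5) := ⟨by norm_num⟩
  have : Fact (Nat.Prime 11) := ⟨by norm_num⟩
  obtain ⟨D⟩ := nonempty_setup (G := G) (p := 11) (by rw [h]; decide) (by rw [h]; decide)
  obtain ⟨E⟩ := nonempty_setup (G := G) (p := 5) (by rw [h]; decide) (by rw [h]; decide)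
  obtain ⟨hA, hK, -⟩ := blocks h D E
  obtain ⟨f, h1⟩ := exists_act_eleven D hA hK
  obtain ⟨E, rfl⟩ := exists_setup (p := 5) h1.orderOf_u (by rw [h]; decide)
  obtain ⟨k, t, c₁, c₂, χ₁, χ₂, χ₃, χ₄, ψ₁, ψ₂, ψ₄, α, β, T⟩ := exists_tab h D E
  obtain ⟨u, h2, ht⟩ := T.exists_act h
  obtain ⟨M, hM, hx, hf, hu⟩ := T.exists_index h h1 h2 ht
  obtain ⟨ψ, h3, h4, h5, h6⟩ := P12.exists_hom hM D.hx E.hx h1.cj hx hf
  obtain ⟨φ, y, h7, h8, h9, h10, h11, h12⟩ := P12.normalise (by rw [h]; decide) h3 h4 h5 h2.cj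
  have h13 := h12.resolve_right fun h13 => by
    have := h13 11
    rw [(h11 u).mpr ((h6 u).mpr hu)] at this
    revert this
    decide
  have h14 := P12.rep_k (by rw [h]; decide) h7 h8 h9 h13 (H9.ne_one_of_orderOf_two T.cen.ord)
    T.cen.comm (T.cen.norm h2.mem_norm)
  refine P12.nonempty_equiv h7 ?_ (T.eq_top h h1 h2 (zpowers_le.mpr ?_ h10) ?_ ?_ ?_)
  · rintro s ((rfl | rfl) | hs | hs)
    exacts [⟨y, h8⟩, ⟨_, h9⟩, ⟨u, h13.ext hs⟩, ⟨k, h14.ext hs⟩]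
  · exact subset_closure (Or.inl (Or.inl h8))
  · exact subset_closure (Or.inl (Or.inr h9))
  · exact subset_closure (Or.inr (Or.inl h13))
  · exact subset_closure (Or.inr (Or.inr h14))

end M12

theorem equiv_of_card_95040 {G H : Type*} [Group G] [Finite G] [IsSimpleGroup G] [Group H]
    [Finite H] [IsSimpleGroup H] (h1 : Nat.card G = 95040) (h2 : Nat.card H = 95040) :
    Nonempty (G ≃* H) := by
  obtain ⟨e⟩ := M12.nonempty_equiv h1
  obtain ⟨e'⟩ := M12.nonempty_equiv h2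
  exact ⟨e.trans e'.symm⟩

end Cfsg.Agent.H3
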