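import Cfsg.Agent.H3.Frm
import Cfsg.Prelude.Def_Classical

/-!
# The centraliser of a 2-central involution of the projective symplectic group over three elements
-/

set_option autoImplicit false

namespace Cfsg.Agent.H3

open Subgroup Matrix

/-- The elements of the centraliser: `288 * s + 24 * (x / 2) + y`. -/
def P4 : Type := Fin 576

namespace P4

instance : Fintype P4 := inferInstanceAs (Fintype (Fin 576))

/-- The element with a given index. -/
def mk (n : ℕ) : P4 := ⟨Nat.mod n (nat_lit 576), Nat.mod_lt _ (by norm_num)⟩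

/-- The index of an element. -/
def v (x : P4) : ℕ := Fin.val x

theorem v_lt (x : P4) : x.v < 576 := Fin.isLt x

instance : DecidableEq P4 := fun x y =>
  decidable_of_iff (Nat.beq x.v y.v = true) (by rw [Nat.beq_eq]; exact Fin.val_inj)

theorem mk_v (x : P4) : mk x.v = x := Fin.ext (Nat.mod_eq_of_lt x.v_lt)

instance decAll (p : P4 → Prop) [DecidablePred p] : Decidable (∀ x, p x) :=
  decidable_of_iff (Hol.allN (fun i => decide (p (mk i))) 576 = true) (by
    rw [Hol.allN_iff]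
    exact ⟨fun h x => by simpa [mk_v] using h _ x.v_lt, fun h i _ => decide_eq_true (h _)⟩)

instance decEx (p : P4 → Prop) [DecidablePred p] : Decidable (∃ x, p x) :=
  decidable_of_iff (Hol.anyN (fun i => decide (p (mk i))) 576 = true) (by
    rw [Hol.anyN_iff]
    exact ⟨fun ⟨i, _, h⟩ => ⟨_, of_decide_eq_true h⟩,
      fun ⟨x, h⟩ => ⟨_, x.v_lt, by simpa [mk_v] using h⟩⟩)

/-- Multiplication in the special linear group. -/
@[irreducible] def sm (a b : ℕ) : ℕ :=
  Nat.mod (Nat.shiftRight (nat_lit 0x5a98d4a1cf18885080c79ca958c2d752dac425ee10ca4004e694eb4846f64a1ee52d8d080e610c858c2f694e95425cf5a9ac004c7188a4846d79cab473d286b14b31c2029043b5e30ad2537b9096356a3980121462bda11a56726354b73d092144331c01a5653b5e116b16a7b9282906239820ad272bda3021420188c7a56309cad7635285a9cf2900110ce6ad21194ef66b10952dee3984308085bda538c2957b94b4a18d31c62004a4b5e72846b473d6a425ac080a431c438c2b4b5e534a1ac73d4b004853986284695bda724258d7b96a10cc72140194ed7a561152dcf63509188e6290209caf6ad2305a9ee6b1288c272a56d74a16a635cf08062214c784653ad2f64254b6b1ee00443290e694e30bda9552d287b98d10c20398859ca11b5eb45a90973dac1880131ca4ad2d78c2536b1cf4a14b290c708043a56f684672635ee4256a214e600462b5e9594e1173d8d52d0931c8510c01bdab49ca307b9ac5a928398a418820)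 (Nat.mul (nat_lit 5) (Nat.add (Nat.mul (nat_lit 24) a) b))) (nat_lit 32)

/-- Matrix entries. -/
@[irreducible] def en (a k : ℕ) : ZMod 3 :=
  ((0x251aa2516498864961922619a4588a45a9566a9524188241 >>> (2 * (4 * a + k))) % 4 : ℕ)

/-- The index of a matrix. -/
@[irreducible] def lk (a b c d : ZMod 3) : ℕ :=
  (0x28000b2400001a0302200540070001000e00000c0400005c800010003c00a000000000928400017318000000000000000000 >>> (5 * (27 * a.val + 9 * b.val + 3 * c.val + d.val))) % 32

/-- Inversion of indices. -/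
@[irreducible] def invN (i : ℕ) : ℕ :=
  Nat.mod (Nat.shiftRight (nat_lit 0x68da274dd26edba6298b86e1a80e028ce327a9eb5cd7256d5a50d424a92b69da675dd66fdbe6398f87e1e81e068de367b9ef5dd7657d5e51d464b92f695a4755d46f5bc6318d8761c816048d6347b1ed5d5745755c515444b12d681a1741d16e1b96258886219802018c2317a5e85c17156159501414a5286b5ac775dc715c465195896248360c8f63c7d1f55f57c595645354c4d1356adaa76dda70dc26499388e2282e0a8ee3a7c9f35ed7a58d6252d4a4c9336bdae77dde71dc66599789e2683e0e8fe3e7d9f75fd7e59d6653d4e4d9376a1a9761d9701c16459088221822098e2397c5f05e17958161521494c53067d9e73dce6ddb66198785e167fdfe8be2e799e75bd6e55d564fd3e499276759c735cc6d5b461185856147f5fc8b62c791e55b56c555544f53c4912566d9a72dca6cdb26098384e127edfa8ae2a789e35ad6a54d524ed3a4892366199721c96c1b160580842117e1f98a229785e05a169541514e1394852020c8221c8621484200812348c22c8a23c8e220891fc7e1f47c1ec7a1e0792ccb22dcb62d4b42c0b12f4bc2ecba2fcbe2e0b92bcae2b4ac2acaa2a0a926c9a27c9e2749c26099294a428ca229ca6280a125c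962549424c92240911a86b1b86f1b06d1a4681d0751c8731d8771c470198671906518863184603ecfa3fcfe3f4fc3e0f94150440d0241d06401013dcf63d4f43ccf23c0f138ce239ce6394e4380e13b4ec3acea3bcee3a0e937cde374dc36cda360d944d1245d1645514441114751c46d1a47d1e4611943d0e4350c42d0a42109328cb338cf330cd324c8350d5348d3358d7344d0318c7310c5308c3304c014c5215c5615454140511745c16c5a17c5e1605913c4e1344c12c4a120490ec3a0fc3e0f43c0e0391144410c4211c46100410dc360d4340cc320c03108c2209c2609424080210b42c0ac2a0bc2e0a02907c1e0741c06c1a060190280b0380f0300d024080501504813058170441001807010050080300400) (Nat.mul (nat_lit 10) i)) (nat_lit 1024)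

/-- First component. -/
def cX (i : ℕ) : ℕ := Nat.mul (nat_lit 2) (Nat.div (Nat.mod i (nat_lit 288)) (nat_lit 24))
/-- Second component. -/
def cY (i : ℕ) : ℕ := Nat.mod i (nat_lit 24)
/-- Third component. -/
def cS (i : ℕ) : ℕ := Nat.div i (nat_lit 288)

/-- Normal form. -/
def nrm (x y s : ℕ) : ℕ :=
  Nat.add (Nat.add (Nat.mul (nat_lit 288) s) (Nat.mul (nat_lit 24) (Nat.div x (nat_lit 2))))
    (Nat.xor y (Nat.mod x (nat_lit 2)))

/-- Multiplication of indices. -/
def mulN (i j : ℕ) : ℕ :=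
  cond (Nat.beq (cS i) (nat_lit 0)) (nrm (sm (cX i) (cX j)) (sm (cY i) (cY j)) (cS j))
    (nrm (sm (cX i) (cY j)) (sm (cY i) (cX j)) (Nat.sub (nat_lit 1) (cS j)))

instance : Mul P4 := ⟨fun x y => mk (mulN x.v y.v)⟩
instance : One P4 := ⟨mk 0⟩
instance : Inv P4 := ⟨fun x => mk (invN x.v)⟩

/-- Indices of rows. -/
def rx : Fin 2 ⊕ Fin 2 → ℕ := Sum.elim (fun k => k.val) fun k => 2 + k.val

/-- The matrices. -/
def mat (x y s : ℕ) : Matrix (Fin 2 ⊕ Fin 2) (Fin 2 ⊕ Fin 2) (ZMod 3) := Matrix.of fun r c =>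
  if rx c % 2 = (rx r + s) % 2 then
    en (if rx r % 2 = 0 then x else y) (2 * (rx r / 2) + rx c / 2) else 0

theorem en_sm : ∀ x < 24, ∀ y < 24, sm x y < 24 ∧
    en (sm x y) 0 = en x 0 * en y 0 + en x 1 * en y 2 ∧
    en (sm x y) 1 = en x 0 * en y 1 + en x 1 * en y 3 ∧
    en (sm x y) 2 = en x 2 * en y 0 + en x 3 * en y 2 ∧
    en (sm x y) 3 = en x 2 * en y 1 + en x 3 * en y 3 := by decide +kernel

theorem en_det : ∀ x < 24, en x 0 * en x 3 - en x 1 * en x 2 = 1 := by decide +kernel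

theorem en_neg : ∀ x < 24, ∀ k < 4, en (x ^^^ 1) k = - en x k := by decide +kernel

theorem exists_en : ∀ a b c d : ZMod 3, a * d - b * c = 1 →
    ∃ x < 24, en x 0 = a ∧ en x 1 = b ∧ en x 2 = c ∧ en x 3 = d := by decide +kernel

theorem mat_mul₀ {x y x' y' s : ℕ} (hx : x < 24) (hy : y < 24) (hx' : x' < 24) (hy' : y' < 24)
    (hs : s < 2) : mat x y 0 * mat x' y' s = mat (sm x x') (sm y y') s := by
  obtain ⟨-, a1, a2, a3, a4⟩ := en_sm x hx x' hx'
  obtain ⟨-, b1, b2, b3, b4⟩ := en_sm y hy y' hy'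
  ext r c
  interval_cases s <;> rcases r with r | r <;> rcases c with c | c <;> fin_cases r <;>
    fin_cases c <;> simp [mat, rx, Matrix.mul_apply, *]

theorem mat_mul₁ {x y x' y' s : ℕ} (hx : x < 24) (hy : y < 24) (hx' : x' < 24) (hy' : y' < 24)
    (hs : s < 2) : mat x y 1 * mat x' y' s = mat (sm x y') (sm y x') (1 - s) := by
  obtain ⟨-, a1, a2, a3, a4⟩ := en_sm x hx y' hy'
  obtain ⟨-, b1, b2, b3, b4⟩ := en_sm y hy x' hx'
  ext r c
  interval_cases s <;> rcases r with r | r <;> rcases c with c | c <;> fin_cases r <;>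
    fin_cases c <;> simp [mat, rx, Matrix.mul_apply, *]

theorem mat_mem {x y s : ℕ} (hx : x < 24) (hy : y < 24) (hs : s < 2) :
    mat x y s ∈ symplecticGroup (Fin 2) (ZMod 3) := by
  have a := en_det x hx
  have b := en_det y hy
  rw [SymplecticGroup.mem_iff]
  ext r c
  interval_cases s <;> rcases r with r | r <;> rcases c with c | c <;> fin_cases r <;>
    fin_cases c <;> simp [mat, rx, Matrix.mul_apply, Matrix.J] <;>
    first | ring1 | linear_combination a | linear_combination b | linear_combination -a |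
      linear_combination -b

theorem mat_neg {x y : ℕ} (hx : x < 24) (hy : y < 24) (s : ℕ) :
    mat (x ^^^ 1) (y ^^^ 1) s = - mat x y s := by
  ext r c
  have h : 2 * (rx r / 2) + rx c / 2 < 4 := by revert r c; decide
  simp only [mat, Matrix.neg_apply, Matrix.of_apply]
  split_ifs
  exacts [en_neg x hx _ h, en_neg y hy _ h, neg_zero.symm]

theorem mat_t : mat 0 1 0 = diagonal fun r => if rx r % 2 = 0 then 1 else -1 := by
  decide +kernel

theorem exists_mat₀ {M : Matrix (Fin 2 ⊕ Fin 2) (Fin 2 ⊕ Fin 2) (ZMod 3)}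
    (hM : M ∈ symplecticGroup (Fin 2) (ZMod 3)) (h : M * mat 0 1 0 = mat 0 1 0 * M) :
    ∃ x < 24, ∃ y < 24, M = mat x y 0 := by
  have h0 : ∀ r c, rx r % 2 ≠ rx c % 2 → M r c = 0 := fun r c hrc => by
    have := congrFun (congrFun h r) c
    rw [mat_t, mul_diagonal, diagonal_mul] at this
    revert this hrc
    generalize M r c = a
    revert r c a
    decide +kernel
  rw [SymplecticGroup.mem_iff] at hM
  have h1 := congrFun (congrFun hM (.inl 0)) (.inr 0)
  have h2 := congrFun (congrFun hM (.inl 1)) (.inr 1)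
  simp [Matrix.mul_apply, Matrix.J, h0, rx] at h1 h2
  obtain ⟨x, hx, a1, a2, a3, a4⟩ := exists_en (M (.inl 0) (.inl 0)) (M (.inl 0) (.inr 0))
    (M (.inr 0) (.inl 0)) (M (.inr 0) (.inr 0)) (by linear_combination -h1)
  obtain ⟨y, hy, b1, b2, b3, b4⟩ := exists_en (M (.inl 1) (.inl 1)) (M (.inl 1) (.inr 1))
    (M (.inr 1) (.inl 1)) (M (.inr 1) (.inr 1)) (by linear_combination -h2)
  refine ⟨x, hx, y, hy, ?_⟩
  ext r c
  rcases r with r | r <;> rcases c with c | c <;> fin_cases r <;> fin_cases c <;>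
    first | exact h0 _ _ (by decide) | simp [mat, rx, *]

set_option synthInstance.maxSize 2000 in
theorem mem_center_iff' {Z : symplecticGroup (Fin 2) (ZMod 3)} :
    Z ∈ center (symplecticGroup (Fin 2) (ZMod 3)) ↔ Z.1 = 1 ∨ Z.1 = -1 := by
  refine ⟨fun h => ?_, fun h => mem_center_iff.mpr fun g => Subtype.ext ?_⟩
  · have key : ∀ x < 24, ∀ y < 24, ∀ s < 2, mat x y s * Z.1 = Z.1 * mat x y s :=
      fun x hx y hy s hs => congrArg Subtype.val (mem_center_iff.mp h ⟨_, mat_mem hx hy hs⟩)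
    obtain ⟨x, hx, y, hy, e⟩ := exists_mat₀ Z.2 (key 0 (by omega) 1 (by omega) 0 (by omega)).symm
    have h2 := key 2 (by omega) 2 (by omega) 0 (by omega)
    have h3 := key 4 (by omega) 4 (by omega) 0 (by omega)
    have h4 := key 0 (by omega) 0 (by omega) 1 (by omega)
    rw [e] at h2 h3 h4 ⊢
    rw [mat_mul₀ (by omega) (by omega) hx hy (by omega),
      mat_mul₀ hx hy (by omega) (by omega) (by omega)] at h2 h3
    rw [mat_mul₁ (by omega) (by omega) hx hy (by omega),
      mat_mul₀ hx hy (by omega) (by omega) (by omega)] at h4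
    revert h2 h3 h4
    clear e
    revert x y
    decide +kernel
  · rcases h with h | h <;> simp [h]

theorem mk_eq_iff {A B : symplecticGroup (Fin 2) (ZMod 3)} :
    (QuotientGroup.mk A : Cfsg.PSp 2 (ZMod 3)) = QuotientGroup.mk B ↔ B.1 = A.1 ∨ B.1 = -A.1 := by
  rw [QuotientGroup.eq, mem_center_iff']
  have e : A.1 * (A⁻¹ * B).1 = B.1 := congrArg Subtype.val (mul_inv_cancel_left A B)
  have e' : A⁻¹.1 * A.1 = 1 := congrArg Subtype.val (inv_mul_cancel A)
  refine or_congr ⟨fun h => ?_, fun h => ?_⟩ ⟨fun h => ?_, fun h => ?_⟩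
  · rw [← e, h, mul_one]
  · rw [Submonoid.coe_mul, h, e']
  · rw [← e, h, mul_neg, mul_one]
  · rw [Submonoid.coe_mul, h, mul_neg, e']

theorem cX_lt (i : ℕ) : cX i < 24 := by
  change 2 * (i % 288 / 24) < 24
  omega

theorem cY_lt (i : ℕ) : cY i < 24 := Nat.mod_lt _ (by norm_num)

theorem cS_lt (x : P4) : cS x.v < 2 := by
  have := x.v_lt
  change x.v / 288 < 2
  omega

/-- The embedding in the projective symplectic group. -/
def emb (x : P4) : Cfsg.PSp 2 (ZMod 3) :=
  QuotientGroup.mk ⟨mat (cX x.v) (cY x.v) (cS x.v), mat_mem (cX_lt _) (cY_lt _) x.cS_lt⟩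

theorem nrm_spec : ∀ x < 24, ∀ y < 24, ∀ s < 2, cS (mk (nrm x y s)).v = s ∧
    (cX (mk (nrm x y s)).v = x ∧ cY (mk (nrm x y s)).v = y ∨
      cX (mk (nrm x y s)).v = x ^^^ 1 ∧ cY (mk (nrm x y s)).v = y ^^^ 1) := by decide +kernel

theorem emb_nrm {x y s : ℕ} (hx : x < 24) (hy : y < 24) (hs : s < 2) :
    emb (mk (nrm x y s)) = QuotientGroup.mk ⟨mat x y s, mat_mem hx hy hs⟩ := by
  obtain ⟨h1, h2⟩ := nrm_spec x hx y hy s hs
  refine (mk_eq_iff.mpr (h2.imp (fun h => ?_) fun h => ?_)).symm <;> simp only [h1, h.1, h.2]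
  exact mat_neg hx hy s

theorem mul_cases (x y : P4) : cS x.v = 0 ∧ x * y = mk (nrm (sm (cX x.v) (cX y.v))
    (sm (cY x.v) (cY y.v)) (cS y.v)) ∨ cS x.v = 1 ∧ x * y = mk (nrm (sm (cX x.v) (cY y.v))
    (sm (cY x.v) (cX y.v)) (1 - cS y.v)) := by
  have h := x.cS_lt
  have e : x * y = mk (mulN x.v y.v) := rfl
  rcases (by omega : cS x.v = 0 ∨ cS x.v = 1) with h | h
  · exact Or.inl ⟨h, by rw [e, mulN, h]; rfl⟩
  · exact Or.inr ⟨h, by rw [e, mulN, h]; rfl⟩

theorem emb_mul (x y : P4) : emb (x * y) = emb x * emb y := by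
  have h := y.cS_lt
  rcases mul_cases x y with ⟨h1, h2⟩ | ⟨h1, h2⟩
  · rw [h2, emb_nrm (en_sm _ (cX_lt _) _ (cX_lt _)).1 (en_sm _ (cY_lt _) _ (cY_lt _)).1 h]
    refine congrArg QuotientGroup.mk (Subtype.ext ?_)
    change _ = mat _ _ _ * mat _ _ _
    rw [h1, mat_mul₀ (cX_lt _) (cY_lt _) (cX_lt _) (cY_lt _) h]
  · rw [h2, emb_nrm (en_sm _ (cX_lt _) _ (cY_lt _)).1 (en_sm _ (cY_lt _) _ (cX_lt _)).1 (by omega)]
    refine congrArg QuotientGroup.mk (Subtype.ext ?_)
    change _ = mat _ _ _ * mat _ _ _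
    rw [h1, mat_mul₁ (cX_lt _) (cY_lt _) (cX_lt _) (cY_lt _) h]

theorem cS_mul (x y : P4) : cS (x * y).v = (cS x.v + cS y.v) % 2 := by
  have h := y.cS_lt
  rcases mul_cases x y with ⟨h1, h2⟩ | ⟨h1, h2⟩
  · rw [h2, (nrm_spec _ (en_sm _ (cX_lt _) _ (cX_lt _)).1 _ (en_sm _ (cY_lt _) _ (cY_lt _)).1 _
      h).1]; omega
  · rw [h2, (nrm_spec _ (en_sm _ (cX_lt _) _ (cY_lt _)).1 _ (en_sm _ (cY_lt _) _ (cX_lt _)).1 _
      (by omega)).1]; omega

/-- Decoding of a matrix. -/
def dec (M : Matrix (Fin 2 ⊕ Fin 2) (Fin 2 ⊕ Fin 2) (ZMod 3)) : P4 :=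
  if M (.inl 0) (.inl 1) = 0 ∧ M (.inl 0) (.inr 1) = 0 then
    mk (nrm (lk (M (.inl 0) (.inl 0)) (M (.inl 0) (.inr 0)) (M (.inr 0) (.inl 0))
      (M (.inr 0) (.inr 0))) (lk (M (.inl 1) (.inl 1)) (M (.inl 1) (.inr 1)) (M (.inr 1) (.inl 1))
      (M (.inr 1) (.inr 1))) 0)
  else
    mk (nrm (lk (M (.inl 0) (.inl 1)) (M (.inl 0) (.inr 1)) (M (.inr 0) (.inl 1))
      (M (.inr 0) (.inr 1))) (lk (M (.inl 1) (.inl 0)) (M (.inl 1) (.inr 0)) (M (.inr 1) (.inl 0))
      (M (.inr 1) (.inr 0))) 1)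

theorem emb_injective : Function.Injective emb := fun x y h => by
  have key : ∀ x : P4, dec (mat (cX x.v) (cY x.v) (cS x.v)) = x ∧
      dec (-mat (cX x.v) (cY x.v) (cS x.v)) = x := by decide +kernel
  rcases mk_eq_iff.mp h with h | h
  · exact (key x).1.symm.trans ((congrArg dec h).symm.trans (key y).1)
  · exact (key x).2.symm.trans ((congrArg dec h).symm.trans (key y).1)

instance : Group P4 :=
  Group.ofLeftAxioms (fun x y z => emb_injective (by simp only [emb_mul, mul_assoc]))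
    (by decide +kernel) (by decide +kernel)

theorem card : Nat.card P4 = 576 := Nat.card_fin 576

/-- The central involution. -/
def t : P4 := mk 1
/-- The involution interchanging the two factors. -/
def sg : P4 := mk 288

/-- Membership in a set given by a mask. -/
def msk (m : ℕ) (x : P4) : Prop := Nat.testBit m x.v = true

instance (m : ℕ) : DecidablePred (msk m) := fun _ => inferInstanceAs (Decidable (_ = true))

/-- A subgroup given by a mask. -/
def sub (m : ℕ) (h : msk m 1 ∧ ∀ x, msk m x → msk m x⁻¹ ∧ ∀ y, msk m y → msk m (x * y)) :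
    Subgroup P4 where
  carrier := {x | msk m x}
  mul_mem' ha hb := (h.2 _ ha).2 _ hb
  one_mem' := h.1
  inv_mem' ha := (h.2 _ ha).1

instance (m : ℕ) (h) (x : P4) : Decidable (x ∈ sub m h) := inferInstanceAs (Decidable (msk m x))

theorem card_sub (m : ℕ) (h) :
    Nat.card (sub m h) = (Finset.univ.filter (msk m)).card := by
  rw [← Fintype.card_subtype, ← Nat.card_eq_fintype_card]; rfl

theorem t_comm : ∀ x : P4, x * t = t * x := by decide +kernel

end P4

open P4

/-- The frame of the projective symplectic group. -/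
def frPSp : Frm t (Cfsg.PSp 2 (ZMod 3)) where
  ψ := MonoidHom.mk' emb emb_mul
  inj := emb_injective
  zc := t_comm
  cent g h := by
    obtain ⟨g, rfl⟩ := QuotientGroup.mk_surjective g
    rcases mk_eq_iff.mp h with h | h
    · obtain ⟨x, hx, y, hy, e⟩ := exists_mat₀ g.2 h.symm
      exact ⟨_, (emb_nrm hx hy (by omega)).trans (congrArg _ (Subtype.ext e.symm))⟩
    · have h1 : mat 0 0 1 * mat 0 1 0 = -(mat 0 1 0 * mat 0 0 1) := by decide +kernel
      have h2 : mat 0 0 1 * mat 0 0 1 = 1 := by decide +kernel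
      have h' : mat 0 1 0 * g.1 = -(g.1 * mat 0 1 0) := h
      obtain ⟨x, hx, y, hy, e⟩ := exists_mat₀ (M := g.1 * mat 0 0 1)
        (mul_mem g.2 (mat_mem (by omega) (by omega) (by omega)))
        (by rw [mul_assoc, h1, ← mul_assoc, h', neg_mul, mul_neg, mul_assoc])
      refine ⟨mk (nrm x y 0) * sg, (emb_mul _ _).trans ?_⟩
      rw [emb_nrm hx hy (by omega)]
      refine congrArg QuotientGroup.mk (Subtype.ext ?_)
      change mat x y 0 * mat 0 0 1 = _
      rw [← e, mul_assoc, h2, mul_one]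

theorem frPSp_isConj : IsConj (frPSp.ψ t) (frPSp.ψ sg) := by
  let g : symplecticGroup (Fin 2) (ZMod 3) :=
    ⟨fromBlocks !![1, 1; 1, 2] 0 0 !![2, 2; 2, 1],
      SymplecticGroup.mem_iff.mpr (by decide +kernel)⟩
  refine isConj_iff.mpr ⟨QuotientGroup.mk g, mul_inv_eq_iff_eq_mul.mpr ?_⟩
  exact congrArg QuotientGroup.mk (Subtype.ext
    (by decide +kernel : g.1 * mat 0 1 0 = mat 0 0 1 * g.1))

/-- Change of the field. -/
def pspEquiv {F F' : Type*} [Field F] [Field F'] (e : F ≃+* F') :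
    Cfsg.PSp 2 F ≃* Cfsg.PSp 2 F' :=
  let f : symplecticGroup (Fin 2) F ≃* symplecticGroup (Fin 2) F' :=
    { toFun := fun A => ⟨A.1.map e, SymplecticGroup.map_mem A.2 e⟩
      invFun := fun A => ⟨A.1.map e.symm, SymplecticGroup.map_mem A.2 e.symm⟩
      left_inv := fun A => Subtype.ext (by ext; simp)
      right_inv := fun A => Subtype.ext (by ext; simp)
      map_mul' := fun A B => Subtype.ext (Matrix.map_mul (f := e)) }
  QuotientGroup.congr _ _ f (by
    ext x
    simp only [mem_map, mem_center_iff]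
    refine ⟨?_, fun h => ⟨f.symm x, fun g => f.injective (by simpa using h (f g)), by simp⟩⟩
    rintro ⟨y, h, rfl⟩ g
    simpa using congrArg f (h (f.symm g)))

end Cfsg.Agent.H3
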