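import Cfsg.Agent.H3.Hol
import Cfsg.Agent.H7.ZStar
import Cfsg.Agent.H9.Simple
import Cfsg.Agent.H6.Count

/-!
# Fusion of involutions when an involution centraliser is the holomorph of the quaternion group
-/

set_option autoImplicit false

namespace Cfsg.Agent.H3

open Subgroup Hol

namespace Hol

/-- Representatives. -/
def a0 : Hol := mk 16
/-- Representatives. -/
def b0 : Hol := mk 10
/-- Representatives. -/
def c0 : Hol := mk 32

theorem invol : ∀ x : Hol, x * x = 1 → x = 1 ∨ x = z ∨ A x ∨ B x ∨ C x := by decide +kernel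
theorem A_conj : ∀ x, A x → ∃ h, h * a0 * h⁻¹ = x := by decide +kernel
theorem B_conj : ∀ x, B x → ∃ h, h * b0 * h⁻¹ = x := by decide +kernel
theorem C_conj : ∀ x, C x → ∃ h, h * c0 * h⁻¹ = x := by decide +kernel
theorem A_spec : ∀ x, A x → x * x = 1 ∧ x ≠ 1 ∧ x ≠ z ∧ ¬ B x ∧ A (z * x) := by decide +kernel
theorem B_spec : ∀ x, B x → x * x = 1 ∧ x ≠ 1 ∧ x ≠ z := by decide +kernel
theorem C_spec : ∀ x, C x → x * x = 1 ∧ x ≠ z ∧ ∃ a, A a ∧ a * x = x * a := by
  decide +kernel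
theorem sq_cases : ∀ y : Hol, y * y = 1 ∨ y * y = z ∨ A (y * y) ∨ y * y * (y * y) ≠ 1 := by
  decide +kernel
theorem exists_sq : ∀ x, A x ∨ B x → ∃ y, y * x = x * y ∧ y * y = z := by decide +kernel
theorem C_cent : ∀ c, C c → ∀ y, y * c = c * y → ¬ (y = 1 ∨ y = z ∨ C y) →
    ∀ y', y' * c = c * y' → ¬ (y' = 1 ∨ y' = z ∨ C y') → y' = y ∨ y' = z * y := by decide +kernel
theorem two_elt : ∀ x : Hol, x * x = 1 → x ≠ 1 → x ≠ z → ∀ y, y * x = x * y → y ^ 8 = 1 := by
  decide +kernel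
theorem A_comm : ∀ x, A x → ∀ y, A y → x * y = y * x := by decide +kernel
theorem B_comm : ∀ b, B b → (∃ w, A w ∧ w * b = z * (b * w)) ∧ (∃ a, A a ∧ a * b = b * a) ∧
    (∀ y, A y → y * b = b * y ∨ y * b = z * (b * y)) ∧ ∀ y, C y → y * b ≠ b * y := by
  decide +kernel
theorem A_a0 : A a0 := by decide +kernel
theorem B_b0 : B b0 := by decide +kernel
theorem C_c0 : C c0 := by decide +kernel

end Hol

variable {G : Type*} [Group G]

theorem conj_comm {x y : G} (g : G) (h : x * y = y * x) :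
    g * x * g⁻¹ * (g * y * g⁻¹) = g * y * g⁻¹ * (g * x * g⁻¹) := by
  rw [conj_mul, conj_mul, h]

theorem inverts_of_fpf [Finite G] (N : Subgroup G) [hN : N.Normal] {v : G}
    (hv : v * v = 1) (h : ∀ g ∈ N, g * v = v * g → g = 1) {g : G} (hg : g ∈ N) :
    v * g * v⁻¹ = g⁻¹ := by
  have h1 : MonoidHom.FixedPointFree (MulAut.conjNormal (H := N) v) := fun a ha => by
    refine Subtype.ext (h a a.2 ?_)
    have := congrArg Subtype.val ha
    rw [MulAut.conjNormal_apply] at this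
    exact (mul_inv_eq_iff_eq_mul.mp this).symm
  have h2 : Function.Involutive (MulAut.conjNormal (H := N) v) := fun a => by
    rw [← MulAut.mul_apply, ← map_mul, hv, map_one, MulAut.one_apply]
  have := congrFun (h1.coe_eq_inv_of_involutive h2) ⟨g, hg⟩
  exact congrArg Subtype.val this

namespace Fr

variable (F : Fr G)

/-- The conjugate of a frame. -/
def conj (g : G) : Fr G where
  ψ := (MulAut.conj g).toMonoidHom.comp F.ψ
  inj := (MulAut.conj g).injective.comp F.inj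
  cent x h := by
    obtain ⟨y, hy⟩ := F.cent (g⁻¹ * x * g) (by
      have h' : x * (g * F.ψ z * g⁻¹) = g * F.ψ z * g⁻¹ * x := h
      calc _ = g⁻¹ * (x * (g * F.ψ z * g⁻¹)) * g := by group
        _ = _ := by rw [h']; group)
    refine ⟨y, ?_⟩
    change g * F.ψ y * g⁻¹ = x
    rw [hy]; group

theorem conj_apply (g : G) (x : Hol) : (F.conj g).ψ x = g * F.ψ x * g⁻¹ := rfl

theorem comm {x y : Hol} (h : x * y = y * x) : F.ψ x * F.ψ y = F.ψ y * F.ψ x := by
  rw [← map_mul, h, map_mul]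

theorem comm_of {x y : Hol} (h : F.ψ x * F.ψ y = F.ψ y * F.ψ x) : x * y = y * x :=
  F.inj (by rwa [map_mul, map_mul])

theorem comm_z (x : Hol) : F.ψ x * F.ψ z = F.ψ z * F.ψ x := F.comm (z_comm x)

theorem sq {x : Hol} (h : x * x = 1) : F.ψ x * F.ψ x = 1 := by rw [← map_mul, h, map_one]

theorem sq_of {x : Hol} (h : F.ψ x * F.ψ x = 1) : x * x = 1 :=
  F.inj (by rwa [map_mul, map_one])

theorem ne_one {x : Hol} (h : x ≠ 1) : F.ψ x ≠ 1 := fun h' => h (F.inj (by rwa [map_one]))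

theorem isConj {x y : Hol} (h : ∃ g, g * x * g⁻¹ = y) : IsConj (F.ψ x) (F.ψ y) := by
  obtain ⟨g, rfl⟩ := h
  exact isConj_iff.mpr ⟨F.ψ g, by simp only [map_mul, map_inv]⟩

theorem isConj_conj (g : G) (x : Hol) : IsConj (F.ψ x) ((F.conj g).ψ x) :=
  isConj_iff.mpr ⟨g, rfl⟩

theorem exists_of {u : G} (h : IsConj (F.ψ z) u) :
    ∃ F' : Fr G, F'.ψ z = u ∧ ∀ x, IsConj (F.ψ x) (F'.ψ x) := by
  obtain ⟨g, rfl⟩ := isConj_iff.mp h
  exact ⟨F.conj g, rfl, F.isConj_conj g⟩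

theorem A_of_swap {F F' : Fr G} {x x' : Hol} (h : F'.ψ z = F.ψ x) (h' : F.ψ z = F'.ψ x')
    (hx : A x ∨ B x) : A x' := by
  obtain ⟨y, hy, hy2⟩ := exists_sq x hx
  obtain ⟨y', hy'⟩ := F'.cent (F.ψ y) (by rw [h]; exact F.comm hy)
  have e : y' * y' = x' := F'.inj (by rw [map_mul, hy', ← map_mul, hy2, h'])
  have e2 : x' * x' = 1 := F'.sq_of (by rw [← h']; exact F.sq z_sq)
  rcases e ▸ sq_cases y' with h1 | h1 | h1 | h1
  · exact absurd (h'.trans (by rw [h1, map_one])) (F.ne_one z_ne)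
  · have : x = z := F.inj (by rw [← h, h', h1])
    exact absurd this (hx.elim (fun h => (A_spec x h).2.2.1) fun h => (B_spec x h).2.2)
  · exact h1
  · exact absurd e2 h1

theorem not_B_of {F F' : Fr G} {x : Hol} (h : F'.ψ z = F.ψ x) : ¬ B x := fun hx => by
  obtain ⟨x', hx'⟩ := F'.cent (F.ψ z) (by rw [h]; exact (F.comm_z x).symm)
  exact (A_spec x (A_of_swap hx'.symm h (Or.inl (A_of_swap h hx'.symm (Or.inr hx))))).2.2.2.1 hx

theorem not_conj_B {x : Hol} (hx : B x) : ¬ IsConj (F.ψ z) (F.ψ x) := fun h => by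
  obtain ⟨F', h1, -⟩ := F.exists_of h
  exact not_B_of h1 hx

theorem conj_cases {x : Hol} (h : IsConj (F.ψ z) (F.ψ x)) : x = z ∨ A x ∨ C x := by
  obtain ⟨g, hg⟩ := isConj_iff.mp h
  rcases invol x (F.sq_of (by rw [← hg, conj_mul, F.sq z_sq]; group)) with h1 | h1 | h1 | h1 | h1
  · rw [h1, map_one, isConj_one_left] at h
    exact absurd h (F.ne_one z_ne)
  · exact Or.inl h1
  · exact Or.inr (Or.inl h1)
  · exact absurd h (F.not_conj_B h1)
  · exact Or.inr (Or.inr h1)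

theorem pow_eight {u t o : G} (hu : IsConj (F.ψ z) u) (ht : t * t = 1) (ht1 : t ≠ 1) (htu : t ≠ u)
    (h1 : t * u = u * t) (h2 : o * u = u * o) (h3 : o * t = t * o) : o ^ 8 = 1 := by
  obtain ⟨F', rfl, -⟩ := F.exists_of hu
  obtain ⟨x, rfl⟩ := F'.cent t h1
  obtain ⟨y, rfl⟩ := F'.cent o h2
  rw [← map_pow, two_elt x (F'.sq_of ht) (fun h => ht1 (by rw [h, map_one]))
    (fun h => htu (by rw [h])) y (F'.comm_of h3), map_one]

variable [Finite G]

theorem exists_conj_central (T : Sylow 2 G) {w : G} (hw : orderOf w = 2)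
    (hc : ∀ s ∈ (T : Subgroup G), s * w = w * s) : ∃ h, h * w * h⁻¹ = F.ψ z := by
  obtain ⟨h, -, hh⟩ := H9.exists_conj_mem_sylow T (H := ⊤) (isPGroup_P0.map F.ψ) le_top le_top
  have key : ∀ y ∈ P0, F.ψ y * (h * w * h⁻¹) = h * w * h⁻¹ * F.ψ y := fun y hy => by
    have := conj_comm h (hc _ (hh _ (mem_map_of_mem _ hy)))
    simpa [mul_assoc] using this
  obtain ⟨x, hx⟩ := F.cent _ (key z (by decide +kernel : msk _ z)).symm
  have hx2 : orderOf (F.ψ x) = 2 := by rw [hx, H9.orderOf_conj, hw]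
  refine ⟨h, ?_⟩
  rw [← hx, central x (F.sq_of (H9.mul_self_of_orderOf_two hx2))
    (fun h => H9.ne_one_of_orderOf_two hx2 (by rw [h, map_one]))
    fun y hy => F.comm_of (by rw [hx]; exact key y hy)]

theorem exists_isConj {x : G} (hx : orderOf x = 2) : ∃ y, IsConj (F.ψ y) x := by
  obtain ⟨T, hT⟩ := H6.exists_sylow_mem (p := 2) (x := x)
    ⟨1, by rw [pow_one, ← hx, pow_orderOf_eq_one]⟩
  obtain ⟨w, -, hw, hc⟩ := H9.exists_central_involution_sylow T hx
  obtain ⟨h, hh⟩ := F.exists_conj_central T hw hc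
  obtain ⟨y, hy⟩ := F.cent (h * x * h⁻¹) (by rw [← hh]; exact conj_comm h (hc x hT))
  exact ⟨y, (isConj_iff.mpr ⟨h, hy.symm⟩).symm⟩

variable [IsSimpleGroup G] (hG : ¬ IsMulCommutative G)
include hG

theorem conj_A {x : Hol} (hx : A x) : IsConj (F.ψ z) (F.ψ x) := by
  by_contra hA0
  have hA : ∀ y, A y → ¬ IsConj (F.ψ z) (F.ψ y) := fun y hy h =>
    hA0 ((h.trans (F.isConj (A_conj y hy)).symm).trans (F.isConj (A_conj x hx)))
  have hiso : ¬ H7.Isolated (F.ψ z) := fun h => h.eq_one_or_comm.elim (F.ne_one z_ne) hG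
  obtain ⟨g, hg, hne⟩ : ∃ g, Commute (F.ψ z) (g * F.ψ z * g⁻¹) ∧ g * F.ψ z * g⁻¹ ≠ F.ψ z := by
    by_contra h
    push Not at h
    exact hiso (H7.Isolated.of_commute (F.sq z_sq) h)
  obtain ⟨c, hc⟩ := F.cent _ hg.symm
  have hzc : IsConj (F.ψ z) (F.ψ c) := isConj_iff.mpr ⟨g, hc.symm⟩
  have hC : C c := ((F.conj_cases hzc).resolve_left fun h => hne (by rw [← hc, h])).resolve_left
    fun h => hA c h hzc
  have hC' : ∀ y, C y → IsConj (F.ψ z) (F.ψ y) := fun y hy =>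
    (hzc.trans (F.isConj (C_conj c hC)).symm).trans (F.isConj (C_conj y hy))
  obtain ⟨c', hc'⟩ := (F.conj g).cent (F.ψ z) hg
  have hzc' : IsConj (F.ψ z) (F.ψ c') := hc' ▸ (F.isConj_conj g c').symm
  have hC2 : C c' := ((F.conj_cases hzc').resolve_left fun h => hne (by
    rw [h] at hc'; exact hc')).resolve_left fun h => hA c' h hzc'
  obtain ⟨-, -, a, ha, hac⟩ := C_spec c' hC2
  have key : ∀ a, A a → a * c' = c' * a → ∃ y, F.ψ y = (F.conj g).ψ a ∧ y * c = c * y ∧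
      ¬ (y = 1 ∨ y = z ∨ C y) := fun a ha hac => by
    obtain ⟨y, hy⟩ := F.cent ((F.conj g).ψ a) (by rw [← hc']; exact (F.conj g).comm hac)
    have h1 : IsConj (F.ψ a) (F.ψ y) := hy ▸ F.isConj_conj g a
    refine ⟨y, hy, F.comm_of (by rw [hy, hc]; exact (F.conj g).comm_z a), ?_⟩
    rintro (h | h | h)
    · rw [h, map_one, isConj_one_left] at h1
      exact F.ne_one (A_spec a ha).2.1 h1
    · exact hA a ha (h ▸ h1.symm)
    · exact hA a ha ((hC' y h).trans h1.symm)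
  obtain ⟨y, e, h1, h2⟩ := key a ha hac
  obtain ⟨y', e', h1', h2'⟩ := key (z * a) (A_spec a ha).2.2.2.2 (by
    rw [mul_assoc, hac, ← mul_assoc, ← z_comm, mul_assoc])
  rw [map_mul, ← e] at e'
  rcases C_cent c hC y h1 h2 y' h1' h2' with h | h
  · rw [h, right_eq_mul] at e'
    exact (F.conj g).ne_one z_ne e'
  · rw [h, map_mul, mul_left_inj] at e'
    exact hne e'.symm

omit [IsSimpleGroup G] hG in
/-- A four-group of conjugates of `z` acts without fixed points on odd order subgroups of the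
centraliser of `t`. -/
theorem core_eq_bot {t a : G} (ht : t * t = 1) (ht1 : t ≠ 1) (htz : ¬ IsConj (F.ψ z) t)
    (hz : F.ψ z * t = t * F.ψ z) (ha : a * t = t * a) (h1 : IsConj (F.ψ z) a)
    (h2 : IsConj (F.ψ z) (F.ψ z * a)) :
    pPrimeCore 2 (centralizer ({t} : Set G)) = ⊥ := by
  have hone : ∀ o ∈ pPrimeCore 2 (centralizer ({t} : Set G)), o ^ 8 = 1 → o = 1 := fun o ho h =>
    orderOf_eq_one_iff.mp (Nat.eq_one_of_dvd_coprimes
      ((L0.card_pPrimeCore_coprime (p := 2)).pow_right 3) (Subgroup.orderOf_dvd_natCard _ ho)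
      (orderOf_dvd_of_pow_eq_one h))
  have key : ∀ v : centralizer ({t} : Set G), IsConj (F.ψ z) v →
      ∀ o ∈ pPrimeCore 2 (centralizer ({t} : Set G)), v * o * v⁻¹ = o⁻¹ := fun v hv o ho => by
    obtain ⟨g, hg⟩ := isConj_iff.mp hv
    refine inverts_of_fpf _ (Subtype.ext ?_) (fun o ho h => hone o ho (Subtype.ext ?_)) ho
    · change (v : G) * v = 1
      rw [← hg, conj_mul, F.sq z_sq]; group
    · exact F.pow_eight hv ht ht1 (fun h => htz (h ▸ hv))
        (mem_centralizer_singleton_iff.mp v.2).symm (congrArg Subtype.val h)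
        (mem_centralizer_singleton_iff.mp o.2)
  refine (eq_bot_iff_forall _).mpr fun o ho => hone o ho ?_
  have e1 := key ⟨_, mem_centralizer_singleton_iff.mpr hz⟩ (IsConj.refl _) _ (inv_mem ho)
  have e2 := key ⟨_, mem_centralizer_singleton_iff.mpr ha⟩ h1 o ho
  have e3 := key (⟨_, mem_centralizer_singleton_iff.mpr hz⟩ *
    ⟨_, mem_centralizer_singleton_iff.mpr ha⟩) h2 o ho
  rw [mul_inv_rev, ← mul_assoc, mul_assoc _ _ o, mul_assoc _ (_ * o), e2, e1, inv_inv] at e3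
  rw [show 8 = 2 * 4 from rfl, pow_mul, pow_two, mul_eq_one_iff_eq_inv.mpr e3, one_pow]

theorem conj_C {x : Hol} (hx : C x) : IsConj (F.ψ z) (F.ψ x) := by
  by_contra hC0
  have hC : ∀ y, IsConj (F.ψ z) (F.ψ y) → y = z ∨ A y := fun y hy =>
    (F.conj_cases hy).imp_right fun h => h.resolve_right fun h =>
      hC0 ((hy.trans (F.isConj (C_conj y h)).symm).trans (F.isConj (C_conj x hx)))
  -- commuting is transitive on the conjugates of `z`
  have hE : ∀ u v w, IsConj (F.ψ z) u → IsConj (F.ψ z) v → IsConj (F.ψ z) w → u * w = w * u →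
      v * w = w * v → u * v = v * u := fun u v w hu hv hw h1 h2 => by
    obtain ⟨F', rfl, hF⟩ := F.exists_of hw
    obtain ⟨y, rfl⟩ := F'.cent u h1
    obtain ⟨y', rfl⟩ := F'.cent v h2
    rcases hC y (hu.trans (hF y).symm) with rfl | h3
    · exact h2.symm
    rcases hC y' (hv.trans (hF y').symm) with rfl | h4
    · exact h1
    exact F'.comm (A_comm y h3 y' h4)
  have hB : ∀ b, B b → ∀ g, g * F.ψ b = F.ψ b * g → g * F.ψ z = F.ψ z * g := fun b hb g hg => by
    obtain ⟨⟨w, hw, hwb⟩, ⟨a, ha, hab⟩, h3, -⟩ := B_comm b hb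
    obtain ⟨hb2, hb1, -⟩ := B_spec b hb
    have h0 := F.core_eq_bot (F.sq hb2) (F.ne_one hb1) (F.not_conj_B hb) (F.comm_z b).symm
      (F.comm hab) (F.conj_A hG ha) (map_mul F.ψ z a ▸ F.conj_A hG (A_spec a ha).2.2.2.2)
    have hiso : H7.Isolated (⟨F.ψ z, mem_centralizer_singleton_iff.mpr (F.comm_z b).symm⟩ :
        centralizer ({F.ψ b} : Set G)) := by
      refine H7.Isolated.of_commute (Subtype.ext (F.sq z_sq)) fun g hg => Subtype.ext ?_
      have hg' : F.ψ z * (F.conj g).ψ z = (F.conj g).ψ z * F.ψ z := congrArg Subtype.val hg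
      change (F.conj g).ψ z = F.ψ z
      have e : (F.conj g).ψ b = F.ψ b := by
        rw [conj_apply, mem_centralizer_singleton_iff.mp g.2, mul_inv_cancel_right]
      have h4 := (F.conj_A hG hw).trans (F.isConj_conj g w)
      obtain ⟨y, hy⟩ := F.cent _ (hE _ _ _ h4 (IsConj.refl _) (F.isConj_conj g z)
        ((F.conj g).comm_z w) hg')
      have h5 := congrArg (F.conj g).ψ hwb
      rw [map_mul, map_mul, map_mul, e, ← hy, ← map_mul, ← map_mul] at h5
      have h6 : y * b = b * y ∨ y * b = z * (b * y) := by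
        rcases hC y (hy ▸ h4) with rfl | h
        · exact Or.inl (z_comm b).symm
        · exact h3 y h
      rcases h6 with h6 | h6
      · rw [h6, right_eq_mul] at h5
        exact absurd h5 ((F.conj g).ne_one z_ne)
      · rw [h6, map_mul, mul_left_inj] at h5
        exact h5.symm
    exact congrArg Subtype.val (mem_center_iff.mp (hiso.mem_center h0)
      ⟨g, mem_centralizer_singleton_iff.mpr hg⟩)
  obtain ⟨g, hg⟩ := H9.exists_not_comm_of_simple hG (F.ne_one z_ne) (F.ne_one z_ne)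
  have hu := F.isConj_conj g z
  obtain ⟨n, h1, h2, h3⟩ := H9.exists_central_involution_of_not_isConj ((F.conj g).sq z_sq)
    (F.sq (B_spec b0 B_b0).1) fun h => F.not_conj_B B_b0 (hu.trans h)
  obtain ⟨y, hy⟩ := F.cent _ (hB b0 B_b0 _ h3)
  rw [← hy] at h1 h2 h3
  rcases invol y (F.sq_of (H9.mul_self_of_orderOf_two h1)) with h | h | h | h | h
  · exact H9.ne_one_of_orderOf_two h1 (by rw [h, map_one])
  · exact hg (h ▸ h2).symm
  · exact hg (hE _ _ _ hu (IsConj.refl _) (F.conj_A hG h) h2.symm (F.comm_z y).symm)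
  · exact hg (hB y h _ h2.symm)
  · exact (B_comm b0 B_b0).2.2.2 y h (F.comm_of h3)

theorem conj_iff {x : Hol} : IsConj (F.ψ z) (F.ψ x) ↔ x = z ∨ A x ∨ C x :=
  ⟨F.conj_cases, fun h => h.elim (fun h => h ▸ IsConj.refl _) fun h =>
    h.elim (F.conj_A hG) (F.conj_C hG)⟩

theorem two_classes {x : G} (hx : orderOf x = 2) : IsConj x (F.ψ z) ∨ IsConj x (F.ψ b0) := by
  obtain ⟨y, hy⟩ := F.exists_isConj hx
  have h1 : orderOf (F.ψ y) = 2 := (H6.orderOf_eq_of_isConj hy).trans hx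
  rcases invol y (F.sq_of (H9.mul_self_of_orderOf_two h1)) with h | h | h | h | h
  · exact absurd (by rw [h, map_one]) (H9.ne_one_of_orderOf_two h1)
  · exact Or.inl (h ▸ hy.symm)
  · exact Or.inl (hy.symm.trans (F.conj_A hG h).symm)
  · exact Or.inr (hy.symm.trans (F.isConj (B_conj y h)).symm)
  · exact Or.inl (hy.symm.trans (F.conj_C hG h).symm)

end Fr

end Cfsg.Agent.H3
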