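import Cfsg.Agent.H3.Wong1
import Cfsg.Agent.H3.M12d
import Cfsg.Agent.H5.OrderFormula
import Cfsg.Agent.H9.FourGroup
import Cfsg.Agent.H6.Transfer
import Cfsg.Agent.H6.Sieve

/-!
# The order of a simple group with the involution centraliser of the Mathieu group of degree 12
-/

set_option autoImplicit false

namespace Cfsg.Agent.H3

open Subgroup Hol

namespace Hol

/-- Another involution. -/
def s0 : Hol := mk 20
/-- The centraliser of `b0`. -/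
def S0 : Subgroup Hol := sub 3425946675 (by decide +kernel)
/-- A four-group. -/
def V0 : Subgroup Hol := sub 196611 (by decide +kernel)
/-- A maximal subgroup of `S0`. -/
def M1 : Subgroup Hol := sub 201526275 (by decide +kernel)
/-- A maximal subgroup of `S0`. -/
def M2 : Subgroup Hol := sub 3342387 (by decide +kernel)

instance (x : Hol) : Decidable (x ∈ S0) := inferInstanceAs (Decidable (msk _ x))
instance (x : Hol) : Decidable (x ∈ V0) := inferInstanceAs (Decidable (msk _ x))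
instance (x : Hol) : Decidable (x ∈ M1) := inferInstanceAs (Decidable (msk _ x))
instance (x : Hol) : Decidable (x ∈ M2) := inferInstanceAs (Decidable (msk _ x))

theorem card_S0 : Nat.card S0 = 16 := (card_sub _ _).trans (by decide +kernel)
theorem card_V0 : Nat.card V0 = 4 := (card_sub _ _).trans (by decide +kernel)
theorem mem_S0 : ∀ x, x ∈ S0 ↔ x * b0 = b0 * x := by decide +kernel
theorem mem_V0 : ∀ x, x ∈ V0 ↔ x = 1 ∨ x = z ∨ x = a0 ∨ x = z * a0 := by decide +kernel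
theorem S0_spec : ∀ x ∈ S0, x ^ 2 ^ 2 = 1 ∧ (x * x = 1 ∨ x * x = z) ∧
    (x = z ∨ A x ∨ C x → x = z ∨ x = a0 ∨ x = z * a0) ∧
    (x ∈ V0 ∨ x * b0 ∈ V0 ∨ x * s0 ∈ V0 ∨ x * (s0 * b0) ∈ V0) := by decide +kernel
theorem V0_spec : ∀ x ∈ V0, x * x = 1 ∧ x ∈ S0 ∧ ¬ B x ∧ ∀ y ∈ V0, x * y = y * x := by
  decide +kernel
theorem M1_spec : ∀ x ∈ M1, x ∈ V0 ∨ x * b0 ∈ V0 := by decide +kernel
theorem idx_M1 : M1.relIndex S0 = 2 := relIndex_eq_two_iff.mpr ⟨s0, by decide +kernel⟩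
theorem idx_M2 : M2.relIndex S0 = 2 := relIndex_eq_two_iff.mpr ⟨b0, by decide +kernel⟩
theorem B_swap : ∀ y, B y → y * a0 = a0 * y → ∃ h, h * b0 * h⁻¹ = y ∧ h⁻¹ * a0 * h = a0 := by
  decide +kernel
theorem s0_spec : B s0 ∧ B (s0 * b0) ∧ B (z * b0) ∧ s0 ∈ S0 ∧ b0 ∉ M2 ∧ b0 ∈ S0 ∧ z ∈ V0 ∧
    a0 ∈ V0 ∧ s0 * a0 * s0⁻¹ = z * a0 ∧ s0 * (z * a0) * s0⁻¹ = a0 ∧ mk 4 ∈ S0 ∧ mk 4 * mk 4 = z ∧
    a0 ≠ z * a0 := by decide +kernel
theorem pow_24 : ∀ x : Hol, x ^ 24 = 1 := by decide +kernel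

/-- The pairs counted in the order formula. -/
def Tp (p : Hol × Hol) : Prop :=
  B p.2 ∧ (p.1 = z ∨ A p.1 ∨ C p.1) ∧ ∃ k < 24, (p.1 * p.2) ^ k = z

instance : DecidablePred Tp := fun _ => inferInstanceAs (Decidable (_ ∧ _))

theorem card_Tp : (Finset.univ.filter Tp).card = 240 := by decide +kernel

end Hol

variable {G : Type*} [Group G]

theorem mul_mem_iff_rel {K C : Subgroup G} (h : K.relIndex C = 2) {a b : G} (ha : a ∈ C)
    (hb : b ∈ C) : a * b ∈ K ↔ (a ∈ K ↔ b ∈ K) :=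
  mul_mem_iff_of_index_two (H := K.subgroupOf C) h (a := ⟨a, ha⟩) (b := ⟨b, hb⟩)

theorem conj_mem_iff_rel {K C : Subgroup G} (h : K.relIndex C = 2) {g x : G} (hg : g ∈ C)
    (hx : x ∈ C) : g * x * g⁻¹ ∈ K ↔ x ∈ K := by
  rw [mul_mem_iff_rel h (mul_mem hg hx) (inv_mem hg), mul_mem_iff_rel h hg hx, inv_mem_iff]
  tauto

theorem transfer_rel [Finite G] {C S M : Subgroup G} (hS : S ≤ C) (ho : ¬ 2 ∣ S.relIndex C)
    (hM : M.relIndex S = 2) {x : G} (hx : x ∈ C) (hx2 : x * x = 1)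
    (h : ∀ g ∈ C, g⁻¹ * x * g ∉ M) : ∃ K : Subgroup G, K.relIndex C = 2 ∧ x ∉ K := by
  obtain ⟨K, h1, h2⟩ := H6.exists_index_two_of_not_conj (G := C) (H := S.subgroupOf C)
    (M := M.subgroupOf C) (Nat.odd_iff.mpr (Nat.two_dvd_ne_zero.mp ho))
    (by rw [relIndex_subgroupOf hS, hM]) (x := ⟨x, hx⟩) ⟨1, Subtype.ext (by simpa [sq] using hx2)⟩
    (fun g => h g g.2) fun k g hk _ => by
      obtain ⟨k, rfl⟩ := Nat.exists_eq_succ_of_ne_zero hk.ne'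
      have : (⟨x, hx⟩ : C) ^ 2 = 1 := Subtype.ext (by simpa [sq] using hx2)
      rw [pow_succ', pow_mul, this, one_pow, mul_one, inv_mul_cancel]
      exact one_mem _
  refine ⟨K.map C.subtype, ?_, fun ⟨y, hy, e⟩ => h2 ((Subtype.ext e : y = ⟨x, hx⟩) ▸ hy)⟩
  rw [relIndex, subgroupOf, comap_map_eq_self_of_injective C.subtype_injective, h1]

theorem card_eq_orbit_mul [Finite G] (K : Subgroup G) (x : G) :
    Nat.card K = {u | ∃ g ∈ K, g * x * g⁻¹ = u}.ncard *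
      Nat.card (K ⊓ centralizer ({x} : Set G) : Subgroup G) := by
  refine H6.ncard_eq_mul_of_fibers (fun g => g * x * g⁻¹) (K : Set G)
    {u | ∃ g ∈ K, g * x * g⁻¹ = u} (fun g hg => ⟨g, hg, rfl⟩) ?_
  rintro _ ⟨k, hk, rfl⟩
  rw [← H6.ncard_subgroup]
  refine Set.ncard_congr (fun g _ => k⁻¹ * g) ?_ (fun a b _ _ h => mul_left_cancel h) ?_
  · rintro g ⟨h1, h2⟩
    refine ⟨K.mul_mem (K.inv_mem hk) h1, mem_centralizer_singleton_iff.mpr ?_⟩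
    calc k⁻¹ * g * x = k⁻¹ * (g * x * g⁻¹) * g := by group
      _ = _ := by rw [h2]; group
  · rintro g ⟨h1, h2⟩
    refine ⟨k * g, ⟨K.mul_mem hk h1, ?_⟩, by group⟩
    rw [mul_assoc k g x, mem_centralizer_singleton_iff.mp h2]; group

theorem three_dvd_orderOf {g x y w : G} (h1 : g * x * g⁻¹ = y) (h2 : g * y * g⁻¹ = w)
    (h3 : g * w * g⁻¹ = x) (hy : y ≠ x) (hw : w ≠ x) : 3 ∣ orderOf g := by
  have key : ∀ k : ℕ, g ^ (3 * k) * x * (g ^ (3 * k))⁻¹ = x := fun k => by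
    induction k with
    | zero => simp
    | succ k ih =>
      calc _ = g * (g * (g * (g ^ (3 * k) * x * (g ^ (3 * k))⁻¹) * g⁻¹) * g⁻¹) * g⁻¹ := by group
        _ = x := by rw [ih, h1, h2, h3]
  have e := pow_orderOf_eq_one g
  have h := key (orderOf g / 3)
  by_contra hn
  rcases (by omega : orderOf g = 3 * (orderOf g / 3) + 1 ∨
    orderOf g = 3 * (orderOf g / 3) + 2) with h4 | h4
  · rw [h4, pow_succ', mul_eq_one_iff_inv_eq] at e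
    rw [← e] at h
    exact hy (by rw [← h1]; nth_rw 1 [← h]; group)
  · rw [h4, pow_succ', pow_succ', ← mul_assoc, mul_eq_one_iff_inv_eq] at e
    rw [← e] at h
    exact hw (by rw [← h2, ← h1]; nth_rw 1 [← h]; group)

namespace Fr

variable (F : Fr G)

/-- The centraliser of `b0`. -/
def Ct : Subgroup G := centralizer {F.ψ b0}

/-- The conjugates of `z` commuting with `b0`. -/
def Zs : Set G := {u | IsConj (F.ψ z) u ∧ u ∈ F.Ct}

theorem mem_Ct {g : G} : g ∈ F.Ct ↔ g * F.ψ b0 = F.ψ b0 * g := mem_centralizer_singleton_iff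

theorem map_mem_Ct {x : Hol} (h : x ∈ S0) : F.ψ x ∈ F.Ct :=
  F.mem_Ct.mpr (F.comm ((mem_S0 x).mp h))

theorem exists_S0 {g : G} (h : g ∈ F.Ct) (h' : g * F.ψ z = F.ψ z * g) : ∃ x ∈ S0, F.ψ x = g := by
  obtain ⟨x, rfl⟩ := F.cent g h'
  exact ⟨x, (mem_S0 x).mpr (F.comm_of (F.mem_Ct.mp h)), rfl⟩

theorem conj_b0 {g : G} (h : g ∈ F.Ct) : g * F.ψ b0 * g⁻¹ = F.ψ b0 := by
  rw [F.mem_Ct.mp h, mul_inv_cancel_right]

theorem S_le : S0.map F.ψ ≤ F.Ct := by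
  rintro _ ⟨x, hx, rfl⟩; exact F.map_mem_Ct hx

theorem isConj_B {x : Hol} (h : B x) : IsConj (F.ψ b0) (F.ψ x) := F.isConj (B_conj x h)

variable [Finite G]

theorem odd_S : ¬ 2 ∣ (S0.map F.ψ).relIndex F.Ct := fun h => by
  have hp : IsPGroup 2 S0 := fun x => ⟨2, Subtype.ext (S0_spec x x.2).1⟩
  obtain ⟨g, h1, h2, h3, -⟩ := H9.exists_mem_normalizer_of_dvd_relIndex (hp.map F.ψ) F.S_le h
  obtain ⟨-, -, -, -, -, -, -, -, -, -, h4, h5, -⟩ := s0_spec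
  obtain ⟨y, hy, e⟩ := H9.conj_mem_of_mem_normalizer h3 (mem_map_of_mem F.ψ h4)
  have e2 : F.ψ (y * y) = g * F.ψ z * g⁻¹ := by rw [map_mul, e, conj_mul, ← map_mul, h5]
  rcases (S0_spec y hy).2.1 with h6 | h6 <;> rw [h6] at e2
  · exact (F.conj g).ne_one z_ne (e2.symm.trans (map_one _))
  · exact h2 (F.exists_S0 h1 (mul_inv_eq_iff_eq_mul.mp e2.symm))

variable [IsSimpleGroup G] (hG : ¬ IsMulCommutative G)
include hG

theorem exists_cycle : ∃ g ∈ F.Ct, g * F.ψ z * g⁻¹ = F.ψ a0 ∧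
    g * F.ψ a0 * g⁻¹ = F.ψ (z * a0) ∧ g * F.ψ (z * a0) * g⁻¹ = F.ψ z := by
  obtain ⟨g, hg⟩ := isConj_iff.mp (F.conj_A hG A_a0)
  obtain ⟨x, hx⟩ := (F.conj g).cent (F.ψ z) (by rw [conj_apply, hg]; exact (F.comm_z _).symm)
  obtain ⟨h, rfl⟩ := A_conj x (A_of_swap (F' := F.conj g) hg hx.symm (Or.inl A_a0))
  obtain ⟨g, e1, e2⟩ : ∃ g, (F.conj g).ψ z = F.ψ a0 ∧ (F.conj g).ψ a0 = F.ψ z := by
    refine ⟨g * F.ψ h, ?_, ?_⟩
    · rw [conj_apply, mul_assoc g, F.comm_z, ← hg]; group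
    · rw [← hx, conj_apply, conj_apply, map_mul, map_mul, map_inv]; group
  obtain ⟨hB1, -, -, hs, -, hb, -, ha, h1, h2, -⟩ := s0_spec
  obtain ⟨y, hy⟩ := F.cent ((F.conj g).ψ b0) (by
    rw [← e2]; exact (F.conj g).comm ((mem_S0 _).mp (V0_spec _ ha).2.1).symm)
  have hc : IsConj (F.ψ b0) (F.ψ y) := hy ▸ F.isConj_conj g b0
  have hB : B y := by
    rcases invol y (F.sq_of (hy ▸ (F.conj g).sq (B_spec _ B_b0).1)) with h | h | h | h | h
    · exact absurd (hy.symm.trans (by rw [h, map_one])) ((F.conj g).ne_one (B_spec _ B_b0).2.1)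
    all_goals first
      | exact h
      | exact absurd (((F.conj_iff hG).mpr (by tauto)).trans hc.symm) (F.not_conj_B B_b0)
  obtain ⟨k, hk, hk'⟩ := B_swap y hB (F.comm_of (by rw [hy, ← e1]; exact (F.conj g).comm_z _))
  rw [conj_apply] at e1 e2 hy
  have hsz := F.comm_z s0
  have hkz := F.comm_z k⁻¹
  have f1 := congrArg F.ψ h1
  have f2 := congrArg F.ψ h2
  have f3 := congrArg F.ψ hk
  have f4 := congrArg F.ψ hk'
  simp only [map_mul, map_inv] at f1 f2 f3 f4 hkz ⊢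
  have g1 : (F.ψ k)⁻¹ * g * F.ψ z * ((F.ψ k)⁻¹ * g)⁻¹ = F.ψ a0 := by
    rw [← f4, ← e1]; group
  have g2 : (F.ψ k)⁻¹ * g * F.ψ a0 * ((F.ψ k)⁻¹ * g)⁻¹ = F.ψ z := by
    calc _ = (F.ψ k)⁻¹ * (g * F.ψ a0 * g⁻¹) * F.ψ k := by group
      _ = _ := by rw [e2, hkz]; group
  refine ⟨(F.ψ k)⁻¹ * g * F.ψ s0, mul_mem (F.mem_Ct.mpr ?_) (F.map_mem_Ct hs), ?_, ?_, ?_⟩
  · calc _ = (F.ψ k)⁻¹ * (g * F.ψ b0 * g⁻¹) * g := by group
      _ = _ := by rw [← hy, ← f3]; group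
  · rw [mul_assoc _ (F.ψ s0), hsz, ← g1]; group
  · calc _ = (F.ψ k)⁻¹ * g * (F.ψ s0 * F.ψ a0 * (F.ψ s0)⁻¹) * ((F.ψ k)⁻¹ * g)⁻¹ := by group
      _ = _ := by rw [f1, ← conj_mul, g1, g2, F.comm_z]
  · calc _ = (F.ψ k)⁻¹ * g * (F.ψ s0 * (F.ψ z * F.ψ a0) * (F.ψ s0)⁻¹) * ((F.ψ k)⁻¹ * g)⁻¹ := by
          group
      _ = _ := by rw [f2, g2]

theorem mem_Zs {u : G} : u ∈ F.Zs ↔ ∃ g ∈ F.Ct, g * F.ψ z * g⁻¹ = u := by
  have hz := F.map_mem_Ct (V0_spec _ s0_spec.2.2.2.2.2.2.1).2.1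
  refine ⟨fun ⟨h1, h2⟩ => ?_, ?_⟩
  · have hu : u * u = 1 := by
      obtain ⟨g, rfl⟩ := isConj_iff.mp h1
      exact (F.conj g).sq z_sq
    obtain ⟨h, hh, h3⟩ := H9.exists_conj_mem_of_not_dvd_relIndex
      (H9.isPGroup_zpowers (p := 2) ⟨1, by rwa [pow_one, pow_two]⟩) (zpowers_le.mpr h2) F.odd_S
    obtain ⟨x, hx, e⟩ := h3 u (mem_zpowers u)
    obtain ⟨g, hg, g1, g2, -⟩ := F.exists_cycle hG
    have e' : u = h * F.ψ x * h⁻¹ := by rw [e]; group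
    rcases (S0_spec x hx).2.2.1 ((F.conj_iff hG).mp (h1.trans (isConj_iff.mpr ⟨h⁻¹, by
      rw [e, inv_inv]⟩))) with rfl | rfl | rfl
    · exact ⟨h, hh, e'.symm⟩
    · exact ⟨h * g, mul_mem hh hg, by rw [e', ← g1]; group⟩
    · exact ⟨h * g * g, mul_mem (mul_mem hh hg) hg, by rw [e', ← g2, ← g1]; group⟩
  · rintro ⟨g, hg, rfl⟩
    exact ⟨isConj_iff.mpr ⟨g, rfl⟩, mul_mem (mul_mem hg hz) (inv_mem hg)⟩

theorem card_Ct : Nat.card F.Ct = F.Zs.ncard * 16 := by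
  have : F.Ct ⊓ centralizer {F.ψ z} = S0.map F.ψ :=
    le_antisymm (fun g hg => F.exists_S0 hg.1 (mem_centralizer_singleton_iff.mp hg.2))
      (le_inf F.S_le (by
        rintro _ ⟨x, -, rfl⟩; exact mem_centralizer_singleton_iff.mpr (F.comm_z x)))
  rw [card_eq_orbit_mul F.Ct (F.ψ z), this, card_map_of_injective F.inj, card_S0]
  congr 2
  exact Set.ext fun u => (F.mem_Zs hG).symm

theorem Zs_subset {K : Subgroup G} (hK : K.relIndex F.Ct = 2) : ∀ u ∈ F.Zs, u ∈ K := by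
  obtain ⟨g, hg, g1, g2, -⟩ := F.exists_cycle hG
  obtain ⟨-, -, -, -, -, -, h1, h2, -⟩ := s0_spec
  have hz := F.map_mem_Ct (V0_spec _ h1).2.1
  have ha := F.map_mem_Ct (V0_spec _ h2).2.1
  have e1 := conj_mem_iff_rel hK hg hz
  have e2 := conj_mem_iff_rel hK hg ha
  rw [g1] at e1
  rw [g2, map_mul, mul_mem_iff_rel hK hz ha] at e2
  intro u hu
  obtain ⟨h, hh, rfl⟩ := (F.mem_Zs hG).mp hu
  rw [conj_mem_iff_rel hK hh hz]
  tauto

/-- The normal subgroup of index four in the centraliser of `b0`. -/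
theorem exists_K : ∃ K : Subgroup G, K ≤ F.Ct ∧ K.relIndex F.Ct ≤ 8 ∧
    (∀ g ∈ F.Ct, g * g ∈ K) ∧ (∀ g ∈ F.Ct, ∀ x ∈ K, g * x * g⁻¹ ∈ K) ∧ (∀ u ∈ F.Zs, u ∈ K) ∧
    ∀ x ∈ S0, F.ψ x ∈ K ↔ x ∈ V0 := by
  obtain ⟨h1, h2, -, h3, h4, h5, h6, h7, -⟩ := s0_spec
  have key : ∀ s ∈ S0, B s → B (s * b0) → ∃ K : Subgroup G, K.relIndex F.Ct = 2 ∧ F.ψ s ∉ K :=
    fun s hs hB hB' => by
      refine transfer_rel F.S_le F.odd_S
        ((relIndex_map_map_of_injective _ _ F.inj).trans idx_M1) (F.map_mem_Ct hs)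
        (F.sq (B_spec s hB).1) ?_
      rintro g hg ⟨x, hx, e⟩
      have k1 : ∀ s x, B s → x ∈ V0 → F.ψ x ≠ g⁻¹ * F.ψ s * g := fun s x hs hx e => by
        have hc : IsConj (F.ψ s) (F.ψ x) := isConj_iff.mpr ⟨g⁻¹, by rw [e, inv_inv]⟩
        rcases (mem_V0 x).mp hx with h | h
        · rw [h, map_one, isConj_one_left] at hc
          exact F.ne_one (B_spec s hs).2.1 hc
        · refine F.not_conj_B hs (((F.conj_iff hG).mpr ?_).trans hc.symm)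
          rcases h with rfl | rfl | rfl
          exacts [Or.inl rfl, Or.inr (Or.inl A_a0), Or.inr (Or.inl (A_spec _ A_a0).2.2.2.2)]
      rcases M1_spec x hx with h | h
      · exact k1 s x hB h e
      · refine k1 _ _ hB' h ?_
        rw [map_mul, map_mul, e, mul_assoc, F.mem_Ct.mp hg]; group
  obtain ⟨K1, i1, n1⟩ := key s0 h3 h1 h2
  obtain ⟨K2, i2, n2⟩ := key (s0 * b0) (mul_mem h3 h5) h2
    (by rwa [mul_assoc, (B_spec _ B_b0).1, mul_one])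
  obtain ⟨K3, i3, n3⟩ := transfer_rel F.S_le F.odd_S
    ((relIndex_map_map_of_injective _ _ F.inj).trans idx_M2) (F.map_mem_Ct h5)
    (F.sq (B_spec _ B_b0).1) fun g hg ⟨x, hx, e⟩ => h4 (by
      have : x = b0 := F.inj (e.trans (by rw [mul_assoc, ← F.mem_Ct.mp hg, inv_mul_cancel_left]))
      rwa [← this])
  have hZ : ∀ u ∈ F.Zs, u ∈ K1 ⊓ K2 ⊓ K3 ⊓ F.Ct := fun u hu =>
    ⟨⟨⟨F.Zs_subset hG i1 u hu, F.Zs_subset hG i2 u hu⟩, F.Zs_subset hG i3 u hu⟩, hu.2⟩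
  have hV : ∀ x ∈ V0, F.ψ x ∈ K1 ⊓ K2 ⊓ K3 ⊓ F.Ct := fun x hx => by
    have hz := hZ _ ⟨IsConj.refl _, F.map_mem_Ct (V0_spec _ h6).2.1⟩
    have ha := hZ _ ⟨F.conj_A hG A_a0, F.map_mem_Ct (V0_spec _ h7).2.1⟩
    rcases (mem_V0 x).mp hx with rfl | rfl | rfl | rfl
    exacts [map_one F.ψ ▸ one_mem _, hz, ha, map_mul F.ψ _ _ ▸ mul_mem hz ha]
  refine ⟨K1 ⊓ K2 ⊓ K3 ⊓ F.Ct, inf_le_right, ?_, fun g hg => ?_, fun g hg x hx => ?_, hZ,
    fun x hx => ⟨fun h => ?_, hV x⟩⟩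
  · rw [inf_relIndex_right]
    refine relIndex_inf_le.trans ?_
    rw [i3]
    exact Nat.mul_le_mul_right (m := 4) 2 (relIndex_inf_le.trans (by rw [i1, i2]))
  · exact ⟨⟨⟨(mul_mem_iff_rel i1 hg hg).mpr Iff.rfl, (mul_mem_iff_rel i2 hg hg).mpr Iff.rfl⟩,
      (mul_mem_iff_rel i3 hg hg).mpr Iff.rfl⟩, mul_mem hg hg⟩
  · exact ⟨⟨⟨(conj_mem_iff_rel i1 hg hx.2).mpr hx.1.1.1, (conj_mem_iff_rel i2 hg hx.2).mpr hx.1.1.2⟩,
      (conj_mem_iff_rel i3 hg hx.2).mpr hx.1.2⟩,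
      F.Ct.mul_mem (F.Ct.mul_mem hg hx.2) (F.Ct.inv_mem hg)⟩
  · have k1 : ∀ y, x * y ∈ V0 → F.ψ y ∈ K1 ⊓ K2 ⊓ K3 ⊓ F.Ct := fun y hy => by
      have := mul_mem (inv_mem h) (hV _ hy)
      rwa [map_mul, inv_mul_cancel_left] at this
    rcases (S0_spec x hx).2.2.2 with h' | h' | h' | h'
    exacts [h', absurd (k1 _ h').1.2 n3, absurd (k1 _ h').1.1.1 n1, absurd (k1 _ h').1.1.2 n2]

theorem ncard_Zs : F.Zs.ncard = 3 ∨ F.Zs.ncard = 9 ∨ F.Zs.ncard = 15 := by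
  obtain ⟨K, k1, k2, k3, -, k5, k6⟩ := F.exists_K hG
  obtain ⟨g, hg, g1, g2, g3⟩ := F.exists_cycle hG
  obtain ⟨-, -, -, -, -, -, h1, h2, -, -, -, -, h3⟩ := s0_spec
  have hC := F.card_Ct hG
  have h3 : 3 ∣ Nat.card F.Ct := (three_dvd_orderOf g1 g2 g3
    (fun h => (A_spec _ A_a0).2.2.1 (F.inj h))
    fun h => (A_spec _ (A_spec _ A_a0).2.2.2.2).2.2.1 (F.inj h)).trans (orderOf_dvd_natCard _ hg)
  have h4 := H9.card_mul_relIndex F.S_le
  have h5 := F.odd_S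
  rw [card_map_of_injective F.inj, card_S0] at h4
  have hVK : V0.map F.ψ ≤ K := by
    rintro _ ⟨x, hx, rfl⟩; exact (k6 x (V0_spec x hx).2.1).mpr hx
  have hzK := hVK (mem_map_of_mem _ h1)
  have hc : centralizer {(⟨F.ψ z, hzK⟩ : K)} = (V0.map F.ψ).subgroupOf K := by
    ext c
    rw [mem_centralizer_singleton_iff, mem_subgroupOf, Subtype.ext_iff]
    refine ⟨fun h => ?_, fun ⟨x, _, e⟩ => ?_⟩
    · obtain ⟨x, hx, e⟩ := F.exists_S0 (k1 c.2) h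
      exact ⟨x, (k6 x hx).mp (e ▸ c.2), e⟩
    · change (c : G) * F.ψ z = F.ψ z * c
      rw [← e, F.comm_z]
  have h6 : Nat.card ((V0.map F.ψ).subgroupOf K) = 4 := by
    rw [Nat.card_congr (subgroupOfEquivOfLe hVK).toEquiv, card_map_of_injective F.inj, card_V0]
  have h7 := H9.four_group_index (G := K) h6 (x := ⟨F.ψ z, hzK⟩)
    (fun v ⟨x, hx, e⟩ => Subtype.ext (by
      change (v : G) * v = 1
      rw [show (v : G) = F.ψ x from e.symm]; exact F.sq (V0_spec x hx).1))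
    (H9.orderOf_two_of (fun h => F.ne_one z_ne (congrArg Subtype.val h))
      (Subtype.ext (F.sq z_sq))) (mem_map_of_mem _ h1) (by rw [hc, relIndex_self]; norm_num)
    (fun c h v ⟨y, hy, e⟩ => by
      obtain ⟨x, hx, e'⟩ := hc.le (mem_centralizer_singleton_iff.mpr h)
      refine Subtype.ext ?_
      change (c : G) * v = v * c
      rw [show (v : G) = F.ψ y from e.symm, show (c : G) = F.ψ x from e'.symm]
      exact F.comm ((V0_spec x hx).2.2.2 y hy))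
    (fun v ⟨x, hx, e⟩ hv => by
      have e' : F.ψ x = v := e
      rcases (mem_V0 x).mp hx with rfl | rfl | rfl | rfl
      · exact absurd (Subtype.ext (e'.symm.trans (map_one _))) hv
      · exact isConj_iff.mpr ⟨1, Subtype.ext (by simpa using e')⟩
      · refine isConj_iff.mpr ⟨⟨g * g, k3 g hg⟩⁻¹, Subtype.ext ?_⟩
        change (g * g)⁻¹ * F.ψ z * (g * g)⁻¹⁻¹ = v
        rw [← e', ← g3, ← g2]; group
      · refine isConj_iff.mpr ⟨⟨g * g, k3 g hg⟩, Subtype.ext ?_⟩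
        change g * g * F.ψ z * (g * g)⁻¹ = v
        rw [← e', ← g2, ← g1]; group)
  have h8 := card_mul_index (centralizer {(⟨F.ψ z, hzK⟩ : K)})
  have h9 := H9.card_mul_relIndex k1
  rw [← h8] at h9
  generalize (centralizer {(⟨F.ψ z, hzK⟩ : K)}).index = i at h7 h9
  rw [hc, h6] at h9
  have hp : 0 < Nat.card F.Ct := Nat.card_pos
  generalize K.relIndex F.Ct = m at k2 h9
  interval_cases m <;> omega

theorem ncard_fiber : {v | IsConj (F.ψ b0) v ∧ F.ψ b0 ∈ zpowers (F.ψ z * v)}.ncard + 2 =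
    F.Zs.ncard := by
  obtain ⟨K, k1, -, k3, k4, k5, k6⟩ := F.exists_K hG
  obtain ⟨g, hg, g1, g2, g3⟩ := F.exists_cycle hG
  obtain ⟨-, -, hB, -, -, hb, h1, h2, -, -, -, -, h3⟩ := s0_spec
  have ht := F.sq (B_spec _ B_b0).1
  have hz := F.sq z_sq
  have hzC := F.map_mem_Ct (V0_spec _ h1).2.1
  have hsq : ∀ {x u : G}, x * x = 1 → IsConj x u → u * u = 1 := fun hx h => by
    obtain ⟨g, rfl⟩ := isConj_iff.mp h
    rw [conj_mul, hx]; group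
  have e1 : {v | IsConj (F.ψ b0) v ∧ F.ψ b0 ∈ zpowers (F.ψ z * v)}.ncard =
      {u | u ∈ F.Zs ∧ Odd (orderOf (F.ψ z * u))}.ncard := by
    refine Set.ncard_congr (fun v _ => v * F.ψ b0) ?_ (fun a b _ _ h => mul_right_cancel h) ?_
    · rintro v ⟨h4, h5⟩
      have hv := hsq ht h4
      have hvC := F.mem_Ct.mpr (H5.commute_of_mem_zpowers_mul hz hv ht h5).2
      obtain ⟨k, hk⟩ := mem_powers_iff_mem_zpowers.mpr h5
      have hk' : (F.ψ z * v) ^ k = F.ψ b0 := hk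
      have ho : Odd k := by
        rw [← Nat.not_even_iff_odd]
        rintro ⟨j, rfl⟩
        have := k3 _ (pow_mem (mul_mem hzC hvC) j)
        rw [← pow_add, hk'] at this
        exact (V0_spec _ ((k6 _ hb).mp this)).2.2.1 B_b0
      have hc : Commute (F.ψ z * v) (F.ψ b0) := F.mem_Ct.mp (mul_mem hzC hvC)
      have h6 : Odd (orderOf (F.ψ z * (v * F.ψ b0))) := by
        refine ho.of_dvd_nat (orderOf_dvd_of_pow_eq_one ?_)
        obtain ⟨j, rfl⟩ := ho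
        rw [← mul_assoc, hc.mul_pow, hk', pow_succ', pow_mul, pow_two, ht, one_pow, mul_one, ht]
      obtain ⟨n, hn⟩ := H9.exists_conj_of_odd hz (by
        rw [mul_assoc, ← mul_assoc (F.ψ b0), ← F.mem_Ct.mp hvC, mul_assoc, ht, mul_one, hv]) h6
      exact ⟨⟨isConj_iff.mpr ⟨_, by rw [← hn, inv_inv]⟩, mul_mem hvC (F.map_mem_Ct hb)⟩, h6⟩
    · rintro u ⟨hu, j, hj⟩
      obtain ⟨h, hh, rfl⟩ := (F.mem_Zs hG).mp hu
      refine ⟨h * F.ψ z * h⁻¹ * F.ψ b0, ⟨(F.isConj_B hB).trans (isConj_iff.mpr ⟨h, ?_⟩),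
        mem_zpowers_iff.mpr ⟨(2 * j + 1 : ℕ), ?_⟩⟩, by rw [mul_assoc, ht, mul_one]⟩
      · rw [map_mul, ← conj_mul, F.conj_b0 hh]
      · have hc : Commute (F.ψ z * (h * F.ψ z * h⁻¹)) (F.ψ b0) := F.mem_Ct.mp (mul_mem hzC hu.2)
        rw [zpow_natCast, ← mul_assoc, hc.mul_pow, ← hj, pow_orderOf_eq_one, hj, one_mul,
          pow_succ, pow_mul, pow_two, ht, one_pow, one_mul]
  have hV : ∀ u ∈ K, u * F.ψ z = F.ψ z * u → ∃ x ∈ V0, F.ψ x = u := fun u hu h => by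
    obtain ⟨x, hx, rfl⟩ := F.exists_S0 (k1 hu) h
    exact ⟨x, (k6 x hx).mp hu, rfl⟩
  have hV' : ∀ x ∈ V0, ∃ y ∈ V0, F.ψ y = g * F.ψ x * g⁻¹ := fun x hx => by
    rcases (mem_V0 x).mp hx with rfl | rfl | rfl | rfl
    exacts [⟨1, one_mem _, by simp⟩, ⟨_, h2, g1.symm⟩, ⟨_, mul_mem h1 h2, g2.symm⟩,
      ⟨_, h1, g3.symm⟩]
  have e2 : {u | u ∈ F.Zs ∧ ¬ Odd (orderOf (F.ψ z * u))} = {F.ψ a0, F.ψ (z * a0)} := by
    ext u
    refine ⟨fun ⟨hu, ho⟩ => ?_, ?_⟩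
    · obtain ⟨n, f1, f2, f3⟩ := H9.exists_central_involution_of_even hz (hsq hz hu.1)
        (Nat.not_odd_iff_even.mp ho)
      obtain ⟨w, hw, e⟩ := hV _ (pow_mem (mul_mem ((k6 _ (V0_spec _ h1).2.1).mpr h1)
        (k5 u hu)) n) f2
      rw [← e] at f1 f3
      have f4 : ∀ u ∈ K, u * F.ψ a0 = F.ψ a0 * u → ∃ x ∈ V0, F.ψ x = u := fun u hu h => by
        obtain ⟨x, hx, e⟩ := hV _ (k4 _ (inv_mem hg) u hu) (by
          have := conj_comm g⁻¹ h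
          rwa [← g1, show g⁻¹ * (g * F.ψ z * g⁻¹) * g⁻¹⁻¹ = F.ψ z by group] at this)
        obtain ⟨y, hy, e'⟩ := hV' x hx
        exact ⟨y, hy, by rw [e', e]; group⟩
      obtain ⟨x, hx, rfl⟩ : ∃ x ∈ V0, F.ψ x = u := by
        rcases (mem_V0 w).mp hw with rfl | rfl | rfl | rfl
        · exact absurd (map_one _) (H9.ne_one_of_orderOf_two f1)
        · exact hV u (k5 u hu) f3.symm
        · exact f4 u (k5 u hu) f3.symm
        · obtain ⟨x, hx, e⟩ := f4 _ (k4 _ (inv_mem hg) u (k5 u hu)) (by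
            have := conj_comm g⁻¹ f3.symm
            rwa [← g2, show g⁻¹ * (g * F.ψ a0 * g⁻¹) * g⁻¹⁻¹ = F.ψ a0 by group] at this)
          obtain ⟨y, hy, e'⟩ := hV' x hx
          exact ⟨y, hy, by rw [e', e]; group⟩
      rcases (mem_V0 x).mp hx with rfl | rfl | rfl | rfl
      · exact absurd (isConj_one_left.mp (map_one F.ψ ▸ hu.1)) (F.ne_one z_ne)
      · exact absurd (by rw [hz, orderOf_one]; exact odd_one) ho
      · exact Or.inl rfl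
      · exact Or.inr rfl
    · have f1 : ∀ x, A x → x ∈ V0 → F.ψ x ∈ F.Zs ∧ ¬ Odd (orderOf (F.ψ z * F.ψ x)) :=
        fun x hx hx' => ⟨⟨F.conj_A hG hx, F.map_mem_Ct (V0_spec _ hx').2.1⟩, by
          have := A_spec _ (A_spec _ hx).2.2.2.2
          rw [← map_mul, H9.orderOf_two_of (F.ne_one this.2.1) (F.sq this.1)]
          decide⟩
      rintro (rfl | rfl)
      exacts [f1 _ A_a0 h2, f1 _ (A_spec _ A_a0).2.2.2.2 (mul_mem h1 h2)]
  rw [e1, ← Set.ncard_pair (fun h => h3 (F.inj h)), ← e2, ← Set.ncard_union_eq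
    (Set.disjoint_left.mpr fun u h h' => h'.2 h.2)]
  congr 1
  ext u
  simp only [Set.mem_union, Set.mem_ofPred_eq]
  tauto

theorem ncard_pairs_t : (H5.thompsonPairs (F.ψ z) (F.ψ b0) (F.ψ b0)).ncard =
    F.Zs.ncard * (F.Zs.ncard - 2) := by
  have ht := F.sq (B_spec _ B_b0).1
  refine H6.ncard_eq_mul_of_fibers Prod.fst _ F.Zs (fun p hp => ⟨hp.1, F.mem_Ct.mpr ?_⟩) ?_
  · obtain ⟨h1, h2, h3⟩ := hp
    obtain ⟨g, hg⟩ := isConj_iff.mp h1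
    obtain ⟨k, hk⟩ := isConj_iff.mp h2
    exact (H5.commute_of_mem_zpowers_mul (hg ▸ (F.conj g).sq z_sq)
      (hk ▸ (F.conj k).sq (B_spec _ B_b0).1) ht h3).1
  · intro u hu
    obtain ⟨g, hg, rfl⟩ := (F.mem_Zs hG).mp hu
    have h1 := (F.conj g).ncard_fiber hG
    have h2 : (F.conj g).ψ b0 = F.ψ b0 := F.conj_b0 hg
    have h3 : (F.conj g).Zs = F.Zs := by
      ext v
      rw [Zs, Zs, Ct, Ct, h2]
      exact and_congr_left fun _ =>
        ⟨(F.isConj_conj g z).trans, (F.isConj_conj g z).symm.trans⟩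
    rw [h2, h3] at h1
    rw [← h1, Nat.add_sub_cancel]
    refine Set.ncard_congr (fun p _ => p.2) ?_ ?_ ?_
    · rintro ⟨x, y⟩ ⟨⟨-, h4, h5⟩, rfl⟩; exact ⟨h4, h5⟩
    · rintro ⟨x, y⟩ ⟨x', y'⟩ ⟨-, rfl⟩ ⟨-, h⟩ h'
      exact Prod.ext h.symm h'
    · rintro v ⟨h4, h5⟩
      exact ⟨(_, v), ⟨⟨hu.1, h4, h5⟩, rfl⟩, rfl⟩

theorem ncard_pairs_z : (H5.thompsonPairs (F.ψ z) (F.ψ b0) (F.ψ z)).ncard = 240 := by
  rw [← card_Tp, ← Set.ncard_coe_finset, ← Set.ncard_image_of_injective _ (F.inj.prodMap F.inj)]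
  congr 1
  ext ⟨u, v⟩
  simp only [Finset.coe_filter, Finset.mem_univ, true_and, Set.mem_image, Set.mem_ofPred_eq]
  refine ⟨fun ⟨h1, h2, h3⟩ => ?_, ?_⟩
  · obtain ⟨g, hg⟩ := isConj_iff.mp h1
    obtain ⟨k, hk⟩ := isConj_iff.mp h2
    have hv : v * v = 1 := (show k * F.ψ b0 * k⁻¹ = v from hk) ▸ (F.conj k).sq (B_spec _ B_b0).1
    obtain ⟨h4, h5⟩ := H5.commute_of_mem_zpowers_mul (hg ▸ (F.conj g).sq z_sq) hv (F.sq z_sq) h3
    obtain ⟨x, rfl⟩ := F.cent u h4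
    obtain ⟨y, rfl⟩ := F.cent v h5
    refine ⟨(x, y), ⟨?_, (F.conj_iff hG).mp h1, ?_⟩, rfl⟩
    · rcases invol y (F.sq_of hv) with h | h | h | h | h
      · rw [h, map_one] at h2
        exact absurd (isConj_one_left.mp h2) (F.ne_one (B_spec _ B_b0).2.1)
      all_goals first
        | exact h
        | exact absurd (((F.conj_iff hG).mpr (by tauto)).trans h2.symm) (F.not_conj_B B_b0)
    · obtain ⟨k, hk⟩ := mem_powers_iff_mem_zpowers.mpr h3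
      refine ⟨k % 24, Nat.mod_lt _ (by norm_num), F.inj ?_⟩
      rw [← pow_eq_pow_mod k (pow_24 _), map_pow, map_mul]
      exact hk
  · rintro ⟨⟨x, y⟩, ⟨h1, h2, k, -, hk⟩, e⟩
    obtain ⟨rfl, rfl⟩ := Prod.mk.inj e
    exact ⟨(F.conj_iff hG).mpr h2, F.isConj_B h1, mem_zpowers_iff.mpr ⟨k, by
      rw [← hk, map_pow, map_mul, zpow_natCast]⟩⟩

include F in
theorem card_eq : Nat.card G = 95040 := by
  have h1 := H5.thompson_order_formula (H9.orderOf_two_of (F.ne_one z_ne) (F.sq z_sq))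
    (H9.orderOf_two_of (F.ne_one (B_spec _ B_b0).2.1) (F.sq (B_spec _ B_b0).1))
    (F.not_conj_B B_b0) fun x hx => F.two_classes hG hx
  have h2 : centralizer {F.ψ z} = F.ψ.range := by
    ext g
    rw [mem_centralizer_singleton_iff]
    exact ⟨F.cent g, fun ⟨x, e⟩ => e ▸ F.comm_z x⟩
  have h3 : Nat.card (centralizer ({F.ψ b0} : Set G)) = _ := F.card_Ct hG
  rw [F.ncard_pairs_z hG, F.ncard_pairs_t hG, h2, h3,
    ← Nat.card_congr (MonoidHom.ofInjective F.inj).toEquiv, Hol.card] at h1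
  rcases F.ncard_Zs hG with h | h | h <;> rw [h] at h1
  · exact absurd h1 (H6.Sieve.card_ne 120 12096 (by decide +kernel) (by norm_num))
  · exact absurd h1 (H6.Sieve.card_ne 220 46656 (by decide +kernel) (by norm_num))
  · exact h1

end Fr

end Cfsg.Agent.H3
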